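import Cfsg.Agent.Lib.Forms.Unitary
import Cfsg.Agent.Lib.Classical.UnitaryStandard
import Cfsg.Agent.Lib.FormMax.Trans
import Cfsg.Prelude.Def_GeometricClasses

/-!
Maximality of subspace stabilisers in the special unitary group, by root subgroups of singular vectors.
-/

set_option autoImplicit false
set_option linter.unusedSectionVars false

namespace Cfsg.Agent.Lib.UnitaryMax

open Matrix Cfsg.Agent.Lib.Forms Cfsg.Agent.Lib.FormMax

variable {F : Type*} [Field F] [Fintype F] {n q : ℕ}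

local notation "Vs" => (Fin n → F)
local notation "h" => Cfsg.hermForm n F q

/-- The special unitary group inside `GL`. -/
abbrev suGL (n : ℕ) (F : Type*) [Field F] (q : ℕ) : Subgroup (GL (Fin n) F) :=
  Cfsg.GU n F q ⊓ Cfsg.Geo.specialLinear (Fin n) F

variable (hF : Fintype.card F = q ^ 2)
include hF

theorem q_ne_zero : q ≠ 0 := by have := two_le_of_card_sq hF; omega

theorem q_add (a b : F) : (a + b) ^ q = a ^ q + b ^ q := by simpa using map_add (qPowHom hF) a b

theorem q_sub (a b : F) : (a - b) ^ q = a ^ q - b ^ q := by simpa using map_sub (qPowHom hF) a b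

theorem q_neg (a : F) : (-a) ^ q = -(a ^ q) := by simpa using map_neg (qPowHom hF) a

theorem q_zero : (0 : F) ^ q = 0 := zero_pow (q_ne_zero hF)

theorem q_inj {a b : F} (e : a ^ q = b ^ q) : a = b := by
  rw [← pow_q_pow_q hF a, e, pow_q_pow_q hF]

theorem h_sub_left (u v w : Vs) : h (u - v) w = h u w - h v w := by
  simp only [← hermSesq_apply hF, map_sub]

theorem h_sub_right (u v w : Vs) : h u (v - w) = h u v - h u w := by
  simp only [← hermSesq_apply hF, map_sub, LinearMap.sub_apply]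

theorem h_zero_left (v : Vs) : h 0 v = 0 := by
  simp only [← hermSesq_apply hF, map_zero]

theorem h_zero_right (v : Vs) : h v 0 = 0 := by
  simp only [← hermSesq_apply hF, map_zero, LinearMap.zero_apply]

theorem h_symm {u v : Vs} (e : h u v = 0) : h v u = 0 := by rw [← herm_conj hF u v, e, q_zero hF]

theorem exists_h_ne {u : Vs} (hu : u ≠ 0) : ∃ v, h u v ≠ 0 := by
  by_contra hne
  push Not at hne
  exact hu ((hermSesq_goodForm hF).nondeg u fun y => by
    rw [hermSesq_apply]; exact h_symm hF (hne y))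

theorem exists_trace_one : ∃ τ : F, τ + τ ^ q = 1 := by
  obtain ⟨τ, hτ⟩ := exists_add_conj_eq_one (qPowHom_ne_id hF) (qPowHom_qPowHom hF)
  exact ⟨τ, by rwa [qPowHom_apply] at hτ⟩

theorem exists_moved : ∃ a : F, a ^ q ≠ a := by
  by_contra hne
  push Not at hne
  exact qPowHom_ne_id hF (RingHom.ext fun x => by rw [qPowHom_apply, RingHom.id_apply, hne x])

theorem exists_skew_ne : ∃ δ : F, δ + δ ^ q = 0 ∧ δ ≠ 0 := by
  obtain ⟨a, ha⟩ := exists_moved hF
  exact ⟨a - a ^ q, by rw [q_sub hF, pow_q_pow_q hF]; ring, sub_ne_zero.mpr fun e => ha e.symm⟩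

/-- An element of norm one other than one. -/
theorem exists_norm_one : ∃ ω : F, ω * ω ^ q = 1 ∧ ω ≠ 1 ∧ ω ≠ 0 := by
  obtain ⟨a, ha⟩ := exists_moved hF
  have ha0 : a ≠ 0 := fun e => ha (by rw [e, q_zero hF])
  have haq : a ^ q ≠ 0 := pow_ne_zero _ ha0
  refine ⟨a ^ q / a, ?_, fun e => ha ((div_eq_one_iff_eq ha0).mp e), div_ne_zero haq ha0⟩
  rw [div_pow, pow_q_pow_q hF]
  field_simp

theorem inv_skew {c : F} (hc : c + c ^ q = 0) : c⁻¹ + c⁻¹ ^ q = 0 := by
  rw [inv_pow, show c ^ q = -c from (eq_neg_of_add_eq_zero_right hc), inv_neg, add_neg_cancel]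

theorem skew_of_singular {u v : Vs} (hu : h u u = 0) (hv : h v v = 0) (huv : h (u + v) (u + v) = 0) :
    h u v + h u v ^ q = 0 := by
  rw [herm_add_left hF, herm_add_right hF, herm_add_right hF, hu, hv] at huv
  rw [herm_conj hF]; linear_combination huv

/-- Making a vector singular along a singular vector. -/
theorem exists_fill {x z : Vs} (hz : h z z = 0) (hxz : h x z ≠ 0) :
    ∃ t : F, h (x + t • z) (x + t • z) = 0 := by
  obtain ⟨τ, hτ⟩ := exists_trace_one hF
  have hzx : h z x ≠ 0 := fun e => hxz (h_symm hF e)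
  refine ⟨-(h x x * τ) / h z x, ?_⟩
  rw [herm_add_left hF, herm_add_right hF, herm_add_right hF, herm_smul_left hF, herm_smul_left hF,
    herm_smul_right hF, herm_smul_right hF, hz, mul_zero, mul_zero, add_zero, div_mul_cancel₀ _ hzx,
    div_pow, q_neg hF, mul_pow, herm_conj hF z x, herm_conj hF x x, div_mul_cancel₀ _ hxz]
  linear_combination (-(h x x)) * hτ

omit hF

theorem conjVec_dot_singular {v : Vs} (c : F) (hv : h v v = 0) : (c • conjVec q v) ⬝ᵥ v = 0 := by
  rw [smul_dotProduct, conjVec_dotProduct, hv, smul_zero]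

/-- The transvection `x ↦ x + c h(x, v) v`. -/
def T (v : Vs) (c : F) (hv : h v v = 0) : GL (Fin n) F :=
  Tr v (c • conjVec q v) (conjVec_dot_singular c hv)

theorem T_mulVec (v : Vs) (c : F) (hv : h v v = 0) (x : Vs) :
    (T v c hv : Matrix (Fin n) (Fin n) F) *ᵥ x = x + (c * h x v) • v := by
  rw [T, Tr_mulVec, smul_dotProduct, conjVec_dotProduct, smul_eq_mul]

theorem T_val (v : Vs) (c : F) (hv : h v v = 0) :
    (T v c hv : Matrix (Fin n) (Fin n) F) = Cfsg.unitaryTransvection n q v c :=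
  Matrix.ext_iff_mulVec.mpr fun x => by rw [T_mulVec, unitaryTransvection_mulVec]

theorem mem_suGL_iff {g : GL (Fin n) F} : g ∈ suGL n F q ↔
    (∀ u v, h ((g : Matrix (Fin n) (Fin n) F) *ᵥ u) ((g : Matrix (Fin n) (Fin n) F) *ᵥ v) = h u v) ∧
      (g : Matrix (Fin n) (Fin n) F).det = 1 := by
  show g ∈ Cfsg.GU n F q ∧ Matrix.GeneralLinearGroup.det g = 1 ↔ _
  rw [← Units.val_eq_one]
  exact Iff.rfl

theorem T_mem (hF : Fintype.card F = q ^ 2) (v : Vs) {c : F} (hv : h v v = 0) (hc : c + c ^ q = 0) :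
    T v c hv ∈ suGL n F q :=
  mem_suGL_iff.mpr ⟨fun x y => by rw [T_val]; exact unitaryTransvection_preserves hF hv hc x y,
    by rw [T_val]; exact det_unitaryTransvection hF c hv⟩

theorem apply_K {g : GL (Fin n) F} (hg : g ∈ suGL n F q) (u v : Vs) :
    h ((g : Matrix (Fin n) (Fin n) F) *ᵥ u) ((g : Matrix (Fin n) (Fin n) F) *ᵥ v) = h u v :=
  (mem_suGL_iff.mp hg).1 u v

theorem conj_T {g : GL (Fin n) F} (hg : g ∈ suGL n F q) (v : Vs) (c : F) (hv : h v v = 0) :
    g * T v c hv * g⁻¹ = T ((g : Matrix (Fin n) (Fin n) F) *ᵥ v) c (by rw [apply_K hg, hv]) := by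
  rw [mul_inv_eq_iff_eq_mul]
  refine gl_ext fun x => ?_
  rw [Units.val_mul, Units.val_mul, ← mulVec_mulVec, ← mulVec_mulVec, T_mulVec, T_mulVec,
    mulVec_add, mulVec_smul, apply_K hg]

/-- A matrix of determinant one as an element of `GL`. -/
noncomputable def glMk (M : Matrix (Fin n) (Fin n) F) (hd : M.det = 1) : GL (Fin n) F :=
  Matrix.GeneralLinearGroup.mkOfDetNeZero M (by rw [hd]; exact one_ne_zero)

theorem glMk_val (M : Matrix (Fin n) (Fin n) F) (hd : M.det = 1) :
    (glMk M hd : Matrix (Fin n) (Fin n) F) = M := rfl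

theorem glMk_mem (M : Matrix (Fin n) (Fin n) F) (hd : M.det = 1)
    (hM : ∀ x y, h (M *ᵥ x) (M *ᵥ y) = h x y) : glMk M hd ∈ suGL n F q :=
  mem_suGL_iff.mpr ⟨hM, hd⟩

/-- The singular vectors whose root subgroup lies in `H`. -/
def root (q : ℕ) (H : Subgroup (GL (Fin n) F)) : Set Vs :=
  {v | ∃ hv : Cfsg.hermForm n F q v v = 0, ∀ c : F, c + c ^ q = 0 → T (q := q) v c hv ∈ H}

variable {H : Subgroup (GL (Fin n) F)}

theorem root_map (hH : H ≤ suGL n F q) {g : GL (Fin n) F} (hg : g ∈ H) {v : Vs} (hv : v ∈ root q H) :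
    (g : Matrix (Fin n) (Fin n) F) *ᵥ v ∈ root q H := by
  obtain ⟨hv0, hv⟩ := hv
  refine ⟨by rw [apply_K (hH hg), hv0], fun c hc => ?_⟩
  rw [← conj_T (hH hg) v c hv0]
  exact H.mul_mem (H.mul_mem hg (hv c hc)) (H.inv_mem hg)

include hF

theorem root_smul {v : Vs} (hv : v ∈ root q H) (a : F) : a • v ∈ root q H := by
  obtain ⟨hv0, hv⟩ := hv
  have ha : h (a • v) (a • v) = 0 := by rw [herm_smul_left hF, herm_smul_right hF, hv0, mul_zero, mul_zero]
  refine ⟨ha, fun c hc => ?_⟩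
  have e : T (a • v) c ha = T v (c * (a * a ^ q)) hv0 := by
    refine gl_ext fun x => ?_
    rw [T_mulVec, T_mulVec, herm_smul_right hF, smul_smul]
    congr 2
    ring
  rw [e]
  refine hv _ ?_
  rw [mul_pow, mul_pow, pow_q_pow_q hF]
  linear_combination (a * a ^ q) * hc

/-- Adding root vectors. -/
theorem root_add (hH : H ≤ suGL n F q) {u x : Vs} (hu : u ∈ root q H) (hx : x ∈ root q H)
    (hne : h u x ≠ 0) (hsing : h (u + x) (u + x) = 0) : u + x ∈ root q H := by
  obtain ⟨hx0, hx⟩ := hx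
  have h1 := root_map hH (hx _ (inv_skew hF (skew_of_singular hF hu.1 hx0 hsing))) hu
  rwa [T_mulVec, inv_mul_cancel₀ hne, one_smul] at h1

/-- If all root subgroups are there, so is everything. -/
theorem eq_suGL (hn : 3 ≤ n) (hn2 : ¬ (n = 3 ∧ q = 2)) (hH : H ≤ suGL n F q)
    (hall : ∀ v : Vs, h v v = 0 → v ∈ root q H) : H = suGL n F q := by
  refine le_antisymm hH fun g hg => ?_
  obtain ⟨m, rfl⟩ : ∃ m, n = m + 2 := ⟨n - 2, by omega⟩
  let φ : Cfsg.SU (m + 2) F q →* GL (Fin (m + 2)) F :=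
    SpecialLinearGroup.toGL.comp (Cfsg.SU (m + 2) F q).subtype
  have hφ : ∀ A, (φ A : Matrix (Fin (m + 2)) (Fin (m + 2)) F) =
      ((A : Matrix.SpecialLinearGroup (Fin (m + 2)) F) : Matrix (Fin (m + 2)) (Fin (m + 2)) F) := fun A => rfl
  have hle : Subgroup.closure {A : ↥(Cfsg.SU (m + 2) F q) | ∃ (v : Fin (m + 2) → F) (c : F),
      Cfsg.hermForm (m + 2) F q v v = 0 ∧
      ((A : Matrix.SpecialLinearGroup (Fin (m + 2)) F) : Matrix (Fin (m + 2)) (Fin (m + 2)) F)
        = Cfsg.unitaryTransvection (m + 2) q v c} ≤ H.comap φ := by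
    refine (Subgroup.closure_le _).mpr ?_
    rintro A ⟨v, c, hv, hA⟩
    show φ A ∈ H
    have e : φ A = T v c hv := Units.ext (by rw [hφ, hA, T_val])
    rw [e]
    by_cases hv0 : v = 0
    · have : T v c hv = 1 := gl_ext fun x => by rw [T_mulVec, hv0, smul_zero, add_zero, Units.val_one, one_mulVec]
      rw [this]; exact H.one_mem
    obtain ⟨p, hp⟩ := exists_h_ne hF hv0
    have hp' : Cfsg.hermForm (m + 2) F q p v ≠ 0 := fun e => hp (h_symm hF e)
    have h1 := A.2 p p
    change Cfsg.hermForm (m + 2) F q (((A : Matrix.SpecialLinearGroup (Fin (m + 2)) F) : Matrix (Fin (m + 2)) (Fin (m + 2)) F) *ᵥ p)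
      (((A : Matrix.SpecialLinearGroup (Fin (m + 2)) F) : Matrix (Fin (m + 2)) (Fin (m + 2)) F) *ᵥ p) = _ at h1
    rw [hA] at h1
    simp only [unitaryTransvection_mulVec, herm_add_left hF, herm_add_right hF, herm_smul_left hF,
      herm_smul_right hF, hv, mul_pow] at h1
    have h2 : (c + c ^ q) * (Cfsg.hermForm (m + 2) F q p v * Cfsg.hermForm (m + 2) F q p v ^ q) = 0 := by
      linear_combination h1 + c * Cfsg.hermForm (m + 2) F q p v * (herm_conj hF p v)
    exact (hall v hv).2 c ((mul_eq_zero.mp h2).resolve_right (mul_ne_zero hp' (pow_ne_zero _ hp')))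
  rw [Classical.closure_transvections_SU hF m (by omega) (by omega)] at hle
  obtain ⟨h1, h2⟩ := mem_suGL_iff.mp hg
  let A : Cfsg.SU (m + 2) F q := ⟨⟨_, h2⟩, h1⟩
  have h3 : φ A ∈ H := hle (Subgroup.mem_top A)
  rwa [show φ A = g from Units.ext rfl] at h3

omit hF

theorem mem_stab_iff {W : Submodule F Vs} {g : GL (Fin n) F} :
    g ∈ Cfsg.Geo.subspaceStabilizer W ↔
      ∀ v, v ∈ W ↔ (g : Matrix (Fin n) (Fin n) F) *ᵥ v ∈ W := Iff.rfl

theorem mem_stab_of_maps {W : Submodule F Vs} {g : GL (Fin n) F}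
    (hm : ∀ v ∈ W, (g : Matrix (Fin n) (Fin n) F) *ᵥ v ∈ W) : g ∈ Cfsg.Geo.subspaceStabilizer W := by
  intro v
  refine ⟨hm v, fun hv => ?_⟩
  let L : W → W := fun w => ⟨_, hm w w.2⟩
  have hinj : Function.Injective L := fun a b hab => by
    have h1 := congrArg Subtype.val hab
    apply Subtype.ext
    have h2 := congrArg (((g⁻¹ : GL (Fin n) F) : Matrix (Fin n) (Fin n) F) *ᵥ ·) h1
    simpa [L, mulVec_mulVec] using h2
  obtain ⟨w, hw⟩ := (Finite.injective_iff_surjective.mp hinj) ⟨_, hv⟩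
  have h1 := congrArg (((g⁻¹ : GL (Fin n) F) : Matrix (Fin n) (Fin n) F) *ᵥ ·) (congrArg Subtype.val hw)
  simp [L, mulVec_mulVec] at h1
  exact h1 ▸ w.2

theorem T_stab {W : Submodule F Vs} {x : Vs} (c : F) (hx : h x x = 0)
    (hd : x ∈ W ∨ ∀ w ∈ W, h w x = 0) : T x c hx ∈ Cfsg.Geo.subspaceStabilizer W := by
  refine mem_stab_of_maps fun v hv => ?_
  rw [T_mulVec]
  rcases hd with hd | hd
  · exact W.add_mem hv (W.smul_mem _ hd)
  · rw [hd v hv, mul_zero, zero_smul, add_zero]; exact hv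

theorem inv_mulVec_mulVec (g : GL (Fin n) F) (x : Vs) :
    ((g⁻¹ : GL (Fin n) F) : Matrix (Fin n) (Fin n) F) *ᵥ ((g : Matrix (Fin n) (Fin n) F) *ᵥ x) = x := by
  rw [mulVec_mulVec, ← Units.val_mul, inv_mul_cancel, Units.val_one, one_mulVec]

theorem mulVec_inv_mulVec (g : GL (Fin n) F) (x : Vs) :
    (g : Matrix (Fin n) (Fin n) F) *ᵥ (((g⁻¹ : GL (Fin n) F) : Matrix (Fin n) (Fin n) F) *ᵥ x) = x := by
  rw [mulVec_mulVec, ← Units.val_mul, mul_inv_cancel, Units.val_one, one_mulVec]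

include hF

/-- The stabiliser of a totally singular subspace is maximal. -/
theorem isMaximalIn_singular (hn : 3 ≤ n) (hn2 : ¬ (n = 3 ∧ q = 2)) (W : Submodule F Vs) (hW0 : W ≠ ⊥)
    (hW : Cfsg.Geo.IsTotallySingularFor h W) :
    Cfsg.Geo.IsMaximalIn (suGL n F q) (Cfsg.Geo.subspaceStabilizer W ⊓ suGL n F q) := by
  obtain ⟨w₀, hw₀, hw₀0⟩ := Submodule.exists_mem_ne_zero_of_ne_bot hW0
  obtain ⟨δ, hδ, hδ0⟩ := exists_skew_ne hF
  refine ⟨lt_of_le_of_ne inf_le_right fun e => ?_, fun H hPH hHK => ?_⟩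
  · obtain ⟨y, hy⟩ := exists_h_ne hF hw₀0
    obtain ⟨t, ht⟩ := exists_fill hF (x := y) (hW w₀ hw₀ w₀ hw₀) (fun e' => hy (h_symm hF e'))
    set x := y + t • w₀ with hxdef
    have hwx : h w₀ x ≠ 0 := by
      rw [hxdef, herm_add_right hF, herm_smul_right hF, hW w₀ hw₀ w₀ hw₀, mul_zero, add_zero]; exact hy
    have h1 : T x δ ht ∈ Cfsg.Geo.subspaceStabilizer W := (e.ge (T_mem hF x ht hδ)).1
    have h2 := (mem_stab_iff.mp h1 w₀).mp hw₀
    rw [T_mulVec] at h2
    have h3 : x ∈ W := (Submodule.smul_mem_iff W (mul_ne_zero hδ0 hwx)).mp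
      ((Submodule.add_mem_iff_right W hw₀).mp h2)
    exact hwx (hW w₀ hw₀ x h3)
  by_cases hle : H ≤ Cfsg.Geo.subspaceStabilizer W
  · exact Or.inl (le_antisymm (le_inf hle hHK) hPH)
  right
  have hperp : ∀ v : Vs, h v v = 0 → (∀ w ∈ W, h w v = 0) → v ∈ root q H := fun v hv0 hv =>
    ⟨hv0, fun c hc => hPH ⟨T_stab c hv0 (Or.inr hv), T_mem hF v hv0 hc⟩⟩
  -- a root vector outside the perpendicular space
  obtain ⟨u, hu, a₀, ha₀, hua₀⟩ : ∃ u ∈ root q H, ∃ a ∈ W, h u a ≠ 0 := by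
    by_contra hno
    push Not at hno
    obtain ⟨g, hgH, hg⟩ := SetLike.not_le_iff_exists.mp hle
    have hS : ∀ g ∈ H, ∀ x : Vs, h x x = 0 → (∀ w ∈ W, h w x = 0) →
        h ((g : Matrix (Fin n) (Fin n) F) *ᵥ x) ((g : Matrix (Fin n) (Fin n) F) *ᵥ x) = 0 ∧
          ∀ w ∈ W, h w ((g : Matrix (Fin n) (Fin n) F) *ᵥ x) = 0 := fun g hg x hx hxW =>
      ⟨by rw [apply_K (hHK hg), hx], fun w hw => h_symm hF (hno _ (root_map hHK hg (hperp x hx hxW)) w hw)⟩
    refine hg (mem_stab_of_maps fun w hw => ?_)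
    obtain ⟨hy0, hyW⟩ := hS g hgH w (hW w hw w hw) (fun w' hw' => hW w' hw' w hw)
    set y := (g : Matrix (Fin n) (Fin n) F) *ᵥ w with hydef
    -- `y` is orthogonal to every singular vector orthogonal to `W`
    have hrad : ∀ z : Vs, h z z = 0 → (∀ w' ∈ W, h w' z = 0) → h y z = 0 := by
      intro z hz hzW
      obtain ⟨-, h1⟩ := hS g⁻¹ (H.inv_mem hgH) z hz hzW
      rw [← mulVec_inv_mulVec g z, hydef, apply_K (hHK hgH)]
      exact h1 w hw
    by_contra hyn
    have hgood := hermSesq_goodForm (n := n) hF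
    rw [← hgood.perp_perp W] at hyn
    simp only [mem_perp, hermSesq_apply, not_forall] at hyn
    obtain ⟨z, hz, hyz⟩ := hyn
    have hzW : ∀ w' ∈ W, h w' z = 0 := fun w' hw' => h_symm hF (hz w' hw')
    obtain ⟨t, ht⟩ := exists_fill hF (x := z) hy0 (fun e => hyz (h_symm hF e))
    have h1 := hrad (z + t • y) ht fun w' hw' => by
      rw [herm_add_right hF, herm_smul_right hF, hzW w' hw', hyW w' hw', mul_zero, add_zero]
    rw [herm_add_right hF, herm_smul_right hF, hy0, mul_zero, add_zero] at h1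
    exact hyz h1
  refine eq_suGL hF hn hn2 hHK fun v hv0 => ?_
  by_cases hv : ∀ w ∈ W, h w v = 0
  · exact hperp v hv0 hv
  push Not at hv
  obtain ⟨k, hk, hkv⟩ := hv
  -- a multiple of `u` and `a ∈ W` with both pairings one
  obtain ⟨u', hu', a, ha, hau, hav⟩ : ∃ u' ∈ root q H, ∃ a ∈ W, h u' a = 1 ∧ h v a = 1 := by
    have hvk : h v k ≠ 0 := fun e => hkv (h_symm hF e)
    by_cases hpar : ∀ w ∈ W, h v w * h u k = h v k * h u w
    · have huk : h u k ≠ 0 := by
        intro e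
        have := hpar a₀ ha₀
        rw [e, mul_zero, eq_comm, mul_eq_zero] at this
        exact this.elim hvk hua₀
      refine ⟨(h v k / h u k) • u, root_smul hF hu _, ((h v k)⁻¹ ^ q) • k, W.smul_mem _ hk, ?_, ?_⟩
      · rw [herm_smul_left hF, herm_smul_right hF, pow_q_pow_q hF]; field_simp
      · rw [herm_smul_right hF, pow_q_pow_q hF]; field_simp
    push Not at hpar
    obtain ⟨k', hk', hne⟩ := hpar
    refine ⟨u, hu, ?_⟩
    have hD : h u k * h v k' - h v k * h u k' ≠ 0 := sub_ne_zero.mpr (by rwa [mul_comm])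
    refine ⟨(((h v k' - h u k') / (h u k * h v k' - h v k * h u k')) ^ q) • k +
      (((h u k - h v k) / (h u k * h v k' - h v k * h u k')) ^ q) • k',
      W.add_mem (W.smul_mem _ hk) (W.smul_mem _ hk'), ?_, ?_⟩ <;>
    · rw [herm_add_right hF, herm_smul_right hF, herm_smul_right hF, pow_q_pow_q hF, pow_q_pow_q hF,
        div_mul_eq_mul_div, div_mul_eq_mul_div, ← add_div, div_eq_one_iff_eq hD]
      ring
  have hu0 := hu'.1
  have hba : h (u' - v) a = 0 := by rw [h_sub_left hF, hau, hav, sub_self]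
  have hd : (-(h u' (u' - v))) ^ q + -(h u' (u' - v)) + h (u' - v) (u' - v) = 0 := by
    simp only [h_sub_left hF, h_sub_right hF, q_neg hF, q_sub hF, herm_conj hF, hu0, hv0, q_zero hF]
    ring
  have hE : glMk (eichlerMatrix q a (u' - v) (-(h u' (u' - v))))
      (det_eichlerMatrix hF _ (hW a ha a ha) hba) ∈ H := by
    refine hPH ⟨mem_stab_of_maps fun w hw => ?_,
      glMk_mem _ _ (eichlerMatrix_preserves hF (hW a ha a ha) hba hd)⟩
    rw [glMk_val, eichlerMatrix_mulVec, hW w hw a ha, zero_smul, sub_zero]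
    exact W.add_mem hw (W.smul_mem _ ha)
  have h1 := root_map hHK hE hu'
  rw [glMk_val, eichlerMatrix_mulVec, hau, one_smul, mul_one, add_neg_cancel, zero_smul, add_zero,
    sub_sub_cancel] at h1
  exact h1

/-- Singular vectors span a nondegenerate subspace containing one. -/
theorem span_singular {X : Submodule F Vs} {z : Vs} (hz : z ∈ X) (hz0 : h z z = 0)
    (hzX : ∃ y ∈ X, h y z ≠ 0) : X ≤ Submodule.span F {x | x ∈ X ∧ h x x = 0} := by
  set S := Submodule.span F {x | x ∈ X ∧ h x x = 0} with hS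
  have hzS : z ∈ S := Submodule.subset_span ⟨hz, hz0⟩
  have hnon : ∀ y ∈ X, h y z ≠ 0 → y ∈ S := by
    intro y hy hyz
    obtain ⟨t, ht⟩ := exists_fill hF hz0 hyz
    exact (Submodule.add_mem_iff_left S (S.smul_mem t hzS)).mp
      (Submodule.subset_span ⟨X.add_mem hy (X.smul_mem t hz), ht⟩)
  intro x hx
  by_cases hxz : h x z = 0
  · obtain ⟨y, hy, hyz⟩ := hzX
    exact (Submodule.add_mem_iff_left S (hnon y hy hyz)).mp
      (hnon (x + y) (X.add_mem hx hy) (by rwa [herm_add_left hF, hxz, zero_add]))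
  · exact hnon x hx hxz

/-- A large nondegenerate subspace has vectors of every norm orthogonal to few given ones. -/
theorem exists_orth_norm {X : Submodule F Vs} (hX : ∀ x ∈ X, x ≠ 0 → ∃ y ∈ X, h x y ≠ 0)
    {m : ℕ} (hdim : 2 * m < Module.finrank F X) (s : Fin m → Vs) {r : F} (hr : r ^ q = r) :
    ∃ z ∈ X, (∀ i, h z (s i) = 0) ∧ h z z = r := by
  classical
  have hgood := hermSesq_goodForm (n := n) hF
  let L : X →ₗ[F] (Fin m → F) := LinearMap.pi fun i => (hermSesq hF n (s i)).comp X.subtype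
  set U : Submodule F Vs := L.ker.map X.subtype with hU
  have hUmem : ∀ z ∈ U, z ∈ X ∧ ∀ i, h z (s i) = 0 := by
    rintro _ ⟨z, hz, rfl⟩
    exact ⟨z.2, fun i => congrFun (LinearMap.mem_ker.mp hz) i⟩
  have hUdim : Module.finrank F X ≤ m + Module.finrank F U := by
    rw [hU, (Submodule.equivMapOfInjective _ X.subtype_injective L.ker).finrank_eq.symm,
      ← L.finrank_range_add_finrank_ker]
    have := L.range.finrank_le
    rw [Module.finrank_fin_fun] at this
    omega
  obtain ⟨z, hz, hzz⟩ : ∃ z ∈ U, h z z ≠ 0 := by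
    by_contra hno
    push Not at hno
    have hts : ∀ u ∈ U, ∀ w ∈ U, hermSesq hF n u w = 0 :=
      hermitian_polarization (qPowHom_ne_id hF) (hermSesq_isSymm hF) U fun u hu => hno u hu
    have hle : U ⊔ perp (hermSesq hF n) X ≤ perp (hermSesq hF n) U := by
      refine sup_le (fun w hw u hu => hts u hu w hw) fun w hw u hu => ?_
      exact hw u (hUmem u hu).1
    have hdisj : U ⊓ perp (hermSesq hF n) X = ⊥ := by
      rw [eq_bot_iff]
      rintro x ⟨hx, hx'⟩
      rw [Submodule.mem_bot]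
      by_contra hx0
      obtain ⟨y, hy, hxy⟩ := hX x (hUmem x hx).1 hx0
      exact hxy (hx' y hy)
    have h1 := Submodule.finrank_mono hle
    have h2 := Submodule.finrank_sup_add_finrank_inf_eq U (perp (hermSesq hF n) X)
    rw [hdisj, finrank_bot, add_zero] at h2
    have h3 := hgood.finrank_add_finrank_perp U
    have h4 := hgood.finrank_add_finrank_perp X
    omega
  obtain ⟨c, hc⟩ := exists_norm_eq (qPowHom_ne_id hF) (qPowHom_qPowHom hF) (c := r / h z z)
    (by rw [qPowHom_apply, div_pow, hr, herm_conj hF])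
  rw [qPowHom_apply] at hc
  refine ⟨c • z, X.smul_mem _ (hUmem z hz).1, fun i => ?_, ?_⟩
  · rw [herm_smul_left hF, (hUmem z hz).2 i, mul_zero]
  · rw [herm_smul_left hF, herm_smul_right hF, ← mul_assoc, hc, div_mul_cancel₀ _ hzz]

omit hF in
theorem norm_add_smul (hF : Fintype.card F = q ^ 2) (t z : Vs) (c : F) :
    h (t + c • z) (t + c • z) = h t t + c ^ q * h t z + c * h z t + c * c ^ q * h z z := by
  rw [herm_add_left hF, herm_add_right hF, herm_add_right hF, herm_smul_left hF, herm_smul_left hF,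
    herm_smul_right hF, herm_smul_right hF]
  ring

/-- Prescribed norm along an anisotropic vector. -/
theorem prescribed_aux {X : Submodule F Vs} {b b' t₀ : Vs} (ht₀ : t₀ ∈ X) {α β : F} (e1 : h t₀ b = α)
    (e2 : h t₀ b' = β) (hex : ∃ z ∈ X, h z b = 0 ∧ h z b' = 0 ∧ h z z ≠ 0) {r : F} (hr : r ^ q = r) :
    ∃ t ∈ X, h t b = α ∧ h t b' = β ∧ h t t = r := by
  obtain ⟨z, hz, hz0, hz1, hzz⟩ := hex
  set w := h z z with hw
  have hwq : w ^ q = w := herm_conj hF z z
  set a := h t₀ z with ha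
  obtain ⟨μ, hμ⟩ := exists_norm_eq (qPowHom_ne_id hF) (qPowHom_qPowHom hF)
    (c := (r - h t₀ t₀ + a * a ^ q / w) / w) (by
      rw [qPowHom_apply, div_pow, q_add hF, q_sub hF, div_pow, hr, herm_conj hF, mul_pow, pow_q_pow_q hF, hwq]
      ring)
  rw [qPowHom_apply] at hμ
  refine ⟨t₀ + (μ - a / w) • z, X.add_mem ht₀ (X.smul_mem _ hz), ?_, ?_, ?_⟩
  · rw [herm_add_left hF, e1, herm_smul_left hF, hz0, mul_zero, add_zero]
  · rw [herm_add_left hF, e2, herm_smul_left hF, hz1, mul_zero, add_zero]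
  · rw [norm_add_smul hF, ← ha, q_sub hF, div_pow, hwq, show h z t₀ = a ^ q by rw [ha, herm_conj hF], ← hw]
    have h2 : μ * μ ^ q * w = r - h t₀ t₀ + a * a ^ q / w := by rw [hμ, div_mul_cancel₀ _ hzz]
    field_simp at h2 ⊢
    linear_combination h2

/-- Prescribed norm when everything orthogonal to two vectors is singular. -/
theorem prescribed_degenerate {X : Submodule F Vs} (hX : ∀ x ∈ X, x ≠ 0 → ∃ y ∈ X, h x y ≠ 0)
    (hdim : 4 ≤ Module.finrank F X) {b b' t₀ : Vs} (hb : b ∈ X) (hb' : b' ∈ X) (ht₀ : t₀ ∈ X)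
    {α β : F} (e1 : h t₀ b = α) (e2 : h t₀ b' = β) {r : F} (hr : r ^ q = r)
    (hex : ¬ ∃ z ∈ X, h z b = 0 ∧ h z b' = 0 ∧ h z z ≠ 0) (hcond : (α ≠ 0 ∨ β ≠ 0) ∨ h b b = r) :
    ∃ t ∈ X, h t b = α ∧ h t b' = β ∧ h t t = r := by
  classical
  push Not at hex
  have hg := hermSesq_goodForm (n := n) hF
  let L : X →ₗ[F] F × F :=
    ((hermSesq hF n b).comp X.subtype).prod ((hermSesq hF n b').comp X.subtype)
  set U : Submodule F Vs := L.ker.map X.subtype with hU
  have hUmem : ∀ z ∈ U, z ∈ X ∧ h z b = 0 ∧ h z b' = 0 := by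
    rintro _ ⟨z, hz, rfl⟩
    exact ⟨z.2, congrArg Prod.fst (LinearMap.mem_ker.mp hz), congrArg Prod.snd (LinearMap.mem_ker.mp hz)⟩
  have hUmem' : ∀ z ∈ X, h z b = 0 → h z b' = 0 → z ∈ U := fun z hz hzb hzb' =>
    ⟨⟨z, hz⟩, LinearMap.mem_ker.mpr (Prod.ext hzb hzb'), rfl⟩
  have hts : ∀ u ∈ U, ∀ w ∈ U, hermSesq hF n u w = 0 :=
    hermitian_polarization (qPowHom_ne_id hF) (hermSesq_isSymm hF) U fun u hu => by
      rw [hermSesq_apply]; exact hex u (hUmem u hu).1 (hUmem u hu).2.1 (hUmem u hu).2.2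
  by_cases hpair : ∃ z ∈ U, h t₀ z ≠ 0
  · obtain ⟨z, hz, htz⟩ := hpair
    obtain ⟨hzX, hzb, hzb'⟩ := hUmem z hz
    have hzz : h z z = 0 := hex z hzX hzb hzb'
    obtain ⟨τ, hτ⟩ := exists_trace_one hF
    refine ⟨t₀ + ((r - h t₀ t₀) * τ / h z t₀) • z, X.add_mem ht₀ (X.smul_mem _ hzX), ?_, ?_, ?_⟩
    · rw [herm_add_left hF, e1, herm_smul_left hF, hzb, mul_zero, add_zero]
    · rw [herm_add_left hF, e2, herm_smul_left hF, hzb', mul_zero, add_zero]
    · have hzt : h z t₀ ≠ 0 := fun e => htz (h_symm hF e)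
      rw [norm_add_smul hF, hzz, mul_zero, add_zero, div_mul_cancel₀ _ hzt, div_pow,
        herm_conj hF z t₀, div_mul_cancel₀ _ htz, mul_pow, q_sub hF, hr, herm_conj hF]
      linear_combination (r - h t₀ t₀) * hτ
  push Not at hpair
  set W := X ⊓ perp (hermSesq hF n) U with hW
  have hWmem : ∀ v ∈ X, (∀ u ∈ U, h v u = 0) → v ∈ W := fun v hv hvu =>
    ⟨hv, fun u hu => by rw [hermSesq_apply]; exact hvu u hu⟩
  have hUW : U ≤ W := fun u hu => hWmem u (hUmem u hu).1 fun w hw => by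
    rw [← hermSesq_apply hF]; exact hts w hw u hu
  have h1 : W ⊔ perp (hermSesq hF n) X ≤ perp (hermSesq hF n) U :=
    sup_le inf_le_right fun w hw u hu => hw u (hUmem u hu).1
  have hdisj : W ⊓ perp (hermSesq hF n) X = ⊥ := by
    rw [eq_bot_iff]
    rintro x ⟨⟨hx, -⟩, hx'⟩
    rw [Submodule.mem_bot]
    by_contra hx0
    obtain ⟨y, hy, hxy⟩ := hX x hx hx0
    exact hxy (hx' y hy)
  have h2 := Submodule.finrank_sup_add_finrank_inf_eq W (perp (hermSesq hF n) X)
  rw [hdisj, finrank_bot, add_zero] at h2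
  have h3 := hg.finrank_add_finrank_perp U
  have h4 := hg.finrank_add_finrank_perp X
  have h5 := Submodule.finrank_mono h1
  have h6 : Module.finrank F X ≤ 2 + Module.finrank F U := by
    rw [hU, (Submodule.equivMapOfInjective _ X.subtype_injective L.ker).finrank_eq.symm,
      ← L.finrank_range_add_finrank_ker]
    have := L.range.finrank_le
    rw [Module.finrank_prod, Module.finrank_self] at this
    omega
  have hWU : U = W := Submodule.eq_of_le_of_finrank_le hUW (by omega)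
  have hbU : b ∈ U := hWU ▸ hWmem b hb fun u hu => h_symm hF (hUmem u hu).2.1
  have htU : t₀ ∈ U := hWU ▸ hWmem t₀ ht₀ hpair
  obtain ⟨-, htb, htb'⟩ := hUmem t₀ htU
  rw [e1] at htb
  rw [e2] at htb'
  have hbb : h b b = r := hcond.resolve_left (not_or_intro (not_not.mpr htb) (not_not.mpr htb'))
  refine ⟨0, X.zero_mem, ?_, ?_, ?_⟩
  · rw [h_zero_left hF, htb]
  · rw [h_zero_left hF, htb']
  · rw [h_zero_left hF, ← hbb]; exact (hUmem b hbU).2.1.symm

/-- Prescribed products with two independent vectors, and prescribed norm. -/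
theorem exists_prescribed {X : Submodule F Vs} (hX : ∀ x ∈ X, x ≠ 0 → ∃ y ∈ X, h x y ≠ 0)
    (hdim : 4 ≤ Module.finrank F X) {b b' : Vs} (hb : b ∈ X) (hb' : b' ∈ X)
    (hind : ∀ c d : F, c • b + d • b' = 0 → c = 0 ∧ d = 0) (α β : F) {r : F} (hr : r ^ q = r)
    (hcond : (α ≠ 0 ∨ β ≠ 0) ∨ h b b = r) :
    ∃ t ∈ X, h t b = α ∧ h t b' = β ∧ h t t = r := by
  let L : X →ₗ[F] F × F :=
    ((hermSesq hF n b).comp X.subtype).prod ((hermSesq hF n b').comp X.subtype)
  have hsurj : L.range = ⊤ := by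
    by_contra hne
    obtain ⟨p, hp⟩ : ∃ p, p ∉ L.range := by
      by_contra h'; push Not at h'; exact hne (eq_top_iff.mpr fun p _ => h' p)
    obtain ⟨φ, hφp, hφ⟩ := Submodule.exists_dual_map_eq_bot_of_notMem hp inferInstance
    set c := φ (1, 0) with hc
    set d := φ (0, 1) with hd
    have hφval : ∀ x y : F, φ (x, y) = c * x + d * y := fun x y => by
      rw [show (x, y) = x • ((1 : F), (0 : F)) + y • ((0 : F), (1 : F)) by simp, map_add, map_smul,
        map_smul, smul_eq_mul, smul_eq_mul, hc, hd]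
      ring
    have he : c ^ q • b + d ^ q • b' = 0 := by
      by_contra hne'
      obtain ⟨t, ht, hte⟩ := hX _ (X.add_mem (X.smul_mem _ hb) (X.smul_mem _ hb')) hne'
      refine hte (h_symm hF ?_)
      rw [herm_add_right hF, herm_smul_right hF, herm_smul_right hF, pow_q_pow_q hF, pow_q_pow_q hF,
        ← hφval]
      have : φ (L ⟨t, ht⟩) ∈ L.range.map φ := Submodule.mem_map_of_mem ⟨_, rfl⟩
      rw [hφ, Submodule.mem_bot] at this
      exact this
    obtain ⟨hc0, hd0⟩ := hind _ _ he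
    refine hφp ?_
    rw [← Prod.mk.eta (p := p), hφval, eq_zero_of_pow_eq_zero hc0, eq_zero_of_pow_eq_zero hd0]
    ring
  obtain ⟨t₀, ht₀⟩ := (hsurj ▸ Submodule.mem_top : (α, β) ∈ L.range)
  have e1 : h (t₀ : Vs) b = α := congrArg Prod.fst ht₀
  have e2 : h (t₀ : Vs) b' = β := congrArg Prod.snd ht₀
  rcases eq_or_ne (h b b) r with hbr | hbr'
  all_goals
    by_cases hex : ∃ z ∈ X, h z b = 0 ∧ h z b' = 0 ∧ h z z ≠ 0
  · exact prescribed_aux hF t₀.2 e1 e2 hex hr
  · exact prescribed_degenerate hF hX hdim hb hb' t₀.2 e1 e2 hr hex (Or.inr hbr)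
  · exact prescribed_aux hF t₀.2 e1 e2 hex hr
  · exact prescribed_degenerate hF hX hdim hb hb' t₀.2 e1 e2 hr hex (hcond.imp id (absurd · hbr'))

/-- A vector independent of a given one and orthogonal to it. -/
theorem exists_indep {X : Submodule F Vs} (hX : ∀ x ∈ X, x ≠ 0 → ∃ y ∈ X, h x y ≠ 0)
    (hdim : 4 ≤ Module.finrank F X) {b : Vs} (hb0 : b ≠ 0) :
    ∃ b' ∈ X, h b' b = 0 ∧ ∀ c d : F, c • b + d • b' = 0 → c = 0 ∧ d = 0 := by
  obtain ⟨z, hz, hzs, hzz⟩ := exists_orth_norm hF hX (m := 1) (by omega) (fun _ => b) (r := 1) (one_pow q)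
  refine ⟨z, hz, hzs 0, fun c d e => ?_⟩
  have hd : d = 0 := by
    have := congrArg (h · z) e
    simp only [herm_add_left hF, herm_smul_left hF, h_zero_left hF] at this
    rwa [h_symm hF (hzs 0), hzz, mul_zero, zero_add, mul_one] at this
  rw [hd, zero_smul, add_zero] at e
  exact ⟨(smul_eq_zero.mp e).resolve_right hb0, hd⟩

/-- Nonzero vectors of every norm. -/
theorem exists_ne_norm {X : Submodule F Vs} (hX : ∀ x ∈ X, x ≠ 0 → ∃ y ∈ X, h x y ≠ 0)
    (hdim : 4 ≤ Module.finrank F X) {r : F} (hr : r ^ q = r) : ∃ b ∈ X, b ≠ 0 ∧ h b b = r := by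
  obtain ⟨z, hz, -, hzz⟩ := exists_orth_norm hF hX (m := 1) (by omega) (fun _ => 0) (r := 1) (one_pow q)
  have hz0 : z ≠ 0 := fun e => by rw [e, h_zero_left hF] at hzz; exact zero_ne_one hzz
  obtain ⟨z', hz', -, hind⟩ := exists_indep hF hX hdim hz0
  obtain ⟨t, ht, h1, -, h3⟩ := exists_prescribed hF hX hdim hz hz' hind 1 0 hr (Or.inl (Or.inl one_ne_zero))
  exact ⟨t, ht, fun e => by rw [e, h_zero_left hF] at h1; exact zero_ne_one h1, h3⟩

/-- In a large component, mixed root vectors only depend on the other component. -/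
theorem root_component (hH : H ≤ suGL n F q) {X : Submodule F Vs}
    (hX : ∀ x ∈ X, x ≠ 0 → ∃ y ∈ X, h x y ≠ 0) (hdim : 4 ≤ Module.finrank F X)
    (hroot : ∀ x ∈ X, h x x = 0 → x ∈ root q H) {a b b' : Vs} (ha : ∀ x ∈ X, h a x = 0) (hb : b ∈ X)
    (hb0 : b ≠ 0) (hb' : b' ∈ X) (hb'0 : b' ≠ 0) (hnorm : h b b = h b' b') (hab : a + b ∈ root q H) :
    a + b' ∈ root q H := by
  obtain ⟨δ, hδ, hδ0⟩ := exists_skew_ne hF
  set r := h b b with hr
  have hrr : r ^ q = r := herm_conj hF b b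
  have hδq : δ ^ q = -δ := eq_neg_of_add_eq_zero_right hδ
  have haa : h a a + r = 0 := by
    have := hab.1
    rw [herm_add_left hF, herm_add_right hF, herm_add_right hF, ha b hb, h_symm hF (ha b hb), ← hr] at this
    linear_combination this
  -- one step
  have step : ∀ s t : Vs, s ∈ X → t ∈ X → h s s = r → h t t = r → a + s ∈ root q H →
      h t s = r + δ ∨ h t s = r - δ → a + t ∈ root q H := by
    intro s t hs ht hss htt hroot' hts
    have hd : t - s ∈ X := X.sub_mem ht hs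
    have hst : h s t = h t s ^ q := (herm_conj hF t s).symm
    have hsum : h s t + h t s = r + r ∧ h s t ≠ r := by
      rw [hst]
      rcases hts with e | e <;>
      · rw [e]
        simp only [q_add hF, q_sub hF, hrr, hδq]
        exact ⟨by ring, fun e' => hδ0 (by first | linear_combination e' | linear_combination -e')⟩
    have hts0 : h (t - s) (t - s) = 0 := by
      simp only [h_sub_left hF, h_sub_right hF, hss, htt]
      linear_combination -hsum.1
    have h1 : a + s + (t - s) = a + t := by abel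
    rw [← h1]
    refine root_add hF hH hroot' (hroot _ hd hts0) ?_ ?_
    · rw [herm_add_left hF, ha _ hd, zero_add, h_sub_right hF, hss]
      exact sub_ne_zero.mpr hsum.2
    · rw [h1, herm_add_left hF, herm_add_right hF, herm_add_right hF, ha t ht, h_symm hF (ha t ht), htt]
      linear_combination haa
  have two : ∀ s s' : Vs, s ∈ X → s' ∈ X → h s s = r → h s' s' = r →
      (∀ c d : F, c • s + d • s' = 0 → c = 0 ∧ d = 0) → a + s ∈ root q H → a + s' ∈ root q H := by
    intro s s' hs hs' hss hss' hind hsr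
    obtain ⟨t, ht, h1, h2, h3⟩ := exists_prescribed hF hX hdim hs hs' hind (r + δ) (r + δ) hrr (Or.inr hss)
    refine step t s' ht hs' h3 hss' (step s t hs ht hss h3 hsr (Or.inl h1)) (Or.inr ?_)
    rw [← herm_conj hF t s', h2, q_add hF, hrr, hδq, sub_eq_add_neg]
  by_cases hdep : ∀ c d : F, c • b + d • b' = 0 → c = 0 ∧ d = 0
  · exact two b b' hb hb' rfl hnorm.symm hdep hab
  · obtain ⟨b'', hb'', -, hind⟩ := exists_indep hF hX hdim hb0
    obtain ⟨t, ht, h1, -, h3⟩ := exists_prescribed hF hX hdim hb hb'' hind (r + δ) 0 hrr (Or.inr rfl)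
    have htb : ∀ μ : F, t ≠ μ • b := by
      intro μ e
      rw [e, herm_smul_left hF, ← hr] at h1
      rw [e, herm_smul_left hF, herm_smul_right hF, ← hr] at h3
      have h4 := congrArg (· ^ q) h1
      simp only [mul_pow, q_add hF, hrr, hδq] at h4
      refine hδ0 (pow_eq_zero_iff two_ne_zero |>.mp (?_ : δ ^ 2 = 0))
      linear_combination -r * h3 + (μ ^ q * r) * h1 + (r + δ) * h4
    push Not at hdep
    obtain ⟨c, d, hcd, hne⟩ := hdep
    have hd0 : d ≠ 0 := fun e => by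
      subst e
      rw [zero_smul, add_zero] at hcd
      exact hne ((smul_eq_zero.mp hcd).resolve_right hb0) rfl
    have hb'eq : b' = (-c / d) • b := by
      rw [div_eq_inv_mul, mul_smul, neg_smul, eq_neg_of_add_eq_zero_left hcd, neg_neg, smul_smul,
        inv_mul_cancel₀ hd0, one_smul]
    refine two t b' ht hb' h3 hnorm.symm (fun x y e => ?_)
      (step b t hb ht rfl h3 hab (Or.inl h1))
    by_cases hx : x = 0
    · subst hx
      rw [zero_smul, zero_add] at e
      exact ⟨rfl, (smul_eq_zero.mp e).resolve_right hb'0⟩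
    · refine absurd ?_ (htb (-(y * (-c / d)) / x))
      rw [hb'eq, smul_smul, add_eq_zero_iff_eq_neg, ← neg_smul] at e
      rw [div_eq_inv_mul, mul_smul, ← e, smul_smul, inv_mul_cancel₀ hx, one_smul]

/-- The stabiliser of a small nondegenerate subspace is maximal. -/
theorem isMaximalIn_nondegenerate (hn : 6 ≤ n) (W : Submodule F Vs) (hW0 : W ≠ ⊥)
    (hW : Cfsg.Geo.IsNondegenerateOn h W) (hdim : 2 * Module.finrank F W < n) :
    Cfsg.Geo.IsMaximalIn (suGL n F q) (Cfsg.Geo.subspaceStabilizer W ⊓ suGL n F q) := by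
  classical
  have hg := hermSesq_goodForm (n := n) hF
  obtain ⟨δ, hδ, hδ0⟩ := exists_skew_ne hF
  have hδq : δ ^ q = -δ := eq_neg_of_add_eq_zero_right hδ
  set W' := perp (hermSesq hF n) W with hW'
  have hW'mem : ∀ {v : Vs}, v ∈ W' ↔ ∀ w ∈ W, h v w = 0 := by
    intro v; constructor <;> intro hv w hw <;> simpa using hv w hw
  have hrank : Module.finrank F W + Module.finrank F W' = n := by
    rw [hg.finrank_add_finrank_perp, Module.finrank_fin_fun]
  have h5 : 4 ≤ Module.finrank F W' := by omega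
  have horth : ∀ w ∈ W, ∀ x ∈ W', h w x = 0 := fun w hw x hx => h_symm hF (hW'mem.mp hx w hw)
  have hdisj : W ⊓ W' = ⊥ := by
    rw [eq_bot_iff]
    rintro v ⟨hv, hv'⟩
    rw [Submodule.mem_bot]
    by_contra h0
    obtain ⟨x, hx, hxv⟩ := (hW v hv h0).1
    exact hxv (horth x hx v hv')
  have hsup : W ⊔ W' = ⊤ := by
    refine Submodule.eq_top_of_finrank_eq ?_
    have h1 := Submodule.finrank_sup_add_finrank_inf_eq W W'
    rw [hdisj, finrank_bot, add_zero, hrank] at h1
    rw [h1, Module.finrank_fin_fun]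
  have hnd' : ∀ x ∈ W', x ≠ 0 → ∃ y ∈ W', h x y ≠ 0 := by
    intro x hx h0
    obtain ⟨y, hy⟩ := exists_h_ne hF h0
    obtain ⟨w, hw, w', hw', rfl⟩ := Submodule.mem_sup.mp (hsup.ge (Submodule.mem_top (x := y)))
    refine ⟨w', hw', fun e => hy ?_⟩
    rw [herm_add_right hF, e, add_zero, hW'mem.mp hx w hw]
  have hsing : ∀ p p' : Vs, p ∈ W → p' ∈ W' → h (p + p') (p + p') = h p p + h p' p' := by
    intro p p' hp hp'
    rw [herm_add_left hF, herm_add_right hF, herm_add_right hF, horth p hp p' hp', hW'mem.mp hp' p hp]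
    ring
  refine ⟨lt_of_le_of_ne inf_le_right fun e => ?_, fun H hPH hHK => ?_⟩
  · obtain ⟨w, hw, hw0⟩ := Submodule.exists_mem_ne_zero_of_ne_bot hW0
    obtain ⟨b, hb, hb0, hbb⟩ := exists_ne_norm hF hnd' h5 (r := -(h w w))
      (by rw [q_neg hF, herm_conj hF])
    have h0 : h (w + b) (w + b) = 0 := by rw [hsing w b hw hb, hbb, add_neg_cancel]
    obtain ⟨z, hz, hzw⟩ := (hW w hw hw0).1
    have h1 : T (w + b) δ h0 ∈ Cfsg.Geo.subspaceStabilizer W := (e.ge (T_mem hF _ h0 hδ)).1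
    have h2 := (mem_stab_iff.mp h1 z).mp hz
    rw [T_mulVec, Submodule.add_mem_iff_right W hz, herm_add_right hF, horth z hz b hb, add_zero,
      Submodule.smul_mem_iff W (mul_ne_zero hδ0 hzw), Submodule.add_mem_iff_right W hw] at h2
    have h4 : b ∈ W ⊓ W' := ⟨h2, hb⟩
    rw [hdisj, Submodule.mem_bot] at h4
    exact hb0 h4
  by_cases hle : H ≤ Cfsg.Geo.subspaceStabilizer W
  · exact Or.inl (le_antisymm (le_inf hle hHK) hPH)
  right
  have hWroot : ∀ w ∈ W, h w w = 0 → w ∈ root q H := fun w hw h0 =>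
    ⟨h0, fun c hc => hPH ⟨T_stab c h0 (Or.inl hw), T_mem hF w h0 hc⟩⟩
  have hW'root : ∀ w ∈ W', h w w = 0 → w ∈ root q H := fun w hw h0 =>
    ⟨h0, fun c hc => hPH ⟨T_stab c h0 (Or.inr fun x hx => horth x hx w hw), T_mem hF w h0 hc⟩⟩
  -- a mixed root vector
  obtain ⟨a, ha, b, hb, ha0, hb0, hab⟩ :
      ∃ a ∈ W, ∃ b ∈ W', a ≠ 0 ∧ b ≠ 0 ∧ a + b ∈ root q H := by
    by_contra hno
    push Not at hno
    obtain ⟨g, hgH, hgW⟩ := SetLike.not_le_iff_exists.mp hle
    let L : Vs →ₗ[F] Vs := Matrix.mulVecLin (g : Matrix (Fin n) (Fin n) F)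
    have hunion : ∀ s ∈ root q H, s ∈ W ∨ s ∈ W' := by
      intro s hs
      obtain ⟨p, hp, p', hp', rfl⟩ := Submodule.mem_sup.mp (hsup.ge (Submodule.mem_top (x := s)))
      rcases eq_or_ne p 0 with rfl | hp0
      · right; rwa [zero_add]
      rcases eq_or_ne p' 0 with rfl | hp'0
      · left; rwa [add_zero]
      exact absurd hs (hno p hp p' hp' hp0 hp'0)
    have hLinj : Function.Injective L := fun x y hxy => by
      have h2 := congrArg (((g⁻¹ : GL (Fin n) F) : Matrix (Fin n) (Fin n) F) *ᵥ ·)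
        (show (g : Matrix (Fin n) (Fin n) F) *ᵥ x = (g : Matrix (Fin n) (Fin n) F) *ᵥ y from hxy)
      simpa [inv_mulVec_mulVec] using h2
    -- images of singular vectors of `W'` which are not orthogonal lie on the same side
    have hside : ∀ x y : Vs, x ∈ W' → h x x = 0 → y ∈ W' → h y y = 0 → h x y ≠ 0 → L x ∈ W → L y ∈ W := by
      intro x y hx hx0 hy hy0 hxy hLx
      rcases hunion _ (root_map hHK hgH (hW'root y hy hy0)) with h' | h'
      · exact h'
      · exfalso
        refine hxy ?_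
        rw [← apply_K (hHK hgH)]
        exact horth _ hLx _ h'
    have hall : ∀ x y : Vs, x ∈ W' → h x x = 0 → y ∈ W' → h y y = 0 → x ≠ 0 → y ≠ 0 → L x ∈ W → L y ∈ W := by
      intro x y hx hx0 hy hy0 hxne hyne hLx
      by_cases hxy : h x y = 0
      · obtain ⟨z₁, hz₁, hxz₁⟩ := hnd' x hx hxne
        obtain ⟨z₂, hz₂, hyz₂⟩ := hnd' y hy hyne
        obtain ⟨z, hz, hxz, hyz⟩ : ∃ z ∈ W', h z x ≠ 0 ∧ h z y ≠ 0 := by
          by_cases e1 : h z₁ y = 0
          · by_cases e2 : h z₂ x = 0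
            · refine ⟨z₁ + z₂, W'.add_mem hz₁ hz₂, ?_, ?_⟩
              · rw [herm_add_left hF, e2, add_zero]; exact fun e => hxz₁ (h_symm hF e)
              · rw [herm_add_left hF, e1, zero_add]; exact fun e => hyz₂ (h_symm hF e)
            · exact ⟨z₂, hz₂, e2, fun e => hyz₂ (h_symm hF e)⟩
          · exact ⟨z₁, hz₁, fun e => hxz₁ (h_symm hF e), e1⟩
        obtain ⟨t, ht⟩ := exists_fill hF hx0 hxz
        have hz'x : h (z + t • x) x = h z x := by
          rw [herm_add_left hF, herm_smul_left hF, hx0, mul_zero, add_zero]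
        have hz'y : h (z + t • x) y = h z y := by
          rw [herm_add_left hF, herm_smul_left hF, hxy, mul_zero, add_zero]
        have hz'W : z + t • x ∈ W' := W'.add_mem hz (W'.smul_mem t hx)
        exact hside _ y hz'W ht hy hy0 (hz'y ▸ hyz)
          (hside x _ hx hx0 hz'W ht (fun e => hxz (hz'x ▸ h_symm hF e)) hLx)
      · exact hside x y hx hx0 hy hy0 hxy hLx
    obtain ⟨z, hz, hz0, hzz⟩ := exists_ne_norm hF hnd' h5 (r := 0) (q_zero hF)
    obtain ⟨z₁, hz₁, hzz₁⟩ := hnd' z hz hz0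
    have hspan := span_singular hF hz hzz ⟨z₁, hz₁, fun e => hzz₁ (h_symm hF e)⟩
    by_cases hcase : L z ∈ W
    · have hle' : W'.map L ≤ W := by
        rintro _ ⟨x, hx, rfl⟩
        have h5 : x ∈ W.comap L := (hspan.trans (Submodule.span_le.mpr ?_)) hx
        · exact h5
        rintro y ⟨hy, hy0⟩
        by_cases hy' : y = 0
        · subst hy'; exact (W.comap L).zero_mem
        · exact hall z y hz hzz hy hy0 hz0 hy' hcase
      have := Submodule.finrank_mono hle'
      rw [(Submodule.equivMapOfInjective L hLinj W').finrank_eq.symm] at this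
      omega
    · have hle' : W'.map L ≤ W' := by
        rintro _ ⟨x, hx, rfl⟩
        have h5 : x ∈ W'.comap L := (hspan.trans (Submodule.span_le.mpr ?_)) hx
        · exact h5
        rintro y ⟨hy, hy0⟩
        by_cases hy' : y = 0
        · subst hy'; exact (W'.comap L).zero_mem
        · refine (hunion _ (root_map hHK hgH (hW'root y hy hy0))).resolve_left fun e => hcase ?_
          exact hall y z hy hy0 hz hzz hy' hz0 e
      have e : W'.map L = W' := Submodule.eq_of_le_of_finrank_eq hle'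
        (Submodule.equivMapOfInjective L hLinj W').finrank_eq.symm
      refine hgW (mem_stab_of_maps fun w hw => ?_)
      rw [← hg.perp_perp W, ← hW']
      intro y hy
      obtain ⟨x, hx, rfl⟩ := e.ge hy
      rw [hermSesq_apply]
      exact (apply_K (hHK hgH) w x).trans (horth w hw x hx)
  -- the first components of mixed root vectors
  let A : Submodule F Vs :=
    { carrier := {p | p ∈ W ∧ ∀ p' ∈ W', p ≠ 0 → p' ≠ 0 → h (p + p') (p + p') = 0 → p + p' ∈ root q H}
      zero_mem' := ⟨W.zero_mem, fun _ _ h0 => absurd rfl h0⟩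
      add_mem' := by
        rintro p₁ p₂ ⟨hp₁, H₁⟩ ⟨hp₂, H₂⟩
        refine ⟨W.add_mem hp₁ hp₂, fun p' hp' hne hp'0 hs => ?_⟩
        rcases eq_or_ne p₁ 0 with rfl | hp₁0
        · rw [zero_add] at hne hs ⊢; exact H₂ p' hp' hne hp'0 hs
        rcases eq_or_ne p₂ 0 with rfl | hp₂0
        · rw [add_zero] at hne hs ⊢; exact H₁ p' hp' hne hp'0 hs
        obtain ⟨b₁, hb₁, hb₁0, hb₁n⟩ := exists_ne_norm hF hnd' h5 (r := -(h p₁ p₁))
          (by rw [q_neg hF, herm_conj hF])
        obtain ⟨b'', hb'', hb''o, hind⟩ := exists_indep hF hnd' h5 hb₁0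
        obtain ⟨b₂, hb₂, e1, e2, e3⟩ := exists_prescribed hF hnd' h5 hb₁ hb'' hind (δ - h p₂ p₁) 1
          (r := -(h p₂ p₂)) (by rw [q_neg hF, herm_conj hF]) (Or.inl (Or.inr one_ne_zero))
        have hb₂0 : b₂ ≠ 0 := fun e => by rw [e, h_zero_left hF] at e2; exact zero_ne_one e2
        have hb0 : b₁ + b₂ ≠ 0 := fun e => by
          have := congrArg (h · b'') e
          simp only [herm_add_left hF, h_zero_left hF, e2, h_symm hF hb''o, zero_add] at this
          exact one_ne_zero this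
        have r1 : p₁ + b₁ ∈ root q H :=
          H₁ b₁ hb₁ hp₁0 hb₁0 (by rw [hsing _ _ hp₁ hb₁, hb₁n, add_neg_cancel])
        have r2 : p₂ + b₂ ∈ root q H :=
          H₂ b₂ hb₂ hp₂0 hb₂0 (by rw [hsing _ _ hp₂ hb₂, e3, add_neg_cancel])
        have h21 : h (p₂ + b₂) (p₁ + b₁) = δ := by
          rw [herm_add_left hF, herm_add_right hF, herm_add_right hF, hW'mem.mp hb₂ p₁ hp₁,
            horth p₂ hp₂ b₁ hb₁, e1]
          ring
        have h12 : h (p₁ + b₁) (p₂ + b₂) = -δ := by rw [← herm_conj hF, h21, hδq]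
        have r3 := root_add hF hHK r1 r2 (by rw [h12]; exact neg_ne_zero.mpr hδ0) (by
          rw [herm_add_left hF, herm_add_right hF (p₁ + b₁), herm_add_right hF (p₁ + b₁), r1.1, r2.1,
            h12, h21]
          ring)
        rw [add_add_add_comm] at r3
        refine root_component hF hHK hnd' h5 hW'root (fun x hx => horth _ (W.add_mem hp₁ hp₂) x hx)
          (W'.add_mem hb₁ hb₂) hb0 hp' hp'0 ?_ r3
        have := r3.1
        rw [hsing _ _ (W.add_mem hp₁ hp₂) (W'.add_mem hb₁ hb₂)] at this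
        rw [hsing _ _ (W.add_mem hp₁ hp₂) hp'] at hs
        linear_combination this - hs
      smul_mem' := by
        rintro c p ⟨hp, Hp⟩
        refine ⟨W.smul_mem c hp, fun p' hp' hne hp'0 hs => ?_⟩
        rcases eq_or_ne c 0 with rfl | hc
        · exact absurd (zero_smul F p) hne
        have hs' : h (p + c⁻¹ • p') (p + c⁻¹ • p') = 0 := by
          rw [show p + c⁻¹ • p' = c⁻¹ • (c • p + p') by rw [smul_add, inv_smul_smul₀ hc],
            herm_smul_left hF, herm_smul_right hF, hs, mul_zero, mul_zero]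
        have h1 := root_smul hF (Hp _ (W'.smul_mem c⁻¹ hp') (fun e => hne (by rw [e, smul_zero]))
          (smul_ne_zero (inv_ne_zero hc) hp'0) hs') c
        rwa [smul_add, smul_inv_smul₀ hc] at h1 }
  have hA : ∀ p ∈ W, ∀ p' ∈ W', p' ≠ 0 → p + p' ∈ root q H → p ∈ A := by
    intro p hp p' hp' hp'0 hr
    refine ⟨hp, fun x hx _ hx0 hs => root_component hF hHK hnd' h5 hW'root
      (fun y hy => horth p hp y hy) hp' hp'0 hx hx0 ?_ hr⟩
    have := hr.1
    rw [hsing _ _ hp hp'] at this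
    rw [hsing _ _ hp hx] at hs
    linear_combination this - hs
  have haA : a ∈ A := hA a ha b hb hb0 hab
  obtain ⟨zw, hzw, -, hzwn⟩ := exists_ne_norm hF hnd' h5 (r := 1) (one_pow q)
  obtain ⟨ω, hω, hω1, hω0⟩ := exists_norm_one hF
  -- anisotropic vectors of `W` which are not orthogonal to `a`
  have haniso : ∀ w ∈ W, h w w ≠ 0 → h a w ≠ 0 → w ∈ A := by
    intro w hw hww haw
    set α := (ω - 1) / h w w with hα
    set β := ω⁻¹ - 1 with hβ
    set M : Matrix (Fin n) (Fin n) F :=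
      1 + vecMulVec w (α • conjVec q w) + vecMulVec zw (β • conjVec q zw) with hM
    have hwz : h w zw = 0 := horth w hw zw hzw
    have hzw' : h zw w = 0 := hW'mem.mp hzw w hw
    have hMv : ∀ x, M *ᵥ x = x + (α * h x w) • w + (β * h x zw) • zw := fun x => by
      rw [hM, add_mulVec, add_mulVec, one_mulVec, vecMulVec_mulVec, vecMulVec_mulVec, smul_dotProduct,
        smul_dotProduct, conjVec_dotProduct, conjVec_dotProduct]
      funext i; simp; ring
    have hdet : M.det = 1 := by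
      rw [hM, det_one_add_two, smul_dotProduct, smul_dotProduct, smul_dotProduct, smul_dotProduct,
        conjVec_dotProduct, conjVec_dotProduct, conjVec_dotProduct, conjVec_dotProduct, hzwn, hwz, hzw']
      simp only [smul_eq_mul, hα, hβ, mul_zero, sub_zero, div_mul_cancel₀ _ hww, mul_one,
        add_sub_cancel, mul_inv_cancel₀ hω0]
    have hαrel : α + α ^ q + α * α ^ q * h w w = 0 := by
      rw [hα, div_pow, q_sub hF, one_pow, herm_conj hF]
      field_simp
      linear_combination hω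
    have hωi : ω⁻¹ * ω⁻¹ ^ q = 1 := by rw [inv_pow, ← mul_inv, hω, inv_one]
    have hβrel : β + β ^ q + β * β ^ q = 0 := by
      rw [hβ, q_sub hF, one_pow]
      linear_combination hωi
    have hpres : ∀ x y, h (M *ᵥ x) (M *ᵥ y) = h x y := by
      intro x y
      simp only [hMv, herm_add_left hF, herm_add_right hF, herm_smul_left hF, herm_smul_right hF,
        hwz, hzw', hzwn, mul_pow, herm_conj hF y]
      linear_combination (h x w * h w y) * hαrel + (h x zw * h zw y) * hβrel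
    have hmem : glMk M hdet ∈ H := by
      refine hPH ⟨mem_stab_of_maps fun x hx => ?_, glMk_mem _ _ hpres⟩
      rw [glMk_val, hMv, horth x hx zw hzw, mul_zero, zero_smul, add_zero]
      exact W.add_mem hx (W.smul_mem _ hw)
    have h1 := root_map hHK hmem hab
    rw [glMk_val, mulVec_add] at h1
    have h2 : M *ᵥ a = a + (α * h a w) • w := by
      rw [hMv, horth a ha zw hzw, mul_zero, zero_smul, add_zero]
    have h3 : M *ᵥ b ∈ W' := by
      rw [hMv, hW'mem.mp hb w hw, mul_zero, zero_smul, add_zero]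
      exact W'.add_mem hb (W'.smul_mem _ hzw)
    have h4 : M *ᵥ b ≠ 0 := fun e => hb0 (by
      rw [← inv_mulVec_mulVec (glMk M hdet) b, glMk_val, e, mulVec_zero])
    rw [h2] at h1
    have h5 := hA _ (W.add_mem ha (W.smul_mem _ hw)) _ h3 h4 h1
    exact (Submodule.smul_mem_iff A (mul_ne_zero (div_ne_zero (sub_ne_zero.mpr hω1) hww) haw)).mp
      ((Submodule.add_mem_iff_right A haA).mp h5)
  have hnonorth : ∀ w ∈ W, h a w ≠ 0 → w ∈ A := by
    intro w hw haw
    by_cases hww : h w w = 0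
    · have h1 := root_map hHK (hPH ⟨T_stab δ hww (Or.inl hw), T_mem hF w hww hδ⟩) hab
      rw [mulVec_add, T_mulVec, T_mulVec, hW'mem.mp hb w hw, mul_zero, zero_smul, add_zero] at h1
      have h5 := hA _ (W.add_mem ha (W.smul_mem _ hw)) b hb hb0 h1
      exact (Submodule.smul_mem_iff A (mul_ne_zero hδ0 haw)).mp
        ((Submodule.add_mem_iff_right A haA).mp h5)
    · exact haniso w hw hww haw
  refine eq_suGL hF (by omega) (by omega) hHK fun v hv0 => ?_
  obtain ⟨p, hp, p', hp', rfl⟩ := Submodule.mem_sup.mp (hsup.ge (Submodule.mem_top (x := v)))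
  rcases eq_or_ne p 0 with rfl | hp0
  · rw [zero_add] at hv0 ⊢; exact hW'root _ hp' hv0
  rcases eq_or_ne p' 0 with rfl | hp'0
  · rw [add_zero] at hv0 ⊢; exact hWroot _ hp hv0
  have hpA : p ∈ A := by
    by_cases hap : h a p = 0
    · obtain ⟨x, hx, hax⟩ := (hW a ha ha0).2
      exact (Submodule.add_mem_iff_left A (hnonorth x hx hax)).mp
        (hnonorth (p + x) (W.add_mem hp hx) (by rwa [herm_add_right hF, hap, zero_add]))
    · exact hnonorth p hp hap
  exact hpA.2 p' hp' hp0 hp'0 hv0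

end Cfsg.Agent.Lib.UnitaryMax
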