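import Cfsg.Agent.Lib.UnitaryMax.Comp

/-!
Maximality of the stabiliser of an orthogonal decomposition into parts of dimension at least two.
-/

set_option autoImplicit false
set_option linter.unusedSectionVars false

namespace Cfsg.Agent.Lib.UnitaryMax

open Matrix Cfsg.Agent.Lib.Forms Cfsg.Agent.Lib.FormMax

variable {F : Type*} [Field F] [Fintype F] {n q : ℕ}

local notation "Vs" => (Fin n → F)
local notation "h" => Cfsg.hermForm n F q

variable (hF : Fintype.card F = q ^ 2)
include hF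

theorem herm_sum_left {κ : Type*} (s : Finset κ) (x : κ → Vs) (w : Vs) :
    h (∑ i ∈ s, x i) w = ∑ i ∈ s, h (x i) w := by
  simp only [← hermSesq_apply hF, map_sum]

theorem herm_add_self (a b : Vs) : h (a + b) (a + b) = h a a + (h a b + h a b ^ q) + h b b := by
  rw [herm_conj hF, herm_add_left hF, herm_add_right hF, herm_add_right hF]
  ring

theorem herm_sum_right {κ : Type*} (s : Finset κ) (x : κ → Vs) (w : Vs) :
    h w (∑ i ∈ s, x i) = ∑ i ∈ s, h w (x i) := by
  simp only [← hermSesq_apply hF, map_sum, LinearMap.sum_apply]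

/-- The coordinates attached to an orthogonal decomposition. -/
theorem exists_sum_equiv {t k : ℕ} (D : Fin t → Submodule F Vs)
    (hD : Cfsg.Geo.IsNondegenerateMDecomposition h k D) :
    ∃ ψ : (∀ i, D i) ≃ₗ[F] Vs, (∀ p, ψ p = ∑ i, (p i : Vs)) ∧
      (∀ p p', h (ψ p) (ψ p') = ∑ i, h (p i : Vs) (p' i)) ∧
      (∀ p i, ∀ x ∈ D i, h (ψ p) x = h (p i : Vs) x) ∧
      (∀ i (x : D i), ψ (Pi.single i x) = x) ∧
      (∀ p i, ψ p ∈ D i → ∀ j, j ≠ i → p j = 0) ∧ k * t = n := by
  classical
  have horth : ∀ i j, i ≠ j → ∀ x ∈ D i, ∀ y ∈ D j, h x y = 0 := fun i j hij x hx y hy =>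
    hD.orthogonal i j hij x hx y hy
  let ψ₀ : (∀ i, D i) →ₗ[F] Vs :=
    { toFun := fun p => ∑ i, (p i : Vs)
      map_add' := fun p p' => by simp [Finset.sum_add_distrib]
      map_smul' := fun c p => by simp [Finset.smul_sum] }
  have hψf : ∀ p p' : ∀ i, D i, h (ψ₀ p) (ψ₀ p') = ∑ i, h (p i : Vs) (p' i) := by
    intro p p'
    show h (∑ i, (p i : Vs)) (∑ i, (p' i : Vs)) = _
    rw [herm_sum_left hF]
    refine Finset.sum_congr rfl fun i _ => ?_
    rw [herm_sum_right hF,
      Finset.sum_eq_single i (fun j _ hj => horth i j hj.symm _ (p i).2 _ (p' j).2)]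
    simp
  have hψfs : ∀ (p : ∀ i, D i) i, ∀ x ∈ D i, h (ψ₀ p) x = h (p i : Vs) x := by
    intro p i x hx
    show h (∑ j, (p j : Vs)) x = _
    rw [herm_sum_left hF, Finset.sum_eq_single i (fun j _ hj => horth j i hj _ (p j).2 _ hx)]
    simp
  have hψbij : Function.Bijective ψ₀ := by
    refine ⟨(injective_iff_map_eq_zero ψ₀).mpr fun p hp => funext fun i => ?_, ?_⟩
    · by_contra h0
      obtain ⟨x, hx, hne⟩ := (hD.nondegenerate i (p i) (p i).2 (fun e => h0 (Subtype.ext e))).2
      rw [← hψfs p i x hx, hp, h_zero_left hF] at hne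
      exact hne rfl
    · rw [← LinearMap.range_eq_top, eq_top_iff, ← hD.decomp.iSup_eq_top]
      refine iSup_le fun i x hx => ⟨Pi.single i ⟨x, hx⟩, ?_⟩
      show ∑ j, ((Pi.single i (⟨x, hx⟩ : D i) : ∀ j, D j) j : Vs) = x
      rw [Finset.sum_eq_single i (fun j _ hj => by rw [Pi.single_eq_of_ne hj]; rfl) (by simp),
        Pi.single_eq_same]
  refine ⟨LinearEquiv.ofBijective ψ₀ hψbij, fun p => rfl, hψf, hψfs, ?_, ?_, ?_⟩
  · intro i x
    show ∑ j, ((Pi.single i x : ∀ j, D j) j : Vs) = x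
    rw [Finset.sum_eq_single i (fun j _ hj => by rw [Pi.single_eq_of_ne hj]; rfl) (by simp),
      Pi.single_eq_same]
  · intro p i hp j hj
    have h1 : LinearEquiv.ofBijective ψ₀ hψbij (Pi.single i ⟨_, hp⟩) = LinearEquiv.ofBijective ψ₀ hψbij p := by
      show ∑ l, ((Pi.single i (⟨_, hp⟩ : D i) : ∀ l, D l) l : Vs) = _
      rw [Finset.sum_eq_single i (fun l _ hl => by rw [Pi.single_eq_of_ne hl]; rfl) (by simp),
        Pi.single_eq_same]
    rw [← (LinearEquiv.ofBijective ψ₀ hψbij).injective h1, Pi.single_eq_of_ne hj]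
  · have h1 := (LinearEquiv.ofBijective ψ₀ hψbij).finrank_eq
    rw [Module.finrank_pi_fintype, Module.finrank_fin_fun, Finset.sum_congr rfl
      (fun i _ => hD.decomp.finrank_eq i), Finset.sum_const, Finset.card_univ, Fintype.card_fin,
      smul_eq_mul, mul_comm] at h1
    exact h1

variable {t k : ℕ} {D : Fin t → Submodule F (Fin n → F)}

/-- A map sending each member into one of the members permutes them. -/
theorem mem_decompStab (hD : Cfsg.Geo.IsNondegenerateMDecomposition (Cfsg.hermForm n F q) k D)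
    {g : GL (Fin n) F} (σ : Equiv.Perm (Fin t))
    (hg : ∀ i, ∀ x ∈ D i, (g : Matrix (Fin n) (Fin n) F) *ᵥ x ∈ D (σ i)) :
    g ∈ Cfsg.Geo.decompositionStabilizer D := by
  refine ⟨σ, fun i => ?_⟩
  have hinj : Function.Injective (Matrix.toLin' (g : Matrix (Fin n) (Fin n) F)) := by
    intro x y hxy
    have h2 := congrArg (((g⁻¹ : GL (Fin n) F) : Matrix (Fin n) (Fin n) F) *ᵥ ·) hxy
    simpa [Matrix.toLin'_apply, inv_mulVec_mulVec] using h2
  refine Submodule.eq_of_le_of_finrank_eq ?_ ?_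
  · rintro _ ⟨x, hx, rfl⟩
    rw [Matrix.toLin'_apply]; exact hg i x hx
  · rw [← (Submodule.equivMapOfInjective _ hinj (D i)).finrank_eq, hD.decomp.finrank_eq,
      hD.decomp.finrank_eq]

/-- The stabiliser of an orthogonal decomposition into parts of dimension at least two is maximal. -/
theorem isMaximalIn_decomp (hn : 6 ≤ n) (hD : Cfsg.Geo.IsNondegenerateMDecomposition (Cfsg.hermForm n F q) k D)
    (hk : 2 ≤ k) (hex : ¬ (k = 2 ∧ q = 2)) :
    Cfsg.Geo.IsMaximalIn (suGL n F q) (Cfsg.Geo.decompositionStabilizer D ⊓ suGL n F q) := by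
  classical
  obtain ⟨ψ, hψ, hψf, hψfs, hψsingle, hψmem, hkt⟩ := exists_sum_equiv hF D hD
  obtain ⟨δ, hδ, hδ0⟩ := exists_skew_ne hF
  have hδq : δ ^ q = -δ := eq_neg_of_add_eq_zero_right hδ
  have horth : ∀ i j, i ≠ j → ∀ x ∈ D i, ∀ y ∈ D j, h x y = 0 := fun i j hij x hx y hy =>
    hD.orthogonal i j hij x hx y hy
  have hnd : ∀ i, Nondeg q (D i) := fun i x hx h0 => (hD.nondegenerate i x hx h0).2
  have hdim : ∀ i, Module.finrank F (D i) = k := hD.decomp.finrank_eq
  have hdim2 : ∀ i, 2 ≤ Module.finrank F (D i) := fun i => by rw [hdim]; exact hk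
  have hq2 : k = 2 → 3 ≤ q := fun e => by
    have := two_le_of_card_sq hF
    by_contra hq
    exact hex ⟨e, by omega⟩
  have hmem0 : ∀ i j, i ≠ j → ∀ x : Vs, x ∈ D i → x ∈ D j → x = 0 := by
    intro i j hij x hxi hxj
    by_contra hx0
    obtain ⟨y, hy, hxy⟩ := hnd j x hxj hx0
    exact hxy (horth i j hij x hxi y hy)
  refine ⟨lt_of_le_of_ne inf_le_right fun e => ?_, fun H hMH hHK => ?_⟩
  · obtain ⟨i, j, hij⟩ : ∃ i j : Fin t, i ≠ j :=
      ⟨⟨0, by have := hD.decomp.two_le; omega⟩, ⟨1, by have := hD.decomp.two_le; omega⟩,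
        fun e => by simp [Fin.ext_iff] at e⟩
    obtain ⟨a, ha, ha0, haa⟩ := exists_singular hF (hnd i) (hdim2 i)
    obtain ⟨b, hb, hb0, hbb⟩ := exists_singular hF (hnd j) (hdim2 j)
    have hab : h (a + b) (a + b) = 0 := by
      rw [herm_add_left hF, herm_add_right hF, herm_add_right hF, haa, hbb, horth i j hij a ha b hb,
        horth j i hij.symm b hb a ha]
      ring
    obtain ⟨z, hz, hzne⟩ := (hD.nondegenerate i a ha ha0).1
    obtain ⟨σ, hσ⟩ := (e.ge (T_mem hF (a + b) hab hδ)).1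
    set c := δ * h z a with hc
    have h1 : z + c • (a + b) ∈ D (σ i) := by
      rw [← hσ i]
      refine ⟨z, hz, ?_⟩
      rw [Matrix.toLin'_apply, T_mulVec, herm_add_right hF, horth i j hij z hz b hb, add_zero]
    have hc0 : c ≠ 0 := mul_ne_zero hδ0 hzne
    have h2 : z + c • (a + b) = ψ (Pi.single i (⟨z, hz⟩ + c • ⟨a, ha⟩) + Pi.single j (c • ⟨b, hb⟩)) := by
      rw [map_add, hψsingle, hψsingle, Submodule.coe_add, Submodule.coe_smul, Submodule.coe_smul,
        smul_add, add_assoc]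
    rw [h2] at h1
    rcases eq_or_ne (σ i) i with hs | hs
    · have h3 := hψmem _ _ h1 j (fun e' => hij (hs ▸ e'.symm))
      rw [Pi.add_apply, Pi.single_eq_of_ne hij.symm, Pi.single_eq_same, zero_add] at h3
      exact hb0 (congrArg Subtype.val ((smul_eq_zero.mp h3).resolve_left hc0))
    · have h3 := hψmem _ _ h1 i hs.symm
      rw [Pi.add_apply, Pi.single_eq_same, Pi.single_eq_of_ne hij, add_zero] at h3
      have h4 : z + c • a = 0 := congrArg Subtype.val h3
      have h5 := congrArg (fun x => h x a) h4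
      simp only [herm_add_left hF, herm_smul_left hF, haa, h_zero_left hF, mul_zero, add_zero] at h5
      exact hzne h5
  by_cases hle : H ≤ Cfsg.Geo.decompositionStabilizer D
  · exact Or.inl (le_antisymm (le_inf hle hHK) hMH)
  right
  obtain ⟨g, hgH, hg⟩ := SetLike.not_le_iff_exists.mp hle
  -- maps fixing every member
  have hfixmem : ∀ g ∈ suGL n F q, (∀ l, ∀ x ∈ D l, (g : Matrix (Fin n) (Fin n) F) *ᵥ x ∈ D l) → g ∈ H :=
    fun g hg hm => hMH ⟨mem_decompStab hF hD 1 hm, hg⟩
  have hDroot : ∀ i, ∀ x ∈ D i, h x x = 0 → x ∈ root q H := fun i x hx hx0 =>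
    ⟨hx0, fun c hc => hfixmem _ (T_mem hF x hx0 hc) fun l v hv => by
      rw [T_mulVec]
      rcases eq_or_ne l i with rfl | hli
      · exact (D l).add_mem hv ((D l).smul_mem _ hx)
      · rw [horth l i hli v hv x hx, mul_zero, zero_smul, add_zero]; exact hv⟩
  have heich : ∀ i, ∀ z ∈ D i, ∀ c ∈ D i, ∀ g ∈ suGL n F q,
      (∀ x : Vs, ∃ y ∈ D i, (g : Matrix (Fin n) (Fin n) F) *ᵥ x = x + y) →
      (∀ x : Vs, h x z = 0 → h x c = 0 → (g : Matrix (Fin n) (Fin n) F) *ᵥ x = x) → g ∈ H := by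
    intro i z hz c hc g hg h1 h2
    refine hfixmem g hg fun l v hv => ?_
    rcases eq_or_ne l i with rfl | hli
    · obtain ⟨y, hy, e⟩ := h1 v
      rw [e]; exact (D l).add_mem hv hy
    · rw [h2 v (horth l i hli v hv z hz) (horth l i hli v hv c hc)]; exact hv
  let supp : (∀ i, D i) → Finset (Fin t) := fun p => Finset.univ.filter fun i => p i ≠ 0
  have hsupp : ∀ p i, i ∈ supp p ↔ p i ≠ 0 := fun p i => by simp [supp]
  -- a root vector with two components
  obtain ⟨p₀, hp₀, hcard⟩ : ∃ p, ψ p ∈ root q H ∧ 2 ≤ (supp p).card := by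
    by_contra hno
    push Not at hno
    have hunion : ∀ s ∈ root q H, ∃ i, s ∈ D i := by
      intro s hs
      obtain ⟨p, rfl⟩ := ψ.surjective s
      have h1 := hno p hs
      rcases Nat.lt_or_ge (supp p).card 1 with h2 | h2
      · refine ⟨⟨0, by have := hD.decomp.two_le; omega⟩, ?_⟩
        have h3 : p = 0 := funext fun i => by
          by_contra e
          have : 0 < (supp p).card := Finset.card_pos.mpr ⟨i, (hsupp p i).mpr e⟩
          omega
        rw [h3, map_zero]; exact Submodule.zero_mem _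
      · obtain ⟨i, hi⟩ := Finset.card_eq_one.mp (show (supp p).card = 1 by omega)
        refine ⟨i, ?_⟩
        have h3 : p = Pi.single i (p i) := funext fun j => by
          rcases eq_or_ne j i with rfl | hji
          · rw [Pi.single_eq_same]
          · rw [Pi.single_eq_of_ne hji]
            by_contra e
            exact hji (Finset.mem_singleton.mp (hi ▸ (hsupp p j).mpr e))
        rw [h3, hψsingle]; exact (p i).2
    have himg : ∀ i, ∃ j, ∀ x ∈ D i, (g : Matrix (Fin n) (Fin n) F) *ᵥ x ∈ D j := by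
      intro i
      obtain ⟨a, ha, ha0, haa⟩ := exists_singular hF (hnd i) (hdim2 i)
      obtain ⟨j, hj⟩ := hunion _ (root_map hHK hgH (hDroot i a ha haa))
      have hne0 : ∀ x : Vs, x ≠ 0 → (g : Matrix (Fin n) (Fin n) F) *ᵥ x ≠ 0 := fun x hx e => hx (by
        rw [← inv_mulVec_mulVec g x, e, mulVec_zero])
      have hside : ∀ x y : Vs, x ∈ D i → h x x = 0 → y ∈ D i → h y y = 0 → h x y ≠ 0 →
          (g : Matrix (Fin n) (Fin n) F) *ᵥ x ∈ D j → (g : Matrix (Fin n) (Fin n) F) *ᵥ y ∈ D j := by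
        intro x y hx hx0 hy hy0 hxy hLx
        obtain ⟨l, hl⟩ := hunion _ (root_map hHK hgH (hDroot i y hy hy0))
        rcases eq_or_ne j l with rfl | hjl
        · exact hl
        · exact absurd (by rw [← apply_K (hHK hgH)]; exact horth j l hjl _ hLx _ hl) hxy
      have hall : ∀ y ∈ D i, h y y = 0 → (g : Matrix (Fin n) (Fin n) F) *ᵥ y ∈ D j := by
        intro y hy hy0
        rcases eq_or_ne y 0 with rfl | hyne
        · rw [mulVec_zero]; exact Submodule.zero_mem _
        by_cases hay : h a y = 0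
        · obtain ⟨z₁, hz₁, haz₁⟩ := hnd i a ha ha0
          obtain ⟨z₂, hz₂, hyz₂⟩ := hnd i y hy hyne
          obtain ⟨z, hz, hza, hzy⟩ : ∃ z ∈ D i, h z a ≠ 0 ∧ h z y ≠ 0 := by
            by_cases e1 : h z₁ y = 0
            · by_cases e2 : h z₂ a = 0
              · refine ⟨z₁ + z₂, (D i).add_mem hz₁ hz₂, ?_, ?_⟩
                · rw [herm_add_left hF, e2, add_zero]; exact fun e => haz₁ (h_symm hF e)
                · rw [herm_add_left hF, e1, zero_add]; exact fun e => hyz₂ (h_symm hF e)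
              · exact ⟨z₂, hz₂, e2, fun e => hyz₂ (h_symm hF e)⟩
            · exact ⟨z₁, hz₁, fun e => haz₁ (h_symm hF e), e1⟩
          obtain ⟨c, hc⟩ := exists_fill hF haa hza
          have hzmem : z + c • a ∈ D i := (D i).add_mem hz ((D i).smul_mem c ha)
          refine hside (z + c • a) y hzmem hc hy hy0 ?_ (hside a _ ha haa hzmem hc ?_ hj)
          · rwa [herm_add_left hF, herm_smul_left hF, hay, mul_zero, add_zero]
          · rw [herm_add_right hF, herm_smul_right hF, haa, mul_zero, add_zero]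
            exact fun e => hza (h_symm hF e)
        · exact hside a y ha haa hy hy0 hay hj
      obtain ⟨z₁, hz₁, haz₁⟩ := hnd i a ha ha0
      refine ⟨j, fun x hx => ?_⟩
      have hspan := span_singular hF ha haa ⟨z₁, hz₁, fun e => haz₁ (h_symm hF e)⟩
      have h5 : x ∈ (D j).comap (Matrix.mulVecLin (g : Matrix (Fin n) (Fin n) F)) :=
        (hspan.trans (Submodule.span_le.mpr (by rintro y ⟨hy, hy0⟩; exact hall y hy hy0))) hx
      exact h5
    choose σ hσ using himg
    have hσinj : Function.Injective σ := by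
      intro i i' hii
      by_contra hne
      obtain ⟨a, ha, haa⟩ := exists_aniso hF (hnd i) (fun e => by
        have := hdim2 i; rw [e, finrank_bot] at this; omega)
      let L := Matrix.mulVecLin (g : Matrix (Fin n) (Fin n) F)
      have hLinj : Function.Injective L := fun x y hxy => by
        have := congrArg (((g⁻¹ : GL (Fin n) F) : Matrix (Fin n) (Fin n) F) *ᵥ ·)
          (show (g : Matrix (Fin n) (Fin n) F) *ᵥ x = (g : Matrix (Fin n) (Fin n) F) *ᵥ y from hxy)
        simpa [inv_mulVec_mulVec] using this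
      have e : (D i').map L = D (σ i) := by
        refine Submodule.eq_of_le_of_finrank_eq ?_ ?_
        · rintro _ ⟨x, hx, rfl⟩
          rw [hii]; exact hσ i' x hx
        · rw [(Submodule.equivMapOfInjective L hLinj (D i')).finrank_eq.symm, hdim, hdim]
      obtain ⟨b, hb, hbe⟩ := e.ge (hσ i a ha)
      have : b = a := hLinj hbe
      exact haa (by rw [hmem0 i i' hne a ha (this ▸ hb), h_zero_left hF])
    exact hg (mem_decompStab hF hD (Equiv.ofBijective σ ⟨hσinj, (Finite.injective_iff_surjective).mp hσinj⟩)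
      fun i => hσ i)
  let P : Fin t → Fin t → Prop := fun i j => ∀ a ∈ D i, ∀ b ∈ D j, a ≠ 0 → b ≠ 0 →
    h (a + b) (a + b) = 0 → a + b ∈ root q H
  have hpartner : ∀ i, ∀ b ∈ D i, b ≠ 0 → ∃ ε : F, ∃ s ∈ D i, ε + ε ^ q = 0 ∧ ε + δ ≠ 0 ∧ s ≠ b ∧ s ≠ 0 ∧
      h s s = h b b ∧ h b s = h b b + ε ∧ Moves q H (D i) b s := fun i b hb hb0 =>
    exists_partner hF (hnd i) (hdim2 i) (fun e => hq2 (by rw [← e, hdim])) (hDroot i) (heich i) hb hb0 hδ hδ0
  -- shrink the support to two
  obtain ⟨i₀, j₀, hij₀, a₀, ha₀, b₀, hb₀, ha₀0, hb₀0, hpair⟩ :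
      ∃ i j, i ≠ j ∧ ∃ a ∈ D i, ∃ b ∈ D j, a ≠ 0 ∧ b ≠ 0 ∧ a + b ∈ root q H := by
    obtain ⟨i, hi, j, hj, hij⟩ := Finset.one_lt_card.mp (by omega : 1 < (supp p₀).card)
    have hi0 : (p₀ i : Vs) ≠ 0 := fun e => (hsupp p₀ i).mp hi (Subtype.ext e)
    have hj0 : (p₀ j : Vs) ≠ 0 := fun e => (hsupp p₀ j).mp hj (Subtype.ext e)
    set r := h (p₀ i : Vs) (p₀ i) with hr
    have hrr : r ^ q = r := herm_conj hF _ _
    obtain ⟨s, hs, hsb, hss⟩ := exists_one hF (hnd i) (hdim2 i) (p₀ i).2 hi0 (r + δ ^ q)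
      (by
        by_cases h0 : r = 0
        · exact Or.inr (by rw [h0, zero_add]; exact pow_ne_zero _ hδ0)
        · exact Or.inl h0) hrr
    have hps : h (p₀ i : Vs) s = r + δ := by
      rw [← herm_conj hF s, hsb, q_add hF, hrr, pow_q_pow_q hF]
    obtain ⟨g₁, hg₁, hg₁p, hg₁x⟩ := moves_step hF (hDroot i) (p₀ i).2 hs hss hδ hδ0 hps
    obtain ⟨ε, u, hu, hε, hεδ, hub, -, huu, hpu, g₂, hg₂, hg₂p, hg₂x⟩ := hpartner j _ (p₀ j).2 hj0
    set x := ψ p₀ with hx
    set x' := ((g₂ * g₁ : GL (Fin n) F) : Matrix (Fin n) (Fin n) F) *ᵥ x with hx'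
    set o := x - (p₀ i : Vs) - (p₀ j : Vs) with ho
    have hoi : ∀ y ∈ D i, h o y = 0 := by
      intro y hy
      rw [ho, h_sub_left hF, h_sub_left hF, hx, hψfs p₀ i y hy, horth j i hij.symm _ (p₀ j).2 y hy]
      ring
    have hoj : ∀ y ∈ D j, h o y = 0 := by
      intro y hy
      rw [ho, h_sub_left hF, h_sub_left hF, hx, hψfs p₀ j y hy, horth i j hij _ (p₀ i).2 y hy]
      ring
    have hxo : x = (p₀ i : Vs) + (p₀ j : Vs) + o := by rw [ho]; abel
    have hx'o : x' = s + u + o := by
      rw [hx', hxo, Units.val_mul, ← mulVec_mulVec]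
      simp only [mulVec_add]
      rw [hg₁p, hg₁x _ (fun y hy => horth j i hij.symm _ (p₀ j).2 y hy), hg₁x o hoi, hg₂p, hg₂x _ (fun y hy => horth i j hij _ hs y hy), hg₂x o hoj]
    have hroot' : (-1 : F) • x' ∈ root q H := root_smul hF (root_map hHK (mul_mem hg₂ hg₁) hp₀) _
    have hxx : h x x = 0 := hp₀.1
    have hdiff : x + (-1 : F) • x' = ((p₀ i : Vs) - s) + ((p₀ j : Vs) - u) := by
      rw [hx'o, hxo, neg_one_smul]; abel
    have hsum : h x ((-1 : F) • x') = -(δ + ε) := by
      have ei : h x (p₀ i : Vs) = r := hψfs p₀ i _ (p₀ i).2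
      have ej : h x (p₀ j : Vs) = h (p₀ j : Vs) (p₀ j) := hψfs p₀ j _ (p₀ j).2
      rw [herm_smul_right hF, q_neg hF, one_pow, neg_one_mul, neg_inj, hx'o, herm_add_right hF,
        herm_add_right hF, hx, hψfs p₀ i s hs, hψfs p₀ j u hu, hps, hpu, ← hx, ho, h_sub_right hF,
        h_sub_right hF, hxx, ei, ej]
      ring
    have hne : h x ((-1 : F) • x') ≠ 0 := by
      rw [hsum, neg_ne_zero, add_comm]; exact hεδ
    have hsing : h (x + (-1 : F) • x') (x + (-1 : F) • x') = 0 := by
      rw [herm_add_left hF, herm_add_right hF, herm_add_right hF, hxx, hroot'.1,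
        ← herm_conj hF x ((-1 : F) • x'), hsum, q_neg hF, q_add hF]
      linear_combination -hδ - hε
    refine ⟨i, j, hij, _, (D i).sub_mem (p₀ i).2 hs, _, (D j).sub_mem (p₀ j).2 hu, ?_,
      sub_ne_zero.mpr hub.symm, hdiff ▸ root_add hF hHK hp₀ hroot' hne hsing⟩
    refine sub_ne_zero.mpr fun e => hδ0 ?_
    rw [← e, ← hr] at hps
    linear_combination -hps
  -- a step inside one member
  have hmove : ∀ i j, i ≠ j → ∀ a ∈ D i, ∀ a' ∈ D i, ∀ b ∈ D j, a ≠ 0 → a' ≠ 0 → h a' a' = h a a →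
      a + b ∈ root q H → a' + b ∈ root q H := by
    intro i j hij a ha a' ha' b hb ha0 ha'0 hnorm hab
    obtain ⟨c, hci, z, hz, hzz, hbz⟩ : ∃ c, c ≠ i ∧ ∃ z ∈ D c, h z z ≠ 0 ∧ h b z = 0 := by
      by_cases hk3 : 3 ≤ k
      · obtain ⟨z, hz, hzb, hzz⟩ := exists_aniso_orth hF (hnd j) (by rw [hdim]; exact hk3) hb
        exact ⟨j, hij.symm, z, hz, hzz, h_symm hF hzb⟩
      · obtain ⟨c, hci, hcj⟩ : ∃ c : Fin t, c ≠ i ∧ c ≠ j := by
          by_contra hno
          push Not at hno
          have h2 : Finset.univ ⊆ ({i, j} : Finset (Fin t)) := fun c _ => by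
            by_cases e : c = i
            · simp [e]
            · simp [hno c e]
          have := Finset.card_le_card h2
          rw [Finset.card_univ, Fintype.card_fin, Finset.card_pair hij] at this
          have : k * t ≤ k * 2 := Nat.mul_le_mul_left k this
          omega
        obtain ⟨z, hz, hzz⟩ := exists_aniso hF (hnd c) (fun e => by
          have := hdim2 c; rw [e, finrank_bot] at this; omega)
        exact ⟨c, hci, z, hz, hzz, horth j c hcj.symm b hb z hz⟩
    refine two_step hF (hnd i) (P := fun v => v + b ∈ root q H) ?_ ha ha' ha0 ha'0 rfl hnorm hab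
    intro s u hs hu _ _ hss huu hne hsb
    obtain ⟨g₁, hg₁, hg₁s, α, β, hg₁v⟩ := exists_step hF (a := s) (a' := u) (z := z)
      (by rw [huu, hss]) (by rw [h_sub_right hF, hss]; exact sub_ne_zero.mpr hne) hzz
      (horth i c hci.symm s hs z hz)
    have hd : u - s ∈ D i := (D i).sub_mem hu hs
    have hv : ∀ v, (g₁ : Matrix (Fin n) (Fin n) F) *ᵥ v = v + (α * h v (u - s)) • (u - s) + (β * h v z) • z :=
      fun v => hg₁v v (Or.inr (horth i c hci.symm _ hd z hz))
    have hgH₁ : g₁ ∈ H := hfixmem g₁ hg₁ fun l v hvl => by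
      rw [hv]
      rcases eq_or_ne l i with rfl | hli
      · rw [horth l c hci.symm v hvl z hz, mul_zero, zero_smul, add_zero]
        exact (D l).add_mem hvl ((D l).smul_mem _ hd)
      rcases eq_or_ne l c with rfl | hlc
      · rw [horth l i hli v hvl _ hd, mul_zero, zero_smul, add_zero]
        exact (D l).add_mem hvl ((D l).smul_mem _ hz)
      · rw [horth l i hli v hvl _ hd, horth l c hlc v hvl z hz, mul_zero, zero_smul, mul_zero, zero_smul,
          add_zero, add_zero]
        exact hvl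
    have h1 := root_map hHK hgH₁ hsb
    rwa [mulVec_add, hg₁s, hv b, horth j i hij.symm b hb _ hd, hbz, mul_zero, zero_smul, mul_zero, zero_smul,
      add_zero, add_zero] at h1
  have hnorm2 : ∀ i j, i ≠ j → ∀ a ∈ D i, ∀ b ∈ D j, h (a + b) (a + b) = h a a + h b b := by
    intro i j hij a ha b hb
    rw [herm_add_left hF, herm_add_right hF, herm_add_right hF, horth i j hij a ha b hb,
      horth j i hij.symm b hb a ha]
    ring
  have hboth : ∀ i j, i ≠ j → ∀ a ∈ D i, ∀ a' ∈ D i, ∀ b ∈ D j, ∀ b' ∈ D j, a ≠ 0 → a' ≠ 0 → b ≠ 0 →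
      b' ≠ 0 → h a' a' = h a a → h (a' + b') (a' + b') = 0 → a + b ∈ root q H → a' + b' ∈ root q H := by
    intro i j hij a ha a' ha' b hb b' hb' ha0 ha'0 hb0 hb'0 hnorm hs hab
    have h1 := hmove i j hij a ha a' ha' b hb ha0 ha'0 hnorm hab
    rw [add_comm] at h1 ⊢
    refine hmove j i hij.symm b hb b' hb' a' ha' hb0 hb'0 ?_ h1
    have h2 := h1.1
    rw [hnorm2 j i hij.symm b hb a' ha'] at h2
    rw [hnorm2 i j hij a' ha' b' hb'] at hs
    linear_combination hs - h2
  -- filling a pair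
  have hfill : P i₀ j₀ := by
    obtain ⟨e, he, f, hf, hee, hff, hef⟩ := exists_hyp hF (hnd i₀) (hdim2 i₀)
    obtain ⟨e', he', f', hf', hee', hff', hef'⟩ := exists_hyp hF (hnd j₀) (hdim2 j₀)
    obtain ⟨τ, hτ⟩ := exists_trace_one hF
    have hfe : h f e = 1 := by rw [← herm_conj hF e f, hef, one_pow]
    have hfe' : h f' e' = 1 := by rw [← herm_conj hF e' f', hef', one_pow]
    have he0 : e ≠ 0 := fun x => by rw [x, h_zero_left hF] at hef; exact zero_ne_one hef
    have he'0 : e' ≠ 0 := fun x => by rw [x, h_zero_left hF] at hef'; exact zero_ne_one hef'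
    have hτ0 : τ ≠ 0 := fun x => by rw [x, q_zero hF, zero_add] at hτ; exact zero_ne_one hτ
    have hμ0 : δ - τ ≠ 0 := fun x => by
      rw [sub_eq_zero.mp x] at hδ; rw [hδ] at hτ; exact zero_ne_one hτ
    have hf0 : f ≠ 0 := fun x => by rw [x, h_zero_left hF] at hfe; exact zero_ne_one hfe
    have hf'0 : f' ≠ 0 := fun x => by rw [x, h_zero_left hF] at hfe'; exact zero_ne_one hfe'
    set r := h a₀ a₀ with hr
    have hrr : r ^ q = r := herm_conj hF _ _
    have hbr : h b₀ b₀ = -r := by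
      have := hpair.1
      rw [hnorm2 i₀ j₀ hij₀ a₀ ha₀ b₀ hb₀] at this
      linear_combination this
    have hval : ∀ x y : F, h (x • e + y • f) (x • e + y • f) = x * y ^ q + y * x ^ q := fun x y => by
      simp only [herm_add_left hF, herm_add_right hF, herm_smul_left hF, herm_smul_right hF, hee, hff,
        hef, hfe]
      ring
    have hvalf : ∀ x y : F, h (x • e + y • f) f = x := fun x y => by
      simp only [herm_add_left hF, herm_smul_left hF, hff, hef]; ring
    have hval' : ∀ x y : F, h (x • e' + y • f') (x • e' + y • f') = x * y ^ q + y * x ^ q := fun x y => by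
      simp only [herm_add_left hF, herm_add_right hF, herm_smul_left hF, herm_smul_right hF, hee', hff',
        hef', hfe']
      ring
    have hvalf' : ∀ x y : F, h (x • e' + y • f') f' = x := fun x y => by
      simp only [herm_add_left hF, herm_smul_left hF, hff', hef']; ring
    -- norms zero and one
    have h01 : ∃ a ∈ D i₀, ∃ b ∈ D j₀, a ≠ 0 ∧ b ≠ 0 ∧ h a a = 1 ∧ a + b ∈ root q H := by
      by_cases hr0 : r = 0
      · have hA : e + e' ∈ root q H := hboth i₀ j₀ hij₀ a₀ ha₀ e he b₀ hb₀ e' he' ha₀0 he0 hb₀0 he'0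
          (by rw [hee, ← hr, hr0]) (by rw [hnorm2 i₀ j₀ hij₀ e he e' he', hee, hee', add_zero]) hpair
        have hB : τ • f + (δ - τ) • f' ∈ root q H := hboth i₀ j₀ hij₀ a₀ ha₀ (τ • f) ((D i₀).smul_mem _ hf) b₀
          hb₀ ((δ - τ) • f') ((D j₀).smul_mem _ hf') ha₀0 (smul_ne_zero hτ0 hf0) hb₀0 (smul_ne_zero hμ0 hf'0)
          (by rw [herm_smul_left hF, herm_smul_right hF, hff, ← hr, hr0, mul_zero, mul_zero])
          (by rw [hnorm2 i₀ j₀ hij₀ _ ((D i₀).smul_mem _ hf) _ ((D j₀).smul_mem _ hf'), herm_smul_left hF,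
            herm_smul_left hF, herm_smul_right hF, herm_smul_right hF, hff, hff']; ring) hpair
        have hcross : h (e + e') (τ • f + (δ - τ) • f') = δ ^ q := by
          rw [herm_add_left hF, herm_add_right hF, herm_add_right hF, herm_smul_right hF, herm_smul_right hF,
            herm_smul_right hF, herm_smul_right hF, hef, hef', horth i₀ j₀ hij₀ e he f' hf',
            horth j₀ i₀ hij₀.symm e' he' f hf, q_sub hF]
          ring
        refine ⟨e + τ • f, (D i₀).add_mem he ((D i₀).smul_mem _ hf), e' + (δ - τ) • f',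
          (D j₀).add_mem he' ((D j₀).smul_mem _ hf'), fun x => ?_, fun x => ?_, ?_, ?_⟩
        · have := congrArg (fun v => h v f) x
          simp only [herm_add_left hF, herm_smul_left hF, hff, hef, h_zero_left hF, mul_zero, add_zero] at this
          exact one_ne_zero this
        · have := congrArg (fun v => h v f') x
          simp only [herm_add_left hF, herm_smul_left hF, hff', hef', h_zero_left hF, mul_zero, add_zero] at this
          exact one_ne_zero this
        · have := hval 1 τ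
          rw [one_smul, one_pow] at this
          rw [this]; linear_combination hτ
        · have h1 := root_add hF hHK hA hB (by rw [hcross]; exact pow_ne_zero _ hδ0) (by
            rw [herm_add_self hF, hA.1, hB.1, hcross, pow_q_pow_q hF]
            linear_combination hδ)
          rwa [add_add_add_comm] at h1
      · -- scale
        obtain ⟨c, hc⟩ := exists_norm_eq (qPowHom_ne_id hF) (qPowHom_qPowHom hF) (c := r⁻¹)
          (by rw [qPowHom_apply, inv_pow, hrr])
        rw [qPowHom_apply] at hc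
        have hc0 : c ≠ 0 := fun x => hr0 (inv_eq_zero.mp (by rw [← hc, x, zero_mul]))
        refine ⟨c • a₀, (D i₀).smul_mem _ ha₀, c • b₀, (D j₀).smul_mem _ hb₀, smul_ne_zero hc0 ha₀0,
          smul_ne_zero hc0 hb₀0, ?_, ?_⟩
        · rw [herm_smul_left hF, herm_smul_right hF, ← hr, ← mul_assoc, hc, inv_mul_cancel₀ hr0]
        · rw [← smul_add]; exact root_smul hF hpair c
    obtain ⟨a₁, ha₁, b₁, hb₁, ha₁0, hb₁0, ha₁n, hpair₁⟩ := h01
    -- norm zero
    obtain ⟨a₂, ha₂, b₂, hb₂, ha₂0, hb₂0, ha₂n, hpair₂⟩ :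
        ∃ a ∈ D i₀, ∃ b ∈ D j₀, a ≠ 0 ∧ b ≠ 0 ∧ h a a = 0 ∧ a + b ∈ root q H := by
      set A := (1 : F) • e + τ • f with hA
      set A' := (-1 : F) • e + (δ - τ) • f with hA'
      set B := (1 : F) • e' + (-τ) • f' with hB
      have hAmem : A ∈ D i₀ := (D i₀).add_mem ((D i₀).smul_mem _ he) ((D i₀).smul_mem _ hf)
      have hA'mem : A' ∈ D i₀ := (D i₀).add_mem ((D i₀).smul_mem _ he) ((D i₀).smul_mem _ hf)
      have hBmem : B ∈ D j₀ := (D j₀).add_mem ((D j₀).smul_mem _ he') ((D j₀).smul_mem _ hf')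
      have hA0 : A ≠ 0 := fun x => one_ne_zero (α := F) (by rw [← hvalf 1 τ, ← hA, x, h_zero_left hF])
      have hA'0 : A' ≠ 0 := fun x => neg_ne_zero.mpr (one_ne_zero (α := F))
        (by rw [← hvalf (-1) (δ - τ), ← hA', x, h_zero_left hF])
      have hB0 : B ≠ 0 := fun x => one_ne_zero (α := F) (by rw [← hvalf' 1 (-τ), ← hB, x, h_zero_left hF])
      have hAn : h A A = 1 := by rw [hA, hval, one_pow]; linear_combination hτ
      have hA'n : h A' A' = 1 := by
        rw [hA', hval, q_sub hF, q_neg hF, one_pow]; linear_combination hτ - hδ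
      have hBn : h B B = -1 := by rw [hB, hval', q_neg hF, one_pow]; linear_combination -hτ
      have hAA' : h A A' = -δ - 1 := by
        rw [hA, hA']
        simp only [herm_add_left hF, herm_add_right hF, herm_smul_left hF, herm_smul_right hF, hee, hff, hef,
          hfe, q_neg hF, q_sub hF, one_pow, hδq]
        linear_combination -hτ
      obtain ⟨ε, s, hs, hε, hεδ, hsB, hs0, hsn, hBs, -⟩ := hpartner j₀ B hBmem hB0
      have r1 : A + B ∈ root q H := hboth i₀ j₀ hij₀ a₁ ha₁ A hAmem b₁ hb₁ B hBmem ha₁0 hA0 hb₁0 hB0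
        (by rw [hAn, ha₁n]) (by rw [hnorm2 i₀ j₀ hij₀ A hAmem B hBmem, hAn, hBn, add_neg_cancel]) hpair₁
      have hBs' : h B (-s) = 1 - ε := by
        rw [← neg_one_smul F s, herm_smul_right hF, q_neg hF, one_pow, hBs, hBn]; ring
      have r2 : A' + -s ∈ root q H := hboth i₀ j₀ hij₀ a₁ ha₁ A' hA'mem b₁ hb₁ (-s) ((D j₀).neg_mem hs) ha₁0
        hA'0 hb₁0 (neg_ne_zero.mpr hs0) (by rw [hA'n, ha₁n]) (by
          rw [hnorm2 i₀ j₀ hij₀ A' hA'mem _ ((D j₀).neg_mem hs), hA'n, ← neg_one_smul F s,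
            herm_smul_left hF, herm_smul_right hF, hsn, hBn, q_neg hF, one_pow]
          ring) hpair₁
      have hcross : h (A + B) (A' + -s) = -(δ + ε) := by
        rw [herm_add_left hF A B, herm_add_right hF A' (-s) A, herm_add_right hF A' (-s) B, hAA', hBs',
          horth i₀ j₀ hij₀ A hAmem _ ((D j₀).neg_mem hs), horth j₀ i₀ hij₀.symm B hBmem A' hA'mem]
        ring
      have r3 := root_add hF hHK r1 r2 (by rw [hcross, neg_ne_zero, add_comm]; exact hεδ) (by
        rw [herm_add_self hF, r1.1, r2.1, hcross, q_neg hF, q_add hF]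
        linear_combination -hδ - hε)
      rw [add_add_add_comm] at r3
      have hsum : A + A' = δ • f := by rw [hA, hA']; module
      refine ⟨A + A', (D i₀).add_mem hAmem hA'mem, B + -s, (D j₀).add_mem hBmem ((D j₀).neg_mem hs),
        by rw [hsum]; exact smul_ne_zero hδ0 hf0, ?_, by
          rw [hsum, herm_smul_left hF, herm_smul_right hF, hff, mul_zero, mul_zero], r3⟩
      rw [← sub_eq_add_neg]
      exact sub_ne_zero.mpr hsB.symm
    intro a ha b hb ha0 hb0 hs
    by_cases han : h a a = 0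
    · exact hboth i₀ j₀ hij₀ a₂ ha₂ a ha b₂ hb₂ b hb ha₂0 ha0 hb₂0 hb0 (by rw [han, ha₂n]) hs hpair₂
    · obtain ⟨c, hc⟩ := exists_norm_eq (qPowHom_ne_id hF) (qPowHom_qPowHom hF) (c := h a a)
        (by rw [qPowHom_apply, herm_conj hF])
      rw [qPowHom_apply] at hc
      have hc0 : c ≠ 0 := fun x => han (by rw [← hc, x, zero_mul])
      refine hboth i₀ j₀ hij₀ (c • a₁) ((D i₀).smul_mem _ ha₁) a ha (c • b₁) ((D j₀).smul_mem _ hb₁) b hb
        (smul_ne_zero hc0 ha₁0) ha0 (smul_ne_zero hc0 hb₁0) hb0 ?_ hs ?_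
      · rw [herm_smul_left hF, herm_smul_right hF, ha₁n, mul_one, hc]
      · rw [← smul_add]; exact root_smul hF hpair₁ c
  -- all pairs
  have hall : ∀ i j, i ≠ j → P i j := by
    intro i j hij
    obtain ⟨σ, hσi, hσj⟩ : ∃ σ : Equiv.Perm (Fin t), σ i₀ = i ∧ σ j₀ = j := by
      refine ⟨(Equiv.swap i₀ i).trans (Equiv.swap (Equiv.swap i₀ i j₀) j), ?_, ?_⟩
      · rw [Equiv.trans_apply, Equiv.swap_apply_left, Equiv.swap_apply_of_ne_of_ne ?_ hij]
        intro e
        exact hij₀ ((Equiv.swap i₀ i).injective (by rw [Equiv.swap_apply_left]; exact e))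
      · rw [Equiv.trans_apply, Equiv.swap_apply_left]
    choose ε hε using fun l => exists_isometry hF (X := D l) (Y := D (σ l)) (by rw [hdim, hdim]) (hnd l)
      (hnd _)
    let L₀ : (∀ l, D l) ≃ₗ[F] (∀ l, D l) :=
      (LinearEquiv.piCongrRight ε).trans (LinearEquiv.piCongrLeft F (fun l => D l) σ)
    have hL₀ : ∀ p l, L₀ p (σ l) = ε l (p l) := fun p l => by
      show (Equiv.piCongrLeft (fun l => D l) σ) (fun l => ε l (p l)) (σ l) = _
      rw [Equiv.piCongrLeft_apply_apply]
    let gσ : GL (Fin n) F := (glEquiv _ F).symm (ψ.symm.trans (L₀.trans ψ))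
    have hgs : ∀ p, (gσ : Matrix (Fin n) (Fin n) F) *ᵥ ψ p = ψ (L₀ p) := fun p => by
      rw [glEquiv_symm_mulVec]; simp
    have hGU : gσ ∈ Cfsg.GU n F q := fun u v => by
      show h ((gσ : Matrix (Fin n) (Fin n) F) *ᵥ u) ((gσ : Matrix (Fin n) (Fin n) F) *ᵥ v) = h u v
      obtain ⟨p, rfl⟩ := ψ.surjective u
      obtain ⟨p', rfl⟩ := ψ.surjective v
      rw [hgs, hgs, hψf, hψf, ← Equiv.sum_comp σ]
      exact Finset.sum_congr rfl fun l _ => by rw [hL₀, hL₀, hε]
    have hgmap : ∀ l, ∀ x ∈ D l, ∃ y : D (σ l), (gσ : Matrix (Fin n) (Fin n) F) *ᵥ x = y := by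
      intro l x hx
      refine ⟨ε l ⟨x, hx⟩, ?_⟩
      show (gσ : Matrix (Fin n) (Fin n) F) *ᵥ ((⟨x, hx⟩ : D l) : Vs) = _
      generalize (⟨x, hx⟩ : D l) = xs
      rw [← hψsingle l xs, hgs]
      have : L₀ (Pi.single l xs) = Pi.single (σ l) (ε l xs) := funext fun o => by
        obtain ⟨o, rfl⟩ := σ.surjective o
        rw [hL₀]
        rcases eq_or_ne o l with rfl | hol
        · rw [Pi.single_eq_same, Pi.single_eq_same]
        · rw [Pi.single_eq_of_ne hol, Pi.single_eq_of_ne (fun e => hol (σ.injective e)), map_zero]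
      rw [this, hψsingle]
    obtain ⟨z, hz, hzz⟩ := exists_aniso hF (hnd i₀) (fun e => by
      have := hdim2 i₀; rw [e, finrank_bot] at this; omega)
    obtain ⟨rz, hrz, β, hrzv⟩ := exists_det_fix hF hGU hzz
    have hstab : ∀ l, ∀ x ∈ D l, ((gσ * rz : GL (Fin n) F) : Matrix (Fin n) (Fin n) F) *ᵥ x ∈ D (σ l) := by
      intro l x hx
      rw [Units.val_mul, ← mulVec_mulVec, hrzv]
      have hx' : x + (β * h x z) • z ∈ D l := by
        rcases eq_or_ne l i₀ with rfl | hl
        · exact (D l).add_mem hx ((D l).smul_mem _ hz)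
        · rw [horth l i₀ hl x hx z hz, mul_zero, zero_smul, add_zero]; exact hx
      obtain ⟨y, hy⟩ := hgmap l _ hx'
      rw [hy]; exact y.2
    have hGH : gσ * rz ∈ H := hMH ⟨mem_decompStab hF hD σ hstab, hrz⟩
    intro a ha b hb ha0 hb0 hs
    set G := ((gσ * rz : GL (Fin n) F) : Matrix (Fin n) (Fin n) F) with hG
    set G' := (((gσ * rz)⁻¹ : GL (Fin n) F) : Matrix (Fin n) (Fin n) F) with hG'
    have hback : ∀ l, ∀ x ∈ D (σ l), G' *ᵥ x ∈ D l := by
      intro l x hx
      obtain ⟨p, hp⟩ := ψ.surjective (G' *ᵥ x)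
      rw [← hp]
      have hzero : ∀ o, o ≠ l → p o = 0 := by
        intro o hol
        by_contra h0
        obtain ⟨y, hy, hne⟩ := hnd o (p o) (p o).2 (fun e => h0 (Subtype.ext e))
        rw [← hψfs p o y hy, hp, ← apply_K hrz, ← hG, hG, hG', mulVec_inv_mulVec] at hne
        exact hne (horth (σ l) (σ o) (fun e => hol (σ.injective e).symm) x hx _ (hstab o y hy))
      rw [show p = Pi.single l (p l) from funext fun o => by
        rcases eq_or_ne o l with rfl | hol
        · rw [Pi.single_eq_same]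
        · rw [Pi.single_eq_of_ne hol, hzero o hol], hψsingle]
      exact (p l).2
    have hne0 : ∀ x : Vs, x ≠ 0 → G' *ᵥ x ≠ 0 := fun x hx e => hx (by
      rw [← mulVec_inv_mulVec (gσ * rz) x, ← hG', e, mulVec_zero])
    have h1 := root_map hHK hGH (hfill (G' *ᵥ a) (hback i₀ a (hσi ▸ ha)) (G' *ᵥ b) (hback j₀ b (hσj ▸ hb))
      (hne0 a ha0) (hne0 b hb0) (by rw [← mulVec_add, hG', apply_K (inv_mem hrz)]; exact hs))
    rwa [mulVec_add, mulVec_inv_mulVec, mulVec_inv_mulVec] at h1
  -- reduce the support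
  refine eq_suGL hF (by omega) (by omega) hHK fun v hv => ?_
  obtain ⟨p, rfl⟩ := ψ.surjective v
  suffices H' : ∀ N, ∀ p, (supp p).card ≤ N → h (ψ p) (ψ p) = 0 → ψ p ∈ root q H from H' _ p le_rfl hv
  intro N
  induction N using Nat.strong_induction_on with
  | _ N ih =>
    intro p hpN hv
    rcases Nat.lt_or_ge (supp p).card 3 with hlt | hge
    · rcases Nat.lt_or_ge (supp p).card 2 with h1 | h1
      · obtain ⟨l, hl⟩ : ∃ l, supp p ⊆ {l} := by
          rcases Finset.eq_empty_or_nonempty (supp p) with e | ⟨l, hl⟩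
          · exact ⟨⟨0, by have := hD.decomp.two_le; omega⟩, by simp [e]⟩
          · exact ⟨l, fun x hx => Finset.mem_singleton.mpr (Finset.card_le_one.mp (by omega) x hx l hl)⟩
        have he : p = Pi.single l (p l) := funext fun o => by
          rcases eq_or_ne o l with rfl | hol
          · rw [Pi.single_eq_same]
          · rw [Pi.single_eq_of_ne hol]
            by_contra h0
            exact hol (Finset.mem_singleton.mp (hl ((hsupp p o).mpr h0)))
        rw [he, hψsingle] at hv ⊢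
        exact hDroot l _ (p l).2 hv
      · obtain ⟨i, j, hij, he⟩ := Finset.card_eq_two.mp (show (supp p).card = 2 by omega)
        have he' : p = Pi.single i (p i) + Pi.single j (p j) := funext fun o => by
          rcases eq_or_ne o i with rfl | hoi
          · simp [Pi.single_eq_of_ne hij]
          rcases eq_or_ne o j with rfl | hoj
          · simp [Pi.single_eq_of_ne hoi]
          · simp only [Pi.add_apply, Pi.single_eq_of_ne hoi, Pi.single_eq_of_ne hoj, add_zero]
            by_contra h0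
            have := (hsupp p o).mpr h0
            rw [he] at this
            simp [hoi, hoj] at this
        rw [he', map_add, hψsingle, hψsingle] at hv ⊢
        have hi : i ∈ supp p := by simp [he]
        have hj : j ∈ supp p := by simp [he]
        exact hall i j hij _ (p i).2 _ (p j).2 (fun e => (hsupp p i).mp hi (Subtype.ext e))
          (fun e => (hsupp p j).mp hj (Subtype.ext e)) hv
    · obtain ⟨i, hi, j, hj, hij, hcase⟩ : ∃ i ∈ supp p, ∃ j ∈ supp p, i ≠ j ∧
          (h (p i : Vs) (p i) ≠ 0 ∨ h (p i : Vs) (p i) + h (p j : Vs) (p j) = 0) := by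
        by_cases hA : ∃ i ∈ supp p, h (p i : Vs) (p i) ≠ 0
        · obtain ⟨i, hi, hne⟩ := hA
          obtain ⟨j, hj, hji⟩ := Finset.exists_mem_ne (by omega : 1 < (supp p).card) i
          exact ⟨i, hi, j, hj, hji.symm, Or.inl hne⟩
        · push Not at hA
          obtain ⟨i, hi, j, hj, hij⟩ := Finset.one_lt_card.mp (by omega : 1 < (supp p).card)
          exact ⟨i, hi, j, hj, hij, Or.inr (by rw [hA i hi, hA j hj, add_zero])⟩
      set u := (p i : Vs) + (p j : Vs) with hu
      set r := h u u with hr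
      have hrr : r ^ q = r := herm_conj hF _ _
      have hi0 : (p i : Vs) ≠ 0 := fun e => (hsupp p i).mp hi (Subtype.ext e)
      obtain ⟨w, hw, hwv, hww⟩ := exists_one hF (hnd i) (hdim2 i) (p i).2 hi0 (r + δ ^ q) (by
        rcases hcase with hne | he
        · exact Or.inl hne
        · refine Or.inr ?_
          rw [hr, hu, hnorm2 i j hij _ (p i).2 _ (p j).2, he, zero_add]
          exact pow_ne_zero _ hδ0) hrr
      have hwu : h w u = r + δ ^ q := by
        rw [hu, herm_add_right hF, horth i j hij w hw _ (p j).2, add_zero, hwv]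
      have huw : h u w = r + δ := by rw [← herm_conj hF w u, hwu, q_add hF, hrr, pow_q_pow_q hF]
      have hxs : h (w - u) (w - u) = 0 := by
        simp only [h_sub_left hF, h_sub_right hF, ← hr, hww, hwu, huw]
        linear_combination -hδ
      have hxroot : w - u ∈ root q H := by
        have e : w - u = (w - (p i : Vs)) + -(p j : Vs) := by rw [hu]; abel
        rcases eq_or_ne (w - (p i : Vs)) 0 with e1 | e1
        · rw [e, e1, zero_add] at hxs ⊢
          exact hDroot j _ ((D j).neg_mem (p j).2) hxs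
        · rw [e] at hxs ⊢
          exact hall i j hij _ ((D i).sub_mem hw (p i).2) _ ((D j).neg_mem (p j).2) e1
            (neg_ne_zero.mpr fun e' => (hsupp p j).mp hj (Subtype.ext e')) hxs
      set p' : ∀ l, D l := Function.update (Function.update p i ⟨w, hw⟩) j 0 with hp'
      have hdiff : ψ p' = ψ p + (w - u) := by
        have e : p' = p + (Pi.single i (⟨w, hw⟩ - p i) + Pi.single j (-p j)) := funext fun o => by
          rcases eq_or_ne o j with rfl | hoj
          · simp [hp', Pi.single_eq_of_ne hij.symm]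
          rcases eq_or_ne o i with rfl | hoi
          · simp [hp', Function.update_of_ne hoj, Pi.single_eq_of_ne hoj]
          · simp [hp', Function.update_of_ne hoj, Function.update_of_ne hoi, Pi.single_eq_of_ne hoj,
              Pi.single_eq_of_ne hoi]
        rw [e, map_add, map_add, hψsingle, hψsingle, Submodule.coe_sub, Submodule.coe_neg, hu]
        abel
      have hpx : h (ψ p) (w - u) = δ := by
        rw [h_sub_right hF, hu, herm_add_right hF, hψfs p i w hw, hψfs p i _ (p i).2, hψfs p j _ (p j).2,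
          ← hnorm2 i j hij _ (p i).2 _ (p j).2, ← hu, ← hr, ← herm_conj hF w (p i), hwv, q_add hF, hrr,
          pow_q_pow_q hF]
        ring
      have hTm : (T (w - u) δ⁻¹ hxs : Matrix (Fin n) (Fin n) F) *ᵥ ψ p = ψ p' := by
        rw [T_mulVec, hpx, inv_mul_cancel₀ hδ0, one_smul, hdiff]
      have hcard' : (supp p').card < (supp p).card := by
        refine Finset.card_lt_card (Finset.ssubset_iff_of_subset (fun o ho => ?_) |>.mpr ⟨j, hj, ?_⟩)
        · rw [hsupp] at ho ⊢
          rcases eq_or_ne o j with rfl | hoj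
          · exact absurd (by simp [hp']) ho
          rcases eq_or_ne o i with rfl | hoi
          · exact (hsupp p o).mp hi
          · simpa [hp', Function.update_of_ne hoj, Function.update_of_ne hoi] using ho
        · rw [hsupp]; simp [hp']
      have hTK := T_mem hF (w - u) hxs (inv_skew hF hδ)
      have hp'root : ψ p' ∈ root q H :=
        ih _ (lt_of_lt_of_le hcard' hpN) p' le_rfl (by rw [← hTm, apply_K hTK, hv])
      have h1 := root_map hHK (inv_mem (hxroot.2 _ (inv_skew hF hδ))) hp'root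
      rwa [← hTm, inv_mulVec_mulVec] at h1

end Cfsg.Agent.Lib.UnitaryMax
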