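import Cfsg.Agent.Lib.UnitaryMax.FrameSix
import Cfsg.Agent.Lib.UnitaryMax.Decomp

/-!
Maximality of the stabiliser of an orthogonal frame in the special unitary group.
-/

set_option autoImplicit false
set_option linter.unusedSectionVars false

namespace Cfsg.Agent.Lib.UnitaryMax

open Matrix Cfsg.Agent.Lib.Forms Cfsg.Agent.Lib.FormMax

variable {F : Type*} [Field F] [Fintype F] {n q : ℕ}

local notation "Vs" => (Fin n → F)
local notation "h" => Cfsg.hermForm n F q

variable (hF : Fintype.card F = q ^ 2)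
include hF

/-- A transvection of the special unitary group which is not monomial. -/
theorem exists_not_mono (hn : 4 ≤ n) : ∃ g ∈ suGL n F q, ¬ IsMono g := by
  classical
  obtain ⟨δ, hδ, hδ0⟩ := exists_skew_ne hF
  obtain ⟨μ, hμ⟩ := exists_norm_eq (qPowHom_ne_id hF) (qPowHom_qPowHom hF) (c := (-1 : F))
    (by rw [qPowHom_apply, q_neg hF, one_pow])
  rw [qPowHom_apply] at hμ
  have hμ0 : μ ≠ 0 := fun e => by rw [e, zero_mul] at hμ; exact neg_ne_zero.mpr one_ne_zero hμ.symm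
  set a : Fin n := ⟨0, by omega⟩
  set b : Fin n := ⟨1, by omega⟩
  set c : Fin n := ⟨2, by omega⟩
  set d : Fin n := ⟨3, by omega⟩
  set x : Vs := Pi.single a 1 + Pi.single b μ + Pi.single c 1 + Pi.single d μ with hx
  have hxx : h x x = 0 := by
    rw [hx]
    simp only [herm_add_left hF, herm_single_left]
    simp [a, b, c, d, Pi.single_apply, q_zero hF]
    linear_combination 2 * hμ
  refine ⟨T x δ hxx, T_mem hF x hxx hδ, fun hm => ?_⟩
  obtain ⟨o, e, he⟩ := hm a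
  have hxa : h (Pi.single a 1 : Vs) x = 1 := by
    rw [herm_single_left, hx]
    simp [a, b, c, d, Pi.single_apply]
  rw [T_mulVec, hxa, mul_one] at he
  have hb := congrFun he b
  have hc := congrFun he c
  simp [hx, a, b, c, d, Pi.single_apply] at hb hc
  split_ifs at hb hc with h1 h2
  · exact absurd (h2.trans h1.symm) (by simp)
  all_goals first
    | exact hδ0 hc
    | exact mul_ne_zero hδ0 hμ0 (by linear_combination hb)
    | simp_all

/-- The stabiliser of an orthogonal decomposition into lines is maximal. -/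
theorem isMaximalIn_decomp_one_of_core (hn : 4 ≤ n)
    (hcore : ∀ H : Subgroup (GL (Fin n) F), H ≤ suGL n F q → ContainsMono q H →
      (∃ g ∈ H, ¬ IsMono g) → H = suGL n F q)
    {t : ℕ} {D : Fin t → Submodule F Vs}
    (hD : Cfsg.Geo.IsNondegenerateMDecomposition (Cfsg.hermForm n F q) 1 D) :
    Cfsg.Geo.IsMaximalIn (suGL n F q) (Cfsg.Geo.decompositionStabilizer D ⊓ suGL n F q) := by
  classical
  obtain ⟨ψ, -, -, -, -, -, hkt⟩ := exists_sum_equiv hF D hD
  obtain rfl : t = n := by omega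
  have hline : ∀ i, ∃ b : Fin t → F, b ∈ D i ∧ Cfsg.hermForm t F q b b = 1 ∧ ∀ x ∈ D i, ∃ c : F, c • b = x := by
    intro i
    have h1 := hD.decomp.finrank_eq i
    obtain ⟨⟨v, hv⟩, hv0, hall⟩ := (finrank_eq_one_iff' (K := F) (V := D i)).mp h1
    have hv0' : v ≠ 0 := fun e => hv0 (Subtype.ext e)
    obtain ⟨y, hy, hne⟩ := (hD.nondegenerate i v hv hv0').2
    obtain ⟨c, hc⟩ := hall ⟨y, hy⟩
    have hc' : c • v = y := congrArg Subtype.val hc
    have hvv : Cfsg.hermForm t F q v v ≠ 0 := fun e => hne (by rw [← hc', herm_smul_right hF, e, mul_zero])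
    obtain ⟨s, hs⟩ := exists_norm_eq (qPowHom_ne_id hF) (qPowHom_qPowHom hF) (c := (Cfsg.hermForm t F q v v)⁻¹)
      (by rw [qPowHom_apply, inv_pow, herm_conj hF])
    rw [qPowHom_apply] at hs
    have hs0 : s ≠ 0 := fun e => inv_ne_zero hvv (by rw [← hs, e, zero_mul])
    refine ⟨s • v, (D i).smul_mem _ hv, ?_, fun x hx => ?_⟩
    · rw [herm_smul_left hF, herm_smul_right hF, ← mul_assoc, hs, inv_mul_cancel₀ hvv]
    · obtain ⟨c, hc⟩ := hall ⟨x, hx⟩
      refine ⟨c / s, ?_⟩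
      rw [smul_smul, div_mul_cancel₀ _ hs0]
      exact congrArg Subtype.val hc
  choose b hbD hb1 hbs using hline
  have hbb : ∀ i j, Cfsg.hermForm t F q (b i) (b j) = if i = j then 1 else 0 := fun i j => by
    split_ifs with e
    · rw [e, hb1]
    · exact hD.orthogonal i j e _ (hbD i) _ (hbD j)
  set M : Matrix (Fin t) (Fin t) F := Matrix.of fun a i => b i a with hM
  have hMx : ∀ x, M *ᵥ x = ∑ i, x i • b i := fun x => by
    funext a; simp [hM, Matrix.mulVec, dotProduct, Finset.sum_apply, mul_comm]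
  have hMh : ∀ x y, Cfsg.hermForm t F q (M *ᵥ x) (M *ᵥ y) = Cfsg.hermForm t F q x y := fun x y => by
    rw [hMx, hMx, herm_sum_left hF]
    refine Finset.sum_congr rfl fun i _ => ?_
    rw [herm_sum_right hF]
    simp [herm_smul_left hF, herm_smul_right hF, hbb]
  have hdet : M.det ≠ 0 := by
    intro e
    obtain ⟨v, hv, hv'⟩ := Matrix.exists_mulVec_eq_zero_iff.mpr e
    obtain ⟨y, hy⟩ := exists_h_ne hF hv
    rw [← hMh, hv', h_zero_left hF] at hy
    exact hy rfl
  set g₀ := Matrix.GeneralLinearGroup.mkOfDetNeZero M hdet with hg₀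
  have hg₀v : (g₀ : Matrix (Fin t) (Fin t) F) = M := rfl
  have hcol : ∀ l, (g₀ : Matrix (Fin t) (Fin t) F) *ᵥ Pi.single l 1 = b l := fun l => by
    rw [hg₀v, hMx, Finset.sum_eq_single l (fun i _ hi => by rw [Pi.single_eq_of_ne hi, zero_smul]) (by simp),
      Pi.single_eq_same, one_smul]
  have hg₀GU : g₀ ∈ Cfsg.GU t F q := hMh
  have hconj : ∀ g : GL (Fin t) F, g ∈ suGL t F q → g₀⁻¹ * g * g₀ ∈ suGL t F q := fun g hg =>
    Subgroup.mem_inf.mpr ⟨(Cfsg.GU t F q).mul_mem ((Cfsg.GU t F q).mul_mem ((Cfsg.GU t F q).inv_mem hg₀GU) hg.1) hg₀GU, by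
      have h1 : Matrix.GeneralLinearGroup.det g = 1 := hg.2
      show Matrix.GeneralLinearGroup.det (g₀⁻¹ * g * g₀) = 1
      rw [map_mul, map_mul, h1, mul_one, map_inv, inv_mul_cancel]⟩
  have hconj' : ∀ g : GL (Fin t) F, g ∈ suGL t F q → g₀ * g * g₀⁻¹ ∈ suGL t F q := fun g hg =>
    Subgroup.mem_inf.mpr ⟨(Cfsg.GU t F q).mul_mem ((Cfsg.GU t F q).mul_mem hg₀GU hg.1) ((Cfsg.GU t F q).inv_mem hg₀GU), by
      have h1 : Matrix.GeneralLinearGroup.det g = 1 := hg.2
      show Matrix.GeneralLinearGroup.det (g₀ * g * g₀⁻¹) = 1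
      rw [map_mul, map_mul, h1, mul_one, map_inv, mul_inv_cancel]⟩
  have hstab : ∀ g : GL (Fin t) F, IsMono g → g₀ * g * g₀⁻¹ ∈ Cfsg.Geo.decompositionStabilizer D := fun g hg => by
    obtain ⟨π, c, hπ, -, hg⟩ := hg.exists_map
    refine mem_decompStab hF hD (Equiv.ofBijective π ⟨hπ, Finite.injective_iff_surjective.mp hπ⟩) fun i x hx => ?_
    obtain ⟨s, rfl⟩ := hbs i x hx
    rw [mulVec_smul, ← hcol, Units.val_mul, Units.val_mul, ← mulVec_mulVec, ← mulVec_mulVec, inv_mulVec_mulVec,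
      hg, mulVec_smul, hcol]
    exact (D (π i)).smul_mem _ ((D (π i)).smul_mem _ (hbD _))
  have hmono : ∀ g : GL (Fin t) F, g ∈ Cfsg.Geo.decompositionStabilizer D → IsMono (g₀⁻¹ * g * g₀) := fun g hg l => by
    obtain ⟨σ, hσ⟩ := hg
    have h1 : (g : Matrix (Fin t) (Fin t) F) *ᵥ b l ∈ D (σ l) := by
      rw [← hσ l]
      exact ⟨b l, hbD l, Matrix.toLin'_apply _ _⟩
    obtain ⟨s, hs⟩ := hbs _ _ h1
    refine ⟨σ l, s, ?_⟩
    rw [Units.val_mul, Units.val_mul, ← mulVec_mulVec, ← mulVec_mulVec, hcol, ← hs, mulVec_smul, ← hcol,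
      inv_mulVec_mulVec]
  refine ⟨lt_of_le_of_ne inf_le_right fun e => ?_, fun H hMH hHK => ?_⟩
  · obtain ⟨g, hg, hgm⟩ := exists_not_mono (n := t) hF (by omega)
    have h1 := hmono _ (e.ge (hconj' g hg)).1
    rw [show g₀⁻¹ * (g₀ * g * g₀⁻¹) * g₀ = g by group] at h1
    exact hgm h1
  by_cases hle : H ≤ Cfsg.Geo.decompositionStabilizer D
  · exact Or.inl (le_antisymm (le_inf hle hHK) hMH)
  right
  obtain ⟨g, hgH, hg⟩ := SetLike.not_le_iff_exists.mp hle
  set H' := H.comap (MulAut.conj g₀).toMonoidHom with hH'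
  have hmem : ∀ y, y ∈ H' ↔ g₀ * y * g₀⁻¹ ∈ H := fun y => by
    rw [hH', Subgroup.mem_comap]; rfl
  have hH'K : H' ≤ suGL t F q := fun y hy => by
    have h1 := hconj _ (hHK ((hmem y).mp hy))
    rwa [show g₀⁻¹ * (g₀ * y * g₀⁻¹) * g₀ = y by group] at h1
  have hM' : ContainsMono q H' := fun y hy hym => (hmem y).mpr (hMH ⟨hstab y hym, hconj' y hy⟩)
  have hg' : g₀⁻¹ * g * g₀ ∈ H' := (hmem _).mpr (by rwa [show g₀ * (g₀⁻¹ * g * g₀) * g₀⁻¹ = g by group])
  have hgm' : ¬ IsMono (g₀⁻¹ * g * g₀) := fun hm => hg (by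
    have h1 := hstab _ hm
    rwa [show g₀ * (g₀⁻¹ * g * g₀) * g₀⁻¹ = g by group] at h1)
  have heq : H' = suGL t F q := hcore H' hH'K hM' ⟨_, hg', hgm'⟩
  refine le_antisymm hHK fun y hy => ?_
  have h1 := (hmem _).mp (heq.ge (hconj y hy))
  rwa [show g₀ * (g₀⁻¹ * y * g₀) * g₀⁻¹ = y by group] at h1

/-- The stabiliser of an orthogonal decomposition into lines is maximal in dimension six and from ten on. -/
theorem isMaximalIn_decomp_one_gen (hn : 10 ≤ n ∨ (n = 6 ∧ 3 ≤ q)) {t : ℕ} {D : Fin t → Submodule F Vs}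
    (hD : Cfsg.Geo.IsNondegenerateMDecomposition (Cfsg.hermForm n F q) 1 D) :
    Cfsg.Geo.IsMaximalIn (suGL n F q) (Cfsg.Geo.decompositionStabilizer D ⊓ suGL n F q) := by
  classical
  refine isMaximalIn_decomp_one_of_core hF (by omega) (fun H hH hM ⟨g, hg, hgm⟩ => ?_) hD
  rcases hn with hn | ⟨hn, hq⟩
  · exact eq_suGL_of_nonmono hF hn hH hM hg hgm
  · exact eq_suGL_of_six hF hn hq hH hM hg hgm

/-- The stabiliser of an orthogonal decomposition into lines is maximal in dimension at least ten. -/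
theorem isMaximalIn_decomp_one (hn : 10 ≤ n) {t : ℕ} {D : Fin t → Submodule F Vs}
    (hD : Cfsg.Geo.IsNondegenerateMDecomposition (Cfsg.hermForm n F q) 1 D) :
    Cfsg.Geo.IsMaximalIn (suGL n F q) (Cfsg.Geo.decompositionStabilizer D ⊓ suGL n F q) :=
  isMaximalIn_decomp_one_gen hF (Or.inl hn) hD

end Cfsg.Agent.Lib.UnitaryMax
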