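import Cfsg.Agent.Lib.UnitaryMax.Basic

/-!
Maximality of the stabiliser of a pair of complementary totally singular subspaces in the special unitary group.
-/

set_option autoImplicit false
set_option linter.unusedSectionVars false

namespace Cfsg.Agent.Lib.UnitaryMax

open Matrix Cfsg.Agent.Lib.Forms Cfsg.Agent.Lib.FormMax

variable {F : Type*} [Field F] [Fintype F] {n q : ℕ}

local notation "Vs" => (Fin n → F)
local notation "h" => Cfsg.hermForm n F q

/-- The Eichler elements of the pair `u`, `v` with every coefficient lie in `H`. -/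
def PairIn (q : ℕ) (H : Subgroup (GL (Fin n) F)) (u v : Vs) : Prop :=
  ∀ c : F, ∃ g ∈ H, ∀ x : Vs, (g : Matrix (Fin n) (Fin n) F) *ᵥ x =
    x + (c * Cfsg.hermForm n F q x v) • u - (c ^ q * Cfsg.hermForm n F q x u) • v

variable (hF : Fintype.card F = q ^ 2) {H : Subgroup (GL (Fin n) F)}
include hF

theorem PairIn.map (hH : H ≤ suGL n F q) {g : GL (Fin n) F} (hg : g ∈ H) {u v : Vs} (hp : PairIn q H u v) :
    PairIn q H ((g : Matrix (Fin n) (Fin n) F) *ᵥ u) ((g : Matrix (Fin n) (Fin n) F) *ᵥ v) := by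
  intro c
  obtain ⟨e, he, hex⟩ := hp c
  refine ⟨g * e * g⁻¹, H.mul_mem (H.mul_mem hg he) (H.inv_mem hg), fun x => ?_⟩
  have hi : ∀ w : Vs, h (((g⁻¹ : GL (Fin n) F) : Matrix (Fin n) (Fin n) F) *ᵥ x) w =
      h x ((g : Matrix (Fin n) (Fin n) F) *ᵥ w) := fun w => by
    conv_rhs => rw [← mulVec_inv_mulVec g x, apply_K (hH hg)]
  rw [Units.val_mul, Units.val_mul, ← mulVec_mulVec, ← mulVec_mulVec, hex, mulVec_sub, mulVec_add, mulVec_smul,
    mulVec_smul, mulVec_inv_mulVec, hi, hi]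

theorem PairIn.symm {u v : Vs} (hp : PairIn q H u v) : PairIn q H v u := by
  intro c
  obtain ⟨e, he, hex⟩ := hp (-(c ^ q))
  refine ⟨e, he, fun x => ?_⟩
  rw [hex, q_neg hF, pow_q_pow_q hF]
  module

section

variable {A B : Submodule F (Fin n → F)}
  (hA : ∀ u ∈ A, ∀ v ∈ A, Cfsg.hermForm n F q u v = 0) (hB : ∀ u ∈ B, ∀ v ∈ B, Cfsg.hermForm n F q u v = 0)
  (hsup : A ⊔ B = ⊤) (hinf : A ⊓ B = ⊥)
include hA hB hsup hinf

theorem sep_dual {S : Submodule F Vs} (hS : S ≤ B) {y : Vs} (hy : y ∈ B) (hyS : y ∉ S) :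
    ∃ p ∈ A, (∀ s ∈ S, h s p = 0) ∧ h y p = 1 := by
  have hg := hermSesq_goodForm (n := n) hF
  have hnot : y ∉ A ⊔ S := by
    intro h'
    obtain ⟨x, hx, s, hs, hxs⟩ := Submodule.mem_sup.mp h'
    have hxY : x ∈ B := by rw [eq_sub_of_add_eq hxs]; exact B.sub_mem hy (hS hs)
    have : x ∈ A ⊓ B := ⟨hx, hxY⟩
    rw [hinf, Submodule.mem_bot] at this
    rw [this, zero_add] at hxs
    exact hyS (hxs ▸ hs)
  obtain ⟨a, ha, -, hay⟩ := hg.exists_sep hnot
  simp only [hermSesq_apply] at ha hay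
  refine ⟨a, ?_, fun s hs => ha s (Submodule.mem_sup_right hs), hay⟩
  obtain ⟨a₀, ha₀, a₁, ha₁, rfl⟩ := Submodule.mem_sup.mp (hsup.ge (Submodule.mem_top (x := a)))
  have h0 : a₁ = 0 := hg.nondeg a₁ fun z => by
    obtain ⟨z₀, hz₀, z₁, hz₁, rfl⟩ := Submodule.mem_sup.mp (hsup.ge (Submodule.mem_top (x := z)))
    rw [hermSesq_apply, herm_add_left hF, hB z₁ hz₁ a₁ ha₁, add_zero]
    have h1 := ha z₀ (Submodule.mem_sup_left hz₀)
    rwa [herm_add_right hF, hA z₀ hz₀ a₀ ha₀, zero_add] at h1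
  rw [h0, add_zero]; exact ha₀

omit hsup hinf in
/-- A vector of `B` orthogonal to a given one and outside a line. -/
theorem exists_avoid (hdim : 3 ≤ Module.finrank F B) (r y : Vs) :
    ∃ b ∈ B, h b r = 0 ∧ b ∉ Submodule.span F ({y} : Set Vs) := by
  classical
  let φ : B →ₗ[F] F := (hermSesq hF n r).comp B.subtype
  have h1 := φ.finrank_range_add_finrank_ker
  have h3 : Module.finrank F φ.range ≤ 1 := by simpa using Submodule.finrank_le φ.range
  by_contra hno
  push Not at hno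
  have hle : φ.ker.map B.subtype ≤ Submodule.span F ({y} : Set Vs) := by
    rintro _ ⟨z, hz, rfl⟩
    exact hno _ z.2 (by simpa [φ] using LinearMap.mem_ker.mp hz)
  have h4 := Submodule.finrank_mono hle
  rw [(Submodule.equivMapOfInjective _ B.injective_subtype φ.ker).finrank_eq.symm] at h4
  have h5 : Module.finrank F (Submodule.span F ({y} : Set Vs)) ≤ 1 := by
    refine (finrank_span_le_card (R := F) ({y} : Set Vs)).trans ?_
    simp
  omega

omit hsup hinf in
/-- A nonzero vector of `B` orthogonal to two given vectors. -/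
theorem exists_orth_pair (hdim : 3 ≤ Module.finrank F B) (r s : Vs) :
    ∃ b ∈ B, b ≠ 0 ∧ h b r = 0 ∧ h b s = 0 := by
  classical
  let φ : B →ₗ[F] F × F := LinearMap.prod ((hermSesq hF n r).comp B.subtype)
    ((hermSesq hF n s).comp B.subtype)
  have h1 := φ.finrank_range_add_finrank_ker
  have h3 : Module.finrank F φ.range ≤ 2 := by simpa using Submodule.finrank_le φ.range
  have hker : φ.ker ≠ ⊥ := fun e => by rw [e, finrank_bot] at h1; omega
  obtain ⟨z, hz, hz0⟩ := Submodule.exists_mem_ne_zero_of_ne_bot hker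
  have hz' := LinearMap.mem_ker.mp hz
  simp only [φ, LinearMap.prod_apply, Function.prod_apply, Prod.mk_eq_zero] at hz'
  exact ⟨z, z.2, fun e => hz0 (Subtype.ext e), by simpa using hz'.1, by simpa using hz'.2⟩

omit hsup hinf in
/-- Moving the components in `B` along `b` yields the root subgroup of `b`. -/
theorem root_of_shift (hH : H ≤ suGL n F q) (hold : ∀ a ∈ A, ∀ b ∈ B, h a b = 0 → PairIn q H a b)
    {a b : Vs} (ha : a ∈ A) (hb : b ∈ B) (hba : h b a = 0) {u₀ u₁ v₀ v₁ : Vs} (hu₀ : u₀ ∈ A) (hu₁ : u₁ ∈ B)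
    (hv₀ : v₀ ∈ A) (hv₁ : v₁ ∈ B) (hbu : h b u₀ = 0) (hbv : h b v₀ = 0)
    (huu : h (u₀ + u₁) (u₀ + u₁) = 0) (huv : h (u₀ + u₁) (v₀ + v₁) = 0) (hvv : h (v₀ + v₁) (v₀ + v₁) = 0)
    (hl : h u₁ a ≠ 0) (hm : h v₁ a ≠ 0) (hP : PairIn q H (u₀ + u₁) (v₀ + v₁)) : b ∈ root q H := by
  set l := h u₁ a with hldef
  set m := h v₁ a with hmdef
  have hbb : h b b = 0 := hB b hb b hb
  set u := u₀ + u₁ with hudef
  set v := v₀ + v₁ with hvdef
  have hub : h u b = 0 := by rw [hudef, herm_add_left hF, h_symm hF hbu, hB u₁ hu₁ b hb, add_zero]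
  have hvb : h v b = 0 := by rw [hvdef, herm_add_left hF, h_symm hF hbv, hB v₁ hv₁ b hb, add_zero]
  have hua : h u a = l := by rw [hudef, herm_add_left hF, hA u₀ hu₀ a ha, zero_add]
  have hva : h v a = m := by rw [hvdef, herm_add_left hF, hA v₀ hv₀ a ha, zero_add]
  refine ⟨hbb, fun d hd => ?_⟩
  have hshift : ∀ s : F, PairIn q H (u + (s * l) • b) (v + (s * m) • b) := by
    intro s
    obtain ⟨e, he, hex⟩ := hold a ha b hb (h_symm hF hba) (-(s ^ q))
    have h1 : (e : Matrix (Fin n) (Fin n) F) *ᵥ u = u + (s * l) • b := by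
      rw [hex, hub, hua, q_neg hF, pow_q_pow_q hF]
      module
    have h2 : (e : Matrix (Fin n) (Fin n) F) *ᵥ v = v + (s * m) • b := by
      rw [hex, hvb, hva, q_neg hF, pow_q_pow_q hF]
      module
    have h3 := hP.map hF hH he
    rw [h1, h2] at h3
    exact h3
  obtain ⟨z, hz⟩ := exists_moved hF
  have hmq : m ^ q ≠ 0 := pow_ne_zero _ hm
  set c := z / (m ^ q * l) with hc
  set e := c * (m ^ q * l) - (c * (m ^ q * l)) ^ q with he
  have he0 : e ≠ 0 := by
    rw [he, hc, div_mul_cancel₀ _ (mul_ne_zero hmq hl)]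
    exact sub_ne_zero.mpr (Ne.symm hz)
  have heq : e ^ q = -e := by rw [he, q_sub hF, pow_q_pow_q hF]; ring
  obtain ⟨τ, hτ⟩ := exists_trace_one hF
  set t := τ * (d / e) with ht
  have htr : e * (t + t ^ q) = d := by
    rw [ht, mul_pow, div_pow, eq_neg_of_add_eq_zero_right hd, heq, neg_div_neg_eq, ← add_mul, hτ, one_mul,
      mul_div_cancel₀ _ he0]
  have he' : e = c * (m ^ q * l) - c ^ q * (m * l ^ q) := by
    rw [he, mul_pow, mul_pow, pow_q_pow_q hF]
  have hvu : h v u = 0 := h_symm hF huv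
  clear_value t e c
  obtain ⟨g00, hg00, hg00x⟩ := hshift 0 c
  obtain ⟨g10, hg10, hg10x⟩ := hshift 1 c
  obtain ⟨g01, hg01, hg01x⟩ := hshift t c
  obtain ⟨g11, hg11, hg11x⟩ := hshift (1 + t) c
  have e' : g11 * g00 = T b d hbb * (g10 * g01) := by
    refine gl_ext fun x => ?_
    simp only [Units.val_mul, ← mulVec_mulVec, T_mulVec, hg00x, hg10x, hg01x, hg11x, herm_add_left hF,
      herm_add_right hF, h_sub_left hF, herm_smul_left hF, herm_smul_right hF, huu, huv, hvu, hvv, hub,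
      h_symm hF hub, hvb, h_symm hF hvb, hbb, q_zero hF, one_pow, q_add hF, mul_pow]
    rw [← htr, he']
    match_scalars <;> ring
  have h1 := H.mul_mem (H.mul_mem hg11 hg00) (H.inv_mem (H.mul_mem hg10 hg01))
  rwa [e', mul_inv_cancel_right] at h1

/-- A pair with a component in `B` on the line of `b` yields the root subgroup of `b`. -/
theorem root_of_edge (hH : H ≤ suGL n F q) (hold : ∀ a ∈ A, ∀ b ∈ B, h a b = 0 → PairIn q H a b)
    {b : Vs} (hb : b ∈ B) {u₀ u₁ v₀ : Vs} (hu₀ : u₀ ∈ A) (hu₁ : u₁ ∈ B)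
    (hv₀ : v₀ ∈ A) (hbu : h b u₀ = 0) (hbv : h b v₀ = 0) {k : F} (hk : k ≠ 0)
    (huu : h (u₀ + u₁) (u₀ + u₁) = 0) (huv : h (u₀ + u₁) (v₀ + k • b) = 0)
    (hub1 : u₁ ∉ Submodule.span F ({b} : Set Vs))
    (hP : PairIn q H (u₀ + u₁) (v₀ + k • b)) : b ∈ root q H := by
  obtain ⟨a, ha, haS, hau⟩ := sep_dual hF hA hB hsup hinf (S := Submodule.span F {b})
    ((Submodule.span_singleton_le_iff_mem _ _).mpr hb) hu₁ hub1
  have hba : h b a = 0 := haS b (Submodule.mem_span_singleton_self b)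
  have hbb : h b b = 0 := hB b hb b hb
  set u := u₀ + u₁ with hudef
  have hub : h u b = 0 := by rw [hudef, herm_add_left hF, h_symm hF hbu, hB u₁ hu₁ b hb, add_zero]
  have hua : h u a = 1 := by rw [hudef, herm_add_left hF, hA u₀ hu₀ a ha, hau, zero_add]
  refine ⟨hbb, fun d hd => ?_⟩
  obtain ⟨e, he, hex⟩ := hold a ha b hb (h_symm hF hba) (-1)
  have h1 : (e : Matrix (Fin n) (Fin n) F) *ᵥ u = u + b := by
    rw [hex, hub, hua, q_neg hF, one_pow]; module
  have h2 : (e : Matrix (Fin n) (Fin n) F) *ᵥ (v₀ + k • b) = v₀ + k • b := by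
    rw [hex]
    simp only [herm_add_left hF, herm_smul_left hF, hba, hbb, h_symm hF hbv, hA v₀ hv₀ a ha, mul_zero,
      add_zero, zero_smul, sub_zero]
  have hP' := hP.map hF hH he
  rw [h1, h2] at hP'
  obtain ⟨τ, hτ⟩ := exists_trace_one hF
  set c := τ * d / k ^ q with hc
  have hd' : d = c * k ^ q - c ^ q * k := by
    rw [hc, div_mul_cancel₀ _ (pow_ne_zero _ hk), div_pow, pow_q_pow_q hF, div_mul_cancel₀ _ hk, mul_pow,
      eq_neg_of_add_eq_zero_right hd]
    linear_combination (-d) * hτ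
  clear_value c
  obtain ⟨g₁, hg₁, hg₁x⟩ := hP c
  obtain ⟨g₂, hg₂, hg₂x⟩ := hP' c
  obtain ⟨g₃, hg₃, hg₃x⟩ := hold v₀ hv₀ b hb (h_symm hF hbv) (-(c ^ q))
  have hvb : h v₀ b = 0 := h_symm hF hbv
  have hvu : h (v₀ + k • b) u = 0 := h_symm hF huv
  have hvv : h v₀ v₀ = 0 := hA v₀ hv₀ v₀ hv₀
  have hvu0 : h v₀ u = 0 := by
    rwa [herm_add_left hF, herm_smul_left hF, h_symm hF hub, mul_zero, add_zero] at hvu
  have huv0 : h u v₀ = 0 := h_symm hF hvu0
  have e' : g₂ = T b d hbb * (g₃ * g₁) := by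
    refine gl_ext fun x => ?_
    simp only [Units.val_mul, ← mulVec_mulVec, T_mulVec, hg₁x, hg₂x, hg₃x, herm_add_left hF,
      herm_add_right hF, h_sub_left hF, herm_smul_left hF, herm_smul_right hF, huu, huv0, hvu0, hvv, hub,
      h_symm hF hub, hvb, hbv, hbb, q_zero hF, one_pow, q_neg hF, pow_q_pow_q hF]
    rw [hd']
    match_scalars <;> ring
  have h3 := H.mul_mem hg₂ (H.inv_mem (H.mul_mem hg₃ hg₁))
  rwa [e', mul_inv_cancel_right] at h3

/-- A pair with independent components in `B` yields a root vector in `B`. -/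
theorem exists_root_of_indep (hH : H ≤ suGL n F q) (hdim : 3 ≤ Module.finrank F B)
    (hold : ∀ a ∈ A, ∀ b ∈ B, h a b = 0 → PairIn q H a b) {u₀ u₁ v₀ v₁ : Vs} (hu₀ : u₀ ∈ A) (hu₁ : u₁ ∈ B)
    (hv₀ : v₀ ∈ A) (hv₁ : v₁ ∈ B) (hP : PairIn q H (u₀ + u₁) (v₀ + v₁))
    (huu : h (u₀ + u₁) (u₀ + u₁) = 0) (huv : h (u₀ + u₁) (v₀ + v₁) = 0)
    (hvv : h (v₀ + v₁) (v₀ + v₁) = 0) (hu : u₁ ≠ 0)
    (hv : v₁ ∉ Submodule.span F {u₁}) : ∃ b ∈ B, b ≠ 0 ∧ b ∈ root q H := by
  obtain ⟨b, hb, hb0, hbu, hbv⟩ := exists_orth_pair hF hA hB hdim u₀ v₀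
  refine ⟨b, hb, hb0, ?_⟩
  by_cases hvb : v₁ ∈ Submodule.span F ({b} : Set Vs)
  · obtain ⟨k, hk⟩ := Submodule.mem_span_singleton.mp hvb
    have hk0 : k ≠ 0 := fun e => hv (by rw [← hk, e, zero_smul]; exact Submodule.zero_mem _)
    subst hk
    refine root_of_edge hF hA hB hsup hinf hH hold hb hu₀ hu₁ hv₀ hbu hbv hk0 huu huv (fun h' => ?_) hP
    obtain ⟨x, hx⟩ := Submodule.mem_span_singleton.mp h'
    have hx0 : x ≠ 0 := fun e => hu (by rw [← hx, e, zero_smul])
    exact hv (Submodule.mem_span_singleton.mpr ⟨k / x, by rw [← hx, smul_smul, div_mul_cancel₀ _ hx0]⟩)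
  by_cases hub : u₁ ∈ Submodule.span F ({b} : Set Vs)
  · obtain ⟨k, hk⟩ := Submodule.mem_span_singleton.mp hub
    have hk0 : k ≠ 0 := fun e => hu (by rw [← hk, e, zero_smul])
    subst hk
    exact root_of_edge hF hA hB hsup hinf hH hold hb hv₀ hv₁ hu₀ hbv hbu hk0 hvv (h_symm hF huv) hvb
      (hP.symm hF)
  obtain ⟨a, ha, hba, hua, hva⟩ : ∃ a ∈ A, h b a = 0 ∧ h u₁ a ≠ 0 ∧ h v₁ a ≠ 0 := by
    have hbS : Submodule.span F ({b} : Set Vs) ≤ B := (Submodule.span_singleton_le_iff_mem _ _).mpr hb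
    obtain ⟨a₁, ha₁, haS₁, hau₁⟩ := sep_dual hF hA hB hsup hinf hbS hu₁ hub
    obtain ⟨a₂, ha₂, haS₂, hav₂⟩ := sep_dual hF hA hB hsup hinf hbS hv₁ hvb
    have hb1 := haS₁ b (Submodule.mem_span_singleton_self b)
    have hb2 := haS₂ b (Submodule.mem_span_singleton_self b)
    by_cases h1 : h v₁ a₁ = 0
    · by_cases h2 : h u₁ a₂ = 0
      · refine ⟨a₁ + a₂, A.add_mem ha₁ ha₂, ?_, ?_, ?_⟩ <;>
          simp [herm_add_right hF, hb1, hb2, hau₁, hav₂, h1, h2]
      · exact ⟨a₂, ha₂, hb2, h2, by rw [hav₂]; exact one_ne_zero⟩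
    · exact ⟨a₁, ha₁, hb1, by rw [hau₁]; exact one_ne_zero, h1⟩
  exact root_of_shift hF hA hB hH hold ha hb hba hu₀ hu₁ hv₀ hv₁ hbu hbv huu huv hvv hua hva hP

/-- A pair with parallel components yields a root vector. -/
theorem exists_root_of_parallel (hH : H ≤ suGL n F q) (hdim : 3 ≤ Module.finrank F B)
    (hold : ∀ a ∈ A, ∀ b ∈ B, h a b = 0 → PairIn q H a b) {u₀ u₁ : Vs} (hu₀ : u₀ ∈ A) (hu₁ : u₁ ∈ B)
    (hu : u₁ ≠ 0) (h01 : h u₀ u₁ = 0) {μ ν : F} (hμ : μ ≠ 0)
    (hP : PairIn q H (u₀ + u₁) (ν • u₀ + μ • u₁)) : ∃ b ∈ B, b ≠ 0 ∧ b ∈ root q H := by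
  obtain ⟨b, hb, hbu, hbn⟩ := exists_avoid hF hA hB hdim u₀ u₁
  have hb0 : b ≠ 0 := fun e => hbn (e ▸ Submodule.zero_mem _)
  have hbn' : u₁ ∉ Submodule.span F ({b} : Set Vs) := by
    intro h'
    obtain ⟨x, hx⟩ := Submodule.mem_span_singleton.mp h'
    have hx0 : x ≠ 0 := fun e => hu (by rw [← hx, e, zero_smul])
    refine hbn (Submodule.mem_span_singleton.mpr ⟨x⁻¹, ?_⟩)
    rw [← hx, smul_smul, inv_mul_cancel₀ hx0, one_smul]
  obtain ⟨a, ha, haS, hau⟩ := sep_dual hF hA hB hsup hinf (S := Submodule.span F {b})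
    ((Submodule.span_singleton_le_iff_mem _ _).mpr hb) hu₁ hbn'
  have huu : h (u₀ + u₁) (u₀ + u₁) = 0 := by
    simp [herm_add_left hF, herm_add_right hF, hA u₀ hu₀ u₀ hu₀, hB u₁ hu₁ u₁ hu₁, h01, h_symm hF h01]
  refine ⟨b, hb, hb0, root_of_shift hF hA hB hH hold ha hb (haS b (Submodule.mem_span_singleton_self b))
    hu₀ hu₁ (A.smul_mem ν hu₀) (B.smul_mem μ hu₁) hbu ?_ huu ?_ ?_ ?_ ?_ hP⟩
  · rw [herm_smul_right hF, hbu, mul_zero]
  · simp [herm_add_left hF, herm_add_right hF, herm_smul_right hF, hA u₀ hu₀ u₀ hu₀, hB u₁ hu₁ u₁ hu₁, h01,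
      h_symm hF h01]
  · simp [herm_add_left hF, herm_add_right hF, herm_smul_right hF, herm_smul_left hF, hA u₀ hu₀ u₀ hu₀, hB u₁ hu₁ u₁ hu₁, h01,
      h_symm hF h01]
  · rw [hau]; exact one_ne_zero
  · rw [herm_smul_left hF, hau, mul_one]; exact hμ

/-- Then all of `B` consists of root vectors. -/
theorem root_all (hH : H ≤ suGL n F q) (hold : ∀ a ∈ A, ∀ b ∈ B, h a b = 0 → PairIn q H a b) {b : Vs}
    (hb : b ∈ B) (hb0 : b ≠ 0) (hbr : b ∈ root q H) {y : Vs} (hy : y ∈ B) : y ∈ root q H := by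
  by_cases hbs : b ∈ Submodule.span F {y - b}
  · obtain ⟨x, hx⟩ := Submodule.mem_span_singleton.mp hbs
    have hx0 : x ≠ 0 := fun e => hb0 (by rw [← hx, e, zero_smul])
    have : y = (x⁻¹ + 1) • b := by
      rw [add_smul, one_smul]
      nth_rw 1 [← hx]
      rw [smul_smul, inv_mul_cancel₀ hx0, one_smul, sub_add_cancel]
    rw [this]; exact root_smul hF hbr _
  · obtain ⟨p, hp, hpS, hpb⟩ := sep_dual hF hA hB hsup hinf (S := Submodule.span F {y - b})
      ((Submodule.span_singleton_le_iff_mem _ _).mpr (B.sub_mem hy hb)) hb hbs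
    have hpy : h p (y - b) = 0 := h_symm hF (hpS _ (Submodule.mem_span_singleton_self _))
    obtain ⟨e, he, hex⟩ := hold p hp _ (B.sub_mem hy hb) hpy (-1)
    have h1 := root_map hH he hbr
    rw [hex, hpb, hB b hb _ (B.sub_mem hy hb)] at h1
    simpa [q_neg hF] using h1

/-- An element of the special unitary group interchanging the two subspaces. -/
theorem exists_swap : ∃ g ∈ suGL n F q,
    (∀ x ∈ A, (g : Matrix (Fin n) (Fin n) F) *ᵥ x ∈ B) ∧
    (∀ x ∈ B, (g : Matrix (Fin n) (Fin n) F) *ᵥ x ∈ A) := by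
  classical
  have hg := hermSesq_goodForm (n := n) hF
  let bA := Module.finBasis F A
  have hdual : ∀ i, ∃ f ∈ B, ∀ j, h (bA j : Vs) f = if j = i then 1 else 0 := by
    intro i
    obtain ⟨π, hπ⟩ := LinearMap.exists_extend (bA.coord i)
    obtain ⟨a, ha⟩ := hg.exists_vec π
    obtain ⟨a₀, ha₀, a₁, ha₁, rfl⟩ := Submodule.mem_sup.mp (hsup.ge (Submodule.mem_top (x := a)))
    refine ⟨a₁, ha₁, fun j => ?_⟩
    have h1 := ha (bA j : Vs)
    rw [hermSesq_apply, herm_add_right hF, hA _ (bA j).2 a₀ ha₀, zero_add] at h1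
    rw [h1, show π (bA j : Vs) = bA.coord i (bA j) from LinearMap.congr_fun hπ (bA j), Module.Basis.coord_apply,
      Module.Basis.repr_self, Finsupp.single_apply]
  choose f hfB hef using hdual
  set e : Fin (Module.finrank F A) → Vs := fun i => (bA i : Vs) with he
  have heA : ∀ i, e i ∈ A := fun i => (bA i).2
  have hfe : ∀ i j, h (f i) (e j) = if j = i then 1 else 0 := fun i j => by
    rw [← herm_conj hF (e j) (f i), hef]
    split_ifs <;> simp [q_zero hF]
  obtain ⟨δ, hδ, hδ0⟩ := exists_skew_ne hF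
  have hδ' : -δ⁻¹ + (-δ⁻¹) ^ q = 0 := by rw [q_neg hF, ← neg_add, inv_skew hF hδ, neg_zero]
  have hee : ∀ i j, h (e i) (e j) = 0 := fun i j => hA _ (heA i) _ (heA j)
  have hff : ∀ i j, h (f i) (f j) = 0 := fun i j => hB _ (hfB i) _ (hfB j)
  have hind : ∀ I : Finset (Fin (Module.finrank F A)), ∃ g ∈ suGL n F q, ∀ i,
      (g : Matrix (Fin n) (Fin n) F) *ᵥ e i = (if i ∈ I then δ • f i else e i) ∧
      (g : Matrix (Fin n) (Fin n) F) *ᵥ f i = (if i ∈ I then (-δ⁻¹) • e i else f i) := by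
    intro I
    induction I using Finset.induction with
    | empty => exact ⟨1, Subgroup.one_mem _, fun i => by simp⟩
    | insert a I haI ih =>
      obtain ⟨g, hgK, hgi⟩ := ih
      set s := T (e a) (-δ⁻¹) (hee a a) * T (f a) δ (hff a a) * T (e a) (-δ⁻¹) (hee a a) with hs
      have hsK : s ∈ suGL n F q := Subgroup.mul_mem _ (Subgroup.mul_mem _ (T_mem hF _ (hee a a) hδ')
        (T_mem hF _ (hff a a) hδ)) (T_mem hF _ (hee a a) hδ')
      have hse : ∀ i, i ≠ a → (s : Matrix (Fin n) (Fin n) F) *ᵥ e i = e i ∧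
          (s : Matrix (Fin n) (Fin n) F) *ᵥ f i = f i := fun i hi => by
        have hef2 : ∀ i j, h (e j) (f i) = if j = i then 1 else 0 := hef
        simp [hs, ← mulVec_mulVec, T_mulVec, hee, hff, hef2, hfe, hi, hi.symm]
      have hsa : (s : Matrix (Fin n) (Fin n) F) *ᵥ e a = δ • f a ∧
          (s : Matrix (Fin n) (Fin n) F) *ᵥ f a = (-δ⁻¹) • e a := by
        have hef' : h (e a) (f a) = 1 := by rw [he]; simp [hef]
        have hfe' : h (f a) (e a) = 1 := by rw [hfe]; simp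
        constructor <;>
        · simp only [hs, Units.val_mul, ← mulVec_mulVec, T_mulVec, herm_add_left hF, herm_smul_left hF, hee, hff,
            hef', hfe']
          match_scalars <;> field_simp <;> ring
      refine ⟨g * s, Subgroup.mul_mem _ hgK hsK, fun i => ?_⟩
      rw [Units.val_mul, ← mulVec_mulVec, ← mulVec_mulVec]
      rcases eq_or_ne i a with rfl | hia
      · rw [hsa.1, hsa.2, mulVec_smul, mulVec_smul, (hgi i).1, (hgi i).2, if_neg haI, if_neg haI,
          if_pos (Finset.mem_insert_self _ _), if_pos (Finset.mem_insert_self _ _)]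
        exact ⟨rfl, rfl⟩
      · rw [(hse i hia).1, (hse i hia).2, (hgi i).1, (hgi i).2]
        simp [hia]
  obtain ⟨g, hgK, hgi⟩ := hind Finset.univ
  refine ⟨g, hgK, fun x hx => ?_, fun y hy => ?_⟩
  · have hx' : x = ∑ i, bA.repr ⟨x, hx⟩ i • e i := by
      have := congrArg Subtype.val (bA.sum_repr ⟨x, hx⟩)
      rw [Submodule.coe_sum] at this
      simpa [he] using this.symm
    rw [hx', mulVec_sum]
    refine B.sum_mem fun i _ => ?_
    rw [mulVec_smul, (hgi i).1, if_pos (Finset.mem_univ i)]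
    exact B.smul_mem _ (B.smul_mem _ (hfB i))
  · set y' := y - ∑ i, h y (e i) • f i with hy'
    have hy'e : ∀ j, h y' (e j) = 0 := fun j => by
      rw [hy', h_sub_left hF, show h (∑ i, h y (e i) • f i) (e j) = ∑ i, h (h y (e i) • f i) (e j) by
        simp only [← hermSesq_apply hF, map_sum], Finset.sum_eq_single j
        (fun i _ hij => by rw [herm_smul_left hF, hfe, if_neg hij.symm, mul_zero]) (by simp),
        herm_smul_left hF, hfe, if_pos rfl, mul_one, sub_self]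
    have h0 : y' = 0 := hg.nondeg y' fun z => by
      rw [hermSesq_apply]
      refine h_symm hF ?_
      obtain ⟨z₀, hz₀, z₁, hz₁, rfl⟩ := Submodule.mem_sup.mp (hsup.ge (Submodule.mem_top (x := z)))
      have hy'B : y' ∈ B := B.sub_mem hy (B.sum_mem fun i _ => B.smul_mem _ (hfB i))
      rw [herm_add_right hF, hB y' hy'B z₁ hz₁, add_zero]
      have hz : z₀ = ∑ i, bA.repr ⟨z₀, hz₀⟩ i • e i := by
        have := congrArg Subtype.val (bA.sum_repr ⟨z₀, hz₀⟩)
        rw [Submodule.coe_sum] at this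
        simpa [he] using this.symm
      rw [hz, show h y' (∑ i, bA.repr ⟨z₀, hz₀⟩ i • e i) = ∑ i, h y' (bA.repr ⟨z₀, hz₀⟩ i • e i) by
        simp only [← hermSesq_apply hF, map_sum, LinearMap.sum_apply]]
      exact Finset.sum_eq_zero fun i _ => by rw [herm_smul_right hF, hy'e, mul_zero]
    rw [show y = ∑ i, h y (e i) • f i from sub_eq_zero.mp h0, mulVec_sum]
    refine A.sum_mem fun i _ => ?_
    rw [mulVec_smul, (hgi i).2, if_pos (Finset.mem_univ i)]
    exact A.smul_mem _ (A.smul_mem _ (heA i))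

end

/-- The stabiliser of a pair of complementary totally singular subspaces is maximal. -/
theorem isMaximalIn_pair (hn : 6 ≤ n) {k : ℕ} (hk : 2 * k = n) (D : Fin 2 → Submodule F Vs)
    (hD : Cfsg.Geo.IsMDecomposition k D)
    (hts : ∀ i, Cfsg.Geo.IsTotallySingularFor (Cfsg.hermForm n F q) (D i)) :
    Cfsg.Geo.IsMaximalIn (suGL n F q) (Cfsg.Geo.decompositionStabilizer D ⊓ suGL n F q) := by
  classical
  set X := D 0 with hXdef
  set Y := D 1 with hYdef
  have hX : ∀ u ∈ X, ∀ v ∈ X, h u v = 0 := fun u hu v hv => hts 0 u hu v hv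
  have hY : ∀ u ∈ Y, ∀ v ∈ Y, h u v = 0 := fun u hu v hv => hts 1 u hu v hv
  have hinf : X ⊓ Y = ⊥ := disjoint_iff.mp (hD.indep.pairwiseDisjoint (by simp : (0 : Fin 2) ≠ 1))
  have hsup : X ⊔ Y = ⊤ := by
    rw [eq_top_iff, ← hD.iSup_eq_top]
    refine iSup_le fun i => ?_
    fin_cases i
    · exact le_sup_left
    · exact le_sup_right
  have hinf' : Y ⊓ X = ⊥ := by rwa [inf_comm]
  have hsup' : Y ⊔ X = ⊤ := by rwa [sup_comm]
  have hdX : Module.finrank F X = k := hD.finrank_eq 0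
  have hdY : Module.finrank F Y = k := hD.finrank_eq 1
  obtain ⟨δ, hδ, hδ0⟩ := exists_skew_ne hF
  have hmap : ∀ (g : GL (Fin n) F) (i j : Fin 2),
      (∀ x ∈ D i, (g : Matrix (Fin n) (Fin n) F) *ᵥ x ∈ D j) →
      (D i).map (Matrix.toLin' (g : Matrix (Fin n) (Fin n) F)) = D j := by
    intro g i j h'
    have hinj : Function.Injective (Matrix.toLin' (g : Matrix (Fin n) (Fin n) F)) := by
      intro x y hxy
      have h3 := congrArg (((g⁻¹ : GL (Fin n) F) : Matrix (Fin n) (Fin n) F) *ᵥ ·) hxy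
      simpa [Matrix.toLin'_apply, inv_mulVec_mulVec] using h3
    refine Submodule.eq_of_le_of_finrank_eq ?_ ?_
    · rintro _ ⟨x, hx, rfl⟩
      rw [Matrix.toLin'_apply]; exact h' x hx
    · rw [← (Submodule.equivMapOfInjective _ hinj (D i)).finrank_eq, hD.finrank_eq, hD.finrank_eq]
  refine ⟨lt_of_le_of_ne inf_le_right fun e => ?_, fun H hMH hHK => ?_⟩
  · obtain ⟨x, hx, hx0⟩ := Submodule.exists_mem_ne_zero_of_ne_bot (show X ≠ ⊥ from fun e' => by
      rw [e', finrank_bot] at hdX; omega)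
    obtain ⟨p, hp, -, hxp⟩ := sep_dual hF hY hX hsup' hinf' (S := (⊥ : Submodule F Vs)) bot_le hx
      (fun h' => hx0 ((Submodule.mem_bot F).mp h'))
    obtain ⟨σ, hσ⟩ := (e.ge (T_mem hF x (hX x hx x hx) hδ)).1
    have h1 : p + δ • x ∈ D (σ 1) := by
      rw [← hσ 1]
      refine ⟨p, hp, ?_⟩
      rw [Matrix.toLin'_apply, T_mulVec, ← herm_conj hF x p, hxp, one_pow, mul_one]
    have h3 : ∀ i : Fin 2, i = 0 ∨ i = 1 := by decide
    rcases h3 (σ 1) with h' | h' <;> rw [h'] at h1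
    · have h4 : p ∈ X ⊓ Y := ⟨(Submodule.add_mem_iff_left X (X.smul_mem δ hx)).mp h1, hp⟩
      rw [hinf, Submodule.mem_bot] at h4
      rw [h4, h_zero_right hF] at hxp
      exact zero_ne_one hxp
    · have h4 : δ • x ∈ X ⊓ Y := ⟨X.smul_mem δ hx, (Submodule.add_mem_iff_right Y hp).mp h1⟩
      rw [hinf, Submodule.mem_bot] at h4
      exact smul_ne_zero hδ0 hx0 h4
  by_cases hle : H ≤ Cfsg.Geo.decompositionStabilizer D
  · exact Or.inl (le_antisymm (le_inf hle hHK) hMH)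
  right
  obtain ⟨g, hgH, hg⟩ := SetLike.not_le_iff_exists.mp hle
  have hold : ∀ a ∈ X, ∀ b ∈ Y, h a b = 0 → PairIn q H a b := by
    intro a ha b hb hab c
    have hv : h (c • a) (c • a) = 0 := hX _ (X.smul_mem c ha) _ (X.smul_mem c ha)
    have hbv : h b (c • a) = 0 := by rw [herm_smul_right hF, h_symm hF hab, mul_zero]
    set g₀ := glMk (eichlerMatrix q (c • a) b 0) (det_eichlerMatrix hF 0 hv hbv) with hg₀
    have hx : ∀ x : Vs, (g₀ : Matrix (Fin n) (Fin n) F) *ᵥ x =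
        x + (c * h x b) • a - (c ^ q * h x a) • b := fun x => by
      rw [hg₀, glMk_val, eichlerMatrix_mulVec, herm_smul_right hF]
      module
    refine ⟨g₀, hMH ⟨⟨1, fun i => hmap _ i _ fun x hxi => ?_⟩, glMk_mem _ _
      (eichlerMatrix_preserves hF hv hbv (by rw [q_zero hF, hY b hb b hb]; ring))⟩, hx⟩
    rw [hx, Equiv.Perm.one_apply]
    have h3 : ∀ i : Fin 2, i = 0 ∨ i = 1 := by decide
    rcases h3 i with rfl | rfl
    · rw [hX x hxi a ha, mul_zero, zero_smul, sub_zero]; exact X.add_mem hxi (X.smul_mem _ ha)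
    · rw [hY x hxi b hb, mul_zero, zero_smul, add_zero]; exact Y.sub_mem hxi (Y.smul_mem _ hb)
  have hold' : ∀ a ∈ Y, ∀ b ∈ X, h a b = 0 → PairIn q H a b := fun a ha b hb hab =>
    (hold b hb a ha (h_symm hF hab)).symm hF
  -- the image of some centre has two components
  obtain ⟨u₀, hu₀, u₁, hu₁, v₀, hv₀, v₁, hv₁, hu₀n, hu₁n, hP, huu, huv, hvv, hind⟩ :
      ∃ u₀ ∈ X, ∃ u₁ ∈ Y, ∃ v₀ ∈ X, ∃ v₁ ∈ Y, u₀ ≠ 0 ∧ u₁ ≠ 0 ∧ PairIn q H (u₀ + u₁) (v₀ + v₁) ∧
        h (u₀ + u₁) (u₀ + u₁) = 0 ∧ h (u₀ + u₁) (v₀ + v₁) = 0 ∧ h (v₀ + v₁) (v₀ + v₁) = 0 ∧ ∀ c : F, v₀ + v₁ ≠ c • (u₀ + u₁) := by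
    let gm := (g : Matrix (Fin n) (Fin n) F)
    have hinj : ∀ a b : Vs, gm *ᵥ a = gm *ᵥ b → a = b := fun a b h' => by
      have h3 := congrArg (((g⁻¹ : GL (Fin n) F) : Matrix (Fin n) (Fin n) F) *ᵥ ·) h'
      simpa [gm, inv_mulVec_mulVec] using h3
    have himg : ∃ a, (a ∈ X ∨ a ∈ Y) ∧ a ≠ 0 ∧ gm *ᵥ a ∉ X ∧ gm *ᵥ a ∉ Y := by
      by_contra hno
      push Not at hno
      have hone : ∀ i : Fin 2, ∃ j : Fin 2, ∀ x ∈ D i, gm *ᵥ x ∈ D j := by
        intro i
        have hcl : ∀ x ∈ D i, gm *ᵥ x ∈ X ∨ gm *ᵥ x ∈ Y := by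
          intro x hx
          rcases eq_or_ne x 0 with rfl | hx0
          · exact Or.inl (by rw [mulVec_zero]; exact X.zero_mem)
          by_cases h' : gm *ᵥ x ∈ X
          · exact Or.inl h'
          · have h3 : x ∈ X ∨ x ∈ Y := by
              fin_cases i
              · exact Or.inl hx
              · exact Or.inr hx
            exact Or.inr (hno x h3 hx0 h')
        by_cases hall : ∀ x ∈ D i, gm *ᵥ x ∈ X
        · exact ⟨0, hall⟩
        push Not at hall
        obtain ⟨y, hy, hyX⟩ := hall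
        refine ⟨1, fun x hx => ?_⟩
        rcases hcl x hx with h1 | h1
        · rcases hcl _ ((D i).add_mem hx hy) with h2 | h2
          · rw [mulVec_add] at h2
            exact absurd ((Submodule.add_mem_iff_right X h1).mp h2) hyX
          · rw [mulVec_add] at h2
            exact (Submodule.add_mem_iff_left Y ((hcl y hy).resolve_left hyX)).mp h2
        · exact h1
      choose σ hσ using hone
      refine hg ⟨Equiv.ofBijective σ ⟨fun i j hij => ?_, (Finite.injective_iff_surjective).mp (fun i j hij => ?_)⟩,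
        fun i => hmap g i _ (hσ i)⟩
      all_goals
        by_contra hne
        have h3 := hmap g i _ (hσ i)
        rw [hij, ← hmap g j _ (hσ j)] at h3
        have hinj' : Function.Injective (Matrix.toLin' gm) := fun a b h' => hinj a b (by
          simpa [Matrix.toLin'_apply] using h')
        have h4 := Submodule.map_injective_of_injective hinj' h3
        have h5 := hD.indep.pairwiseDisjoint hne
        rw [Function.onFun, h4, disjoint_self] at h5
        have h6 := hD.finrank_eq j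
        rw [h5, finrank_bot] at h6
        omega
    obtain ⟨a, haXY, ha0, haX, haY⟩ := himg
    obtain ⟨b, haa, hab, hbb, hpair, hbind⟩ :
        ∃ b, h a a = 0 ∧ h a b = 0 ∧ h b b = 0 ∧ PairIn q H a b ∧ ∀ c : F, b ≠ c • a := by
      have key : ∀ (P Q : Submodule F Vs), a ∈ P → (∀ u ∈ P, ∀ v ∈ P, h u v = 0) → P ⊓ Q = ⊥ →
          (∀ u ∈ Q, ∀ v ∈ Q, h u v = 0) → Module.finrank F Q = k → (∀ b ∈ Q, h a b = 0 → PairIn q H a b) →
          ∃ b, h a a = 0 ∧ h a b = 0 ∧ h b b = 0 ∧ PairIn q H a b ∧ ∀ c : F, b ≠ c • a := by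
        intro P Q haP hP hPQ hQts hQ hp
        let φ : Q →ₗ[F] F := (hermSesq hF n a).comp Q.subtype
        have h1 := φ.finrank_range_add_finrank_ker
        have h3 : Module.finrank F φ.range ≤ 1 := by simpa using Submodule.finrank_le φ.range
        have hker : φ.ker ≠ ⊥ := fun e => by rw [e, finrank_bot] at h1; omega
        obtain ⟨b, hb, hb0⟩ := Submodule.exists_mem_ne_zero_of_ne_bot hker
        have hab : h a b = 0 := h_symm hF (by simpa [φ] using hb)
        refine ⟨b, hP a haP a haP, hab, hQts b b.2 b b.2, hp b b.2 hab, fun c hc => hb0 (Subtype.ext ?_)⟩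
        have h4 : (b : Vs) ∈ P ⊓ Q := ⟨hc ▸ P.smul_mem c haP, b.2⟩
        rw [hPQ, Submodule.mem_bot] at h4
        exact h4
      rcases haXY with ha | ha
      · exact key X Y ha hX hinf hY hdY fun b hb hab => hold a ha b hb hab
      · exact key Y X ha hY hinf' hX hdX fun b hb hab => hold' a ha b hb hab
    have hP := hpair.map hF hHK hgH
    obtain ⟨u₀, hu₀, u₁, hu₁, hu⟩ := Submodule.mem_sup.mp (hsup.ge (Submodule.mem_top (x := gm *ᵥ a)))
    obtain ⟨v₀, hv₀, v₁, hv₁, hv⟩ := Submodule.mem_sup.mp (hsup.ge (Submodule.mem_top (x := gm *ᵥ b)))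
    refine ⟨u₀, hu₀, u₁, hu₁, v₀, hv₀, v₁, hv₁, fun e => ?_, fun e => ?_, by rw [hu, hv]; exact hP,
      by rw [hu, apply_K (hHK hgH), haa], by rw [hu, hv, apply_K (hHK hgH), hab],
      by rw [hv, apply_K (hHK hgH), hbb],
      fun c hc => hbind c (hinj _ _ ?_)⟩
    · exact haY (by rw [← hu, e, zero_add]; exact hu₁)
    · exact haX (by rw [← hu, e, add_zero]; exact hu₀)
    · rw [mulVec_smul, ← hu, ← hv, hc]
  -- a root vector in one of the subspaces
  have hroot : (∃ b ∈ Y, b ≠ 0 ∧ b ∈ root q H) ∨ (∃ b ∈ X, b ≠ 0 ∧ b ∈ root q H) := by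
    by_cases hA : v₁ ∈ Submodule.span F {u₁}
    swap
    · exact Or.inl (exists_root_of_indep hF hX hY hsup hinf hHK (by omega) hold hu₀ hu₁ hv₀ hv₁ hP huu huv hvv
        hu₁n hA)
    by_cases hB : v₀ ∈ Submodule.span F {u₀}
    swap
    · exact Or.inr (exists_root_of_indep hF hY hX hsup' hinf' hHK (by omega) hold' hu₁ hu₀ hv₁ hv₀
        (by rw [add_comm u₁, add_comm v₁]; exact hP) (by rw [add_comm u₁]; exact huu)
        (by rw [add_comm u₁, add_comm v₁]; exact huv) (by rw [add_comm v₁]; exact hvv) hu₀n hB)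
    obtain ⟨μ, rfl⟩ := Submodule.mem_span_singleton.mp hA
    obtain ⟨ν, rfl⟩ := Submodule.mem_span_singleton.mp hB
    have hne : μ ≠ ν := fun e => hind μ (by rw [e, smul_add])
    have h01 : h u₀ u₁ = 0 := by
      simp only [herm_add_left hF, herm_add_right hF, herm_smul_right hF, hX u₀ hu₀ u₀ hu₀,
        hY u₁ hu₁ u₁ hu₁] at huu huv
      exact (mul_eq_zero.mp (show (μ ^ q - ν ^ q) * h u₀ u₁ = 0 by linear_combination huv - ν ^ q * huu)).resolve_left
        (sub_ne_zero.mpr fun e => hne (q_inj hF e))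
    rcases eq_or_ne μ 0 with rfl | hμ
    · refine Or.inr (exists_root_of_parallel hF hY hX hsup' hinf' hHK (by omega) hold' hu₁ hu₀ hu₀n
        (h_symm hF h01) hne.symm (ν := 0) ?_)
      rw [add_comm u₁, add_comm ((0 : F) • u₁)]; exact hP
    · exact Or.inl (exists_root_of_parallel hF hX hY hsup hinf hHK (by omega) hold hu₀ hu₁ hu₁n h01 hμ hP)
  obtain ⟨s, hs, hsX, hsY⟩ := exists_swap hF hX hY hsup hinf
  have hsH : s ∈ H := hMH ⟨⟨Equiv.swap 0 1, fun i => hmap s i _ fun x hx => by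
    fin_cases i
    · simpa using hsX x hx
    · simpa using hsY x hx⟩, hs⟩
  obtain ⟨hXr, hYr⟩ : (∀ x ∈ X, x ∈ root q H) ∧ ∀ y ∈ Y, y ∈ root q H := by
    have hsne : ∀ b : Vs, b ≠ 0 → (s : Matrix (Fin n) (Fin n) F) *ᵥ b ≠ 0 := fun b hb h' => hb (by
      rw [← inv_mulVec_mulVec s b, h', mulVec_zero])
    rcases hroot with ⟨b, hb, hb0, hbr⟩ | ⟨b, hb, hb0, hbr⟩
    · have hy := fun y (hy : y ∈ Y) => root_all hF hX hY hsup hinf hHK hold hb hb0 hbr hy
      exact ⟨fun x hx => root_all hF hY hX hsup' hinf' hHK hold' (hsY b hb) (hsne b hb0)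
        (root_map hHK hsH hbr) hx, hy⟩
    · have hx := fun x (hx : x ∈ X) => root_all hF hY hX hsup' hinf' hHK hold' hb hb0 hbr hx
      exact ⟨hx, fun y hy => root_all hF hX hY hsup hinf hHK hold (hsX b hb) (hsne b hb0)
        (root_map hHK hsH hbr) hy⟩
  refine eq_suGL hF (by omega) (by omega) hHK fun v hv => ?_
  obtain ⟨a, ha, b, hb, rfl⟩ := Submodule.mem_sup.mp (hsup.ge (Submodule.mem_top (x := v)))
  by_cases hab : h a b = 0
  · rcases eq_or_ne a 0 with rfl | ha0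
    · rw [zero_add]; exact hYr b hb
    obtain ⟨p, hp, -, hap⟩ := sep_dual hF hY hX hsup' hinf' (S := (⊥ : Submodule F Vs)) bot_le ha
      (fun h' => ha0 ((Submodule.mem_bot F).mp h'))
    set b' := δ ^ q • p with hb'
    have hb'Y : b' ∈ Y := Y.smul_mem _ hp
    have hab' : h a b' = δ := by rw [hb', herm_smul_right hF, pow_q_pow_q hF, hap, mul_one]
    have hb'a : h b' a = δ ^ q := by rw [← herm_conj hF a b', hab']
    have h1 := root_add hF hHK (hXr a ha) (hYr b' hb'Y) (by rw [hab']; exact hδ0) (by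
      rw [herm_add_left hF, herm_add_right hF, herm_add_right hF, hX a ha a ha, hY b' hb'Y b' hb'Y, hab', hb'a]
      linear_combination hδ)
    have h3 := root_add hF hHK h1 (hYr (b - b') (Y.sub_mem hb hb'Y)) (by
      rw [herm_add_left hF, h_sub_right hF, hab, hab', hY b' hb'Y _ (Y.sub_mem hb hb'Y), zero_sub, add_zero]
      exact neg_ne_zero.mpr hδ0) (by rw [show a + b' + (b - b') = a + b by abel]; exact hv)
    rwa [show a + b' + (b - b') = a + b by abel] at h3
  · exact root_add hF hHK (hXr a ha) (hYr b hb) hab hv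

end Cfsg.Agent.Lib.UnitaryMax
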