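import Cfsg.Agent.Lib.UnitaryMax.Basic

/-!
Sums of norm-one elements in a field with `q ^ 2` elements.
-/

set_option autoImplicit false
set_option linter.unusedSectionVars false

namespace Cfsg.Agent.Lib.UnitaryMax

open Matrix Cfsg.Agent.Lib.Forms

variable {F : Type*} [Field F] [Fintype F] [DecidableEq F] {q : ℕ}

/-- The elements of norm one. -/
def normOne (q : ℕ) (F : Type*) [Field F] [Fintype F] [DecidableEq F] : Finset F :=
  Finset.univ.filter fun x => x * x ^ q = 1

/-- The fixed elements. -/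
def fixedField (q : ℕ) (F : Type*) [Field F] [Fintype F] [DecidableEq F] : Finset F :=
  Finset.univ.filter fun x => x ^ q = x

/-- The traces of the elements of norm one. -/
def traceSet (q : ℕ) (F : Type*) [Field F] [Fintype F] [DecidableEq F] : Finset F :=
  (normOne q F).image fun x => x + x ^ q

@[simp] theorem mem_normOne {x : F} : x ∈ normOne q F ↔ x * x ^ q = 1 := by simp [normOne]

@[simp] theorem mem_fixedField {x : F} : x ∈ fixedField q F ↔ x ^ q = x := by simp [fixedField]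

variable (hF : Fintype.card F = q ^ 2)
include hF

theorem normOne_mul {x y : F} (hx : x ∈ normOne q F) (hy : y ∈ normOne q F) : x * y ∈ normOne q F := by
  rw [mem_normOne] at *
  rw [mul_pow]
  linear_combination (y * y ^ q) * hx + hy

theorem normOne_conj {x : F} (hx : x ∈ normOne q F) : x ^ q ∈ normOne q F := by
  rw [mem_normOne] at *
  rw [pow_q_pow_q hF, mul_comm, hx]

theorem normOne_ne_zero {x : F} (hx : x ∈ normOne q F) : x ≠ 0 :=
  left_ne_zero_of_mul_eq_one (mem_normOne.mp hx)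

theorem one_mem_normOne : (1 : F) ∈ normOne q F := by simp

theorem card_normOne : (normOne q F).card = q + 1 := by
  classical
  have hq := two_le_of_card_sq hF
  have h1 : Nat.card (powMonoidHom (q + 1) : Fˣ →* Fˣ).ker = q + 1 := by
    rw [IsCyclic.card_powMonoidHom_ker, Nat.card_eq_fintype_card, Fintype.card_units, hF]
    refine Nat.gcd_eq_right ⟨q - 1, ?_⟩
    zify [Nat.one_le_pow 2 q (by omega), (by omega : 1 ≤ q)]
    ring
  rw [← h1, ← Fintype.card_coe, ← Nat.card_eq_fintype_card]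
  refine Nat.card_congr
    { toFun := fun x => ⟨Units.mk0 x.1 (normOne_ne_zero hF x.2), Units.ext (by
        rw [powMonoidHom_apply, Units.val_pow_eq_pow_val, Units.val_mk0, Units.val_one, pow_succ']
        exact mem_normOne.mp x.2)⟩
      invFun := fun u => ⟨(u.1 : F), mem_normOne.mpr (by
        have := congrArg (fun z : Fˣ => (z : F)) u.2
        rwa [powMonoidHom_apply, Units.val_pow_eq_pow_val, Units.val_one, pow_succ'] at this)⟩
      left_inv := fun x => Subtype.ext rfl
      right_inv := fun u => Subtype.ext (Units.ext rfl) }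

/-- A norm-one element outside `{1, -1}`. -/
theorem exists_omega : ∃ ω : F, ω ∈ normOne q F ∧ ω ≠ 1 ∧ ω ≠ -1 ∧ ω ^ q ≠ ω := by
  have hq := two_le_of_card_sq hF
  obtain ⟨ω, hω, h1⟩ : ∃ ω ∈ normOne q F, ω ∉ ({1, -1} : Finset F) := by
    by_contra hno
    push Not at hno
    have h1 := Finset.card_le_card hno
    have h2 := Finset.card_le_two (a := (1 : F)) (b := -1)
    rw [card_normOne hF] at h1
    omega
  simp only [Finset.mem_insert, Finset.mem_singleton, not_or] at h1
  refine ⟨ω, hω, h1.1, h1.2, fun e => ?_⟩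
  rw [mem_normOne, e] at hω
  rcases mul_self_eq_one_iff.mp hω with h' | h'
  · exact h1.1 h'
  · exact h1.2 h'

theorem card_fixedField : (fixedField q F).card = q := by
  obtain ⟨ω, -, -, -, hω⟩ := exists_omega hF
  have hne : ω - ω ^ q ≠ 0 := sub_ne_zero.mpr hω.symm
  have h1 : (fixedField q F ×ˢ fixedField q F).card = (Finset.univ : Finset F).card := by
    refine Finset.card_bij (fun p _ => p.1 + p.2 * ω) (fun _ _ => Finset.mem_univ _) ?_ ?_
    · intro p hp p' hp' e
      rw [Finset.mem_product, mem_fixedField, mem_fixedField] at hp hp'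
      have e' := congrArg (· ^ q) e
      simp only [q_add hF, mul_pow, hp.1, hp.2, hp'.1, hp'.2] at e'
      have h2 : p.2 = p'.2 := mul_right_cancel₀ hne (by linear_combination e - e')
      exact Prod.ext (by rw [h2] at e; exact add_right_cancel e) h2
    · intro x _
      refine ⟨((x ^ q * ω - x * ω ^ q) / (ω - ω ^ q), (x - x ^ q) / (ω - ω ^ q)), ?_, ?_⟩
      · rw [Finset.mem_product, mem_fixedField, mem_fixedField]
        constructor
        · rw [div_pow, q_sub hF, q_sub hF, mul_pow, mul_pow, pow_q_pow_q hF, pow_q_pow_q hF,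
            div_eq_div_iff (sub_ne_zero.mpr hω) hne]
          ring
        · rw [div_pow, q_sub hF, q_sub hF, pow_q_pow_q hF, pow_q_pow_q hF,
            div_eq_div_iff (sub_ne_zero.mpr hω) hne]
          ring
      · field_simp
        ring
  rw [Finset.card_product, Finset.card_univ, hF] at h1
  exact Nat.mul_self_inj.mp (by rw [h1, sq])

theorem traceSet_subset : traceSet q F ⊆ fixedField q F := by
  intro s hs
  obtain ⟨x, -, rfl⟩ := Finset.mem_image.mp hs
  rw [mem_fixedField, q_add hF, pow_q_pow_q hF, add_comm]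

theorem card_traceSet : q + 2 ≤ 2 * (traceSet q F).card := by
  have h2 : (2 : F) ∈ traceSet q F := Finset.mem_image.mpr ⟨1, one_mem_normOne hF, by rw [one_pow]; norm_num⟩
  have hfib : ∀ s ∈ (traceSet q F).erase 2,
      (((normOne q F).erase 1).filter fun x => x + x ^ q = s).card ≤ 2 := by
    intro s _
    by_cases he : (((normOne q F).erase 1).filter fun x => x + x ^ q = s).Nonempty
    · obtain ⟨x, hx⟩ := he
      refine le_trans (Finset.card_le_card (t := {x, x ^ q}) fun y hy => ?_) (Finset.card_le_two)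
      simp only [Finset.mem_filter, Finset.mem_erase, mem_normOne] at hx hy
      have hprod : (y - x) * (y - x ^ q) = 0 := by linear_combination hx.1.2 - hy.1.2 + y * (hy.2.trans hx.2.symm)
      simp only [Finset.mem_insert, Finset.mem_singleton]
      rcases mul_eq_zero.mp hprod with h' | h'
      · exact Or.inl (sub_eq_zero.mp h')
      · exact Or.inr (sub_eq_zero.mp h')
    · rw [Finset.not_nonempty_iff_eq_empty.mp he]; simp
  have hmaps : ∀ x ∈ (normOne q F).erase 1, x + x ^ q ∈ (traceSet q F).erase 2 := by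
    intro x hx
    rw [Finset.mem_erase] at hx
    refine Finset.mem_erase.mpr ⟨fun e => hx.1 ?_, Finset.mem_image.mpr ⟨x, hx.2, rfl⟩⟩
    have h' := mem_normOne.mp hx.2
    exact sub_eq_zero.mp (mul_self_eq_zero.mp (show (x - 1) * (x - 1) = 0 by linear_combination x * e - h'))
  have h3 := Finset.card_le_mul_card_image_of_maps_to hmaps 2 hfib
  rw [Finset.card_erase_of_mem (one_mem_normOne hF), card_normOne hF, Finset.card_erase_of_mem h2] at h3
  have := Finset.card_pos.mpr ⟨_, h2⟩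
  omega

omit hF in
theorem exists_sum_mem {G : Type*} [AddCommGroup G] [DecidableEq G] {A B U : Finset G} {t : G}
    (hA : A ⊆ U) (hB : ∀ b ∈ B, t - b ∈ U) (h : U.card < A.card + B.card) :
    ∃ a ∈ A, ∃ b ∈ B, a + b = t := by
  by_contra hno
  push Not at hno
  have hd : Disjoint A (B.image fun b => t - b) := by
    rw [Finset.disjoint_left]
    intro x hx hx'
    obtain ⟨b, hb, rfl⟩ := Finset.mem_image.mp hx'
    exact hno _ hx b hb (sub_add_cancel t b)
  have h1 := Finset.card_le_card (show A ∪ (B.image fun b => t - b) ⊆ U from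
    Finset.union_subset hA fun x hx => by
      obtain ⟨b, hb, rfl⟩ := Finset.mem_image.mp hx
      exact hB b hb)
  rw [Finset.card_union_of_disjoint hd, Finset.card_image_of_injective _ sub_right_injective] at h1
  omega

/-- Two traces of norm-one elements reach every fixed element. -/
theorem exists_two_traces {t : F} (ht : t ^ q = t) :
    ∃ x ∈ normOne q F, ∃ y ∈ normOne q F, (x + x ^ q) + (y + y ^ q) = t := by
  have hS := card_traceSet hF
  obtain ⟨a, ha, b, hb, hab⟩ := exists_sum_mem (A := traceSet q F) (B := traceSet q F) (t := t)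
    (traceSet_subset hF) (fun b hb => by
      rw [mem_fixedField, q_sub hF, ht, mem_fixedField.mp (traceSet_subset hF hb)])
    (by rw [card_fixedField hF]; omega)
  obtain ⟨x, hx, rfl⟩ := Finset.mem_image.mp ha
  obtain ⟨y, hy, rfl⟩ := Finset.mem_image.mp hb
  exact ⟨x, hx, y, hy, hab⟩

/-- A nontrivial relation between two pairs of equal weights. -/
theorem exists_pairs_nontrivial {r r' : F} (hr : r ^ q = r) (hr' : r' ^ q = r') (hr0 : r ≠ 0) (hr'0 : r' ≠ 0) :
    ∃ x ∈ normOne q F, ∃ y ∈ normOne q F, x ≠ 1 ∧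
      r * ((x + x ^ q) - 2) + r' * ((y + y ^ q) - 2) = 0 := by
  have hS := card_traceSet hF
  have h2 : (2 : F) ∈ traceSet q F := Finset.mem_image.mpr ⟨1, one_mem_normOne hF, by rw [one_pow]; norm_num⟩
  have h2q : (2 : F) ^ q = 2 := mem_fixedField.mp (traceSet_subset hF h2)
  have hU : ∀ {c s : F}, c ^ q = c → s ∈ traceSet q F → (c * (s - 2)) ^ q = c * (s - 2) := fun hc hs => by
    rw [mul_pow, q_sub hF, hc, h2q, mem_fixedField.mp (traceSet_subset hF hs)]
  set A := ((traceSet q F).erase 2).image fun s => r * (s - 2) with hA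
  set B := (traceSet q F).image fun s => r' * (s - 2) with hB
  have hAc : A.card = (traceSet q F).card - 1 := by
    rw [hA, Finset.card_image_of_injective, Finset.card_erase_of_mem h2]
    exact fun s s' e => sub_left_inj.mp (mul_left_cancel₀ hr0 e)
  have hBc : B.card = (traceSet q F).card := by
    rw [hB, Finset.card_image_of_injective]
    exact fun s s' e => sub_left_inj.mp (mul_left_cancel₀ hr'0 e)
  obtain ⟨a, ha, b, hb, hab⟩ := exists_sum_mem (A := A) (B := B) (t := 0) (U := fixedField q F)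
    (fun a ha => by
      obtain ⟨s, hs, rfl⟩ := Finset.mem_image.mp ha
      exact mem_fixedField.mpr (hU hr (Finset.mem_of_mem_erase hs)))
    (fun b hb => by
      obtain ⟨s, hs, rfl⟩ := Finset.mem_image.mp hb
      rw [mem_fixedField, zero_sub, q_neg hF, hU hr' hs])
    (by rw [card_fixedField hF, hAc, hBc]; omega)
  obtain ⟨s, hs, rfl⟩ := Finset.mem_image.mp ha
  obtain ⟨s', hs', rfl⟩ := Finset.mem_image.mp hb
  obtain ⟨hs2, hs⟩ := Finset.mem_erase.mp hs
  obtain ⟨x, hx, rfl⟩ := Finset.mem_image.mp hs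
  obtain ⟨y, hy, rfl⟩ := Finset.mem_image.mp hs'
  exact ⟨x, hx, y, hy, fun e => hs2 (by rw [e, one_pow]; norm_num), hab⟩

omit hF in
theorem card_quadratic_le {a b c : F} (ha : a ≠ 0) :
    (Finset.univ.filter fun x => a * x * x + b * x + c = 0).card ≤ 2 := by
  by_cases he : (Finset.univ.filter fun x => a * x * x + b * x + c = 0).Nonempty
  · obtain ⟨x, hx⟩ := he
    refine le_trans (Finset.card_le_card (t := {x, -b / a - x}) fun y hy => ?_) (Finset.card_le_two)
    simp only [Finset.mem_filter, Finset.mem_univ, true_and] at hx hy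
    have hprod : (y - x) * (a * (y + x) + b) = 0 := by linear_combination hy - hx
    simp only [Finset.mem_insert, Finset.mem_singleton]
    rcases mul_eq_zero.mp hprod with h' | h'
    · exact Or.inl (sub_eq_zero.mp h')
    · exact Or.inr (by field_simp; linear_combination h')
  · rw [Finset.not_nonempty_iff_eq_empty.mp he]; simp

/-- A circle meets a translate of a circle in at most two points. -/
theorem card_circle_le {a b c : F} (ha : a ≠ 0) (hb : b ≠ 0) (hc : c ≠ 0) :
    (((normOne q F) ×ˢ (normOne q F)).filter fun p => a * p.1 + b * p.2 = c).card ≤ 2 := by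
  have hsub : (((normOne q F) ×ˢ (normOne q F)).filter fun p => a * p.1 + b * p.2 = c).image Prod.fst ⊆
      Finset.univ.filter fun x => (-(a * c ^ q)) * x * x + (c * c ^ q + a * a ^ q - b * b ^ q) * x + (-(c * a ^ q)) = 0 := by
    intro x hx
    obtain ⟨p, hp, rfl⟩ := Finset.mem_image.mp hx
    simp only [Finset.mem_filter, Finset.mem_product, mem_normOne] at hp
    obtain ⟨⟨h1, h2⟩, h3⟩ := hp
    have h4 : c ^ q = a ^ q * p.1 ^ q + b ^ q * p.2 ^ q := by rw [← h3, q_add hF, mul_pow, mul_pow]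
    simp only [Finset.mem_filter, Finset.mem_univ, true_and]
    rw [h4, ← h3]
    linear_combination (a ^ q * b * p.2) * h1 + (b * b ^ q * p.1) * h2
  refine le_trans ?_ (le_trans (Finset.card_le_card hsub) (card_quadratic_le (neg_ne_zero.mpr
    (mul_ne_zero ha (pow_ne_zero _ hc)))))
  rw [Finset.card_image_of_injOn]
  intro p hp p' hp' e
  simp only [Finset.coe_filter, Finset.mem_product, Set.mem_ofPred_eq] at hp hp'
  refine Prod.ext e (mul_left_cancel₀ hb ?_)
  linear_combination hp.2 - hp'.2 - a * e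

/-- Sums of four circles cover the field. -/
theorem exists_four {c₁ c₂ c₃ c₄ : F} (h₁ : c₁ ≠ 0) (h₂ : c₂ ≠ 0) (h₃ : c₃ ≠ 0) (h₄ : c₄ ≠ 0) (t : F) :
    ∃ a ∈ normOne q F, ∃ b ∈ normOne q F, ∃ c ∈ normOne q F, ∃ d ∈ normOne q F,
      c₁ * a + c₂ * b + (c₃ * c + c₄ * d) = t := by
  have key : ∀ {a b : F}, a ≠ 0 → b ≠ 0 →
      q ^ 2 < 2 * (((normOne q F) ×ˢ (normOne q F)).image fun p => a * p.1 + b * p.2).card := by
    intro a b ha hb
    set P := (normOne q F) ×ˢ (normOne q F) with hP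
    set X := P.image fun p => a * p.1 + b * p.2 with hX
    have h0 : (P.filter fun p => a * p.1 + b * p.2 = 0).card ≤ q + 1 := by
      rw [← card_normOne hF]
      refine Finset.card_le_card_of_injOn Prod.fst (fun p hp => ?_) ?_
      · simp only [Finset.coe_filter, Finset.mem_product, hP, Set.mem_ofPred_eq] at hp
        exact hp.1.1
      · intro p hp p' hp' e
        simp only [Finset.coe_filter, hP, Finset.mem_product, Set.mem_ofPred_eq] at hp hp'
        refine Prod.ext e (mul_left_cancel₀ hb ?_)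
        linear_combination hp.2 - hp'.2 - a * e
    have h1 : (P.filter fun p => ¬ (a * p.1 + b * p.2 = 0)).card ≤ 2 * X.card := by
      refine Finset.card_le_mul_card_image_of_maps_to (f := fun p => a * p.1 + b * p.2) (t := X)
        (fun p hp => Finset.mem_image.mpr ⟨p, (Finset.mem_filter.mp hp).1, rfl⟩) 2 fun y hy => ?_
      by_cases hy0 : y = 0
      · refine le_of_eq_of_le (Finset.card_eq_zero.mpr ?_) (Nat.zero_le 2)
        refine Finset.eq_empty_of_forall_notMem fun p hp => ?_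
        simp only [Finset.mem_filter] at hp
        exact hp.1.2 (hp.2.trans hy0)
      · exact le_trans (Finset.card_le_card fun p hp => by
          simp only [Finset.mem_filter] at hp ⊢
          exact ⟨hp.1.1, hp.2⟩) (card_circle_le hF ha hb hy0)
    have h2 := Finset.card_filter_add_card_filter_not (s := P) (fun p => a * p.1 + b * p.2 = 0)
    have h3 : P.card = (q + 1) * (q + 1) := by rw [hP, Finset.card_product, card_normOne hF]
    have := two_le_of_card_sq hF
    nlinarith
  have k1 := key h₁ h₂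
  have k2 := key h₃ h₄
  obtain ⟨x, hx, y, hy, hxy⟩ := exists_sum_mem (t := t) (Finset.subset_univ
      (((normOne q F) ×ˢ (normOne q F)).image fun p => c₁ * p.1 + c₂ * p.2))
    (fun b _ => Finset.mem_univ _)
    (B := ((normOne q F) ×ˢ (normOne q F)).image fun p => c₃ * p.1 + c₄ * p.2)
    (by rw [Finset.card_univ, hF]; omega)
  obtain ⟨p, hp, rfl⟩ := Finset.mem_image.mp hx
  obtain ⟨p', hp', rfl⟩ := Finset.mem_image.mp hy
  rw [Finset.mem_product] at hp hp'
  exact ⟨_, hp.1, _, hp.2, _, hp'.1, _, hp'.2, hxy⟩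

omit hF in
/-- Collisions bound the image from below. -/
theorem sq_card_le_image_mul {α β : Type*} [DecidableEq β] (s : Finset α) (f : α → β) :
    s.card * s.card ≤ (s.image f).card * ((s ×ˢ s).filter fun p => f p.1 = f p.2).card := by
  classical
  have h1 : ((s ×ˢ s).filter fun p => f p.1 = f p.2).card =
      ∑ y ∈ s.image f, (s.filter fun x => f x = y).card ^ 2 := by
    rw [Finset.card_eq_sum_card_fiberwise (f := fun p : α × α => f p.1) (t := s.image f) (fun p hp => by
      simp only [Finset.coe_filter, Finset.mem_product, Set.mem_ofPred_eq] at hp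
      exact Finset.mem_image.mpr ⟨p.1, hp.1.1, rfl⟩)]
    refine Finset.sum_congr rfl fun y _ => ?_
    rw [sq, ← Finset.card_product]
    congr 1
    ext p
    simp only [Finset.mem_filter, Finset.mem_product]
    constructor
    · rintro ⟨⟨⟨a, b⟩, c⟩, d⟩; exact ⟨⟨a, d⟩, b, c.symm.trans d⟩
    · rintro ⟨⟨a, d⟩, b, c⟩; exact ⟨⟨⟨a, b⟩, d.trans c.symm⟩, d⟩
  rw [h1, ← sq, Finset.card_eq_sum_card_image f s]
  exact sq_sum_le_card_mul_sum_sq

/-- The image of the circle under `x ↦ a x + b conj x`. -/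
def ellipse (q : ℕ) (a b x : F) : F := a * x + b * x ^ q

theorem ellipse_sub (a b x y : F) : ellipse q a b x - ellipse q a b y = ellipse q a b (x - y) := by
  simp only [ellipse, q_sub hF]; ring

theorem ellipse_injective {a b : F} (hab : a * a ^ q ≠ b * b ^ q) :
    Function.Injective (ellipse q a b) := by
  intro x y e
  have e1 : ellipse q a b (x - y) = 0 := by rw [← ellipse_sub hF, e, sub_self]
  have e2 := congrArg (· ^ q) e1
  simp only [ellipse, q_add hF, mul_pow, pow_q_pow_q hF, q_zero hF] at e1 e2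
  have : (a * a ^ q - b * b ^ q) * (x - y) = 0 := by linear_combination a ^ q * e1 - b * e2
  exact sub_eq_zero.mp ((mul_eq_zero.mp this).resolve_left (sub_ne_zero.mpr hab))

theorem ellipse_diff_le {a b : F} (hab : a * a ^ q ≠ b * b ^ q) (K : F) :
    (((normOne q F) ×ˢ (normOne q F)).filter fun p => ellipse q a b p.1 - ellipse q a b p.2 = K).card ≤
      2 + (if K = 0 then q + 1 else 0) := by
  split_ifs with hK
  · refine le_trans ?_ (Nat.le_add_left _ 2)
    rw [← card_normOne hF]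
    refine Finset.card_le_card_of_injOn Prod.fst (fun p hp => ?_) ?_
    · simp only [Finset.coe_filter, Finset.mem_product, Set.mem_ofPred_eq] at hp
      exact hp.1.1
    · intro p hp p' hp' e
      simp only [Finset.coe_filter, Finset.mem_product, Set.mem_ofPred_eq, hK, sub_eq_zero] at hp hp'
      exact Prod.ext e ((ellipse_injective hF hab hp.2).symm.trans (e.trans (ellipse_injective hF hab hp'.2)))
  · obtain ⟨K', hK'⟩ := (Finite.injective_iff_surjective.mp (ellipse_injective hF hab)) K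
    have hK'0 : K' ≠ 0 := fun e => hK (by
      rw [← hK', e, ellipse, mul_zero, q_zero hF, mul_zero, add_zero])
    refine le_trans (Finset.card_le_card (t := ((normOne q F) ×ˢ (normOne q F)).filter
      fun p => (1 : F) * p.1 + (-1) * p.2 = K') fun p hp => ?_)
      (card_circle_le hF one_ne_zero (neg_ne_zero.mpr one_ne_zero) hK'0)
    simp only [Finset.mem_filter] at hp ⊢
    refine ⟨hp.1, ellipse_injective hF hab ?_⟩
    rw [hK', show (1 : F) * p.1 + (-1) * p.2 = p.1 - p.2 by ring, ← ellipse_sub hF]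
    exact hp.2

/-- The recursion for collisions. -/
theorem collision_step {α : Type*} (s : Finset α) (f : α → F) {a b : F} (hab : a * a ^ q ≠ b * b ^ q) :
    (((s ×ˢ normOne q F) ×ˢ (s ×ˢ normOne q F)).filter fun p =>
        f p.1.1 + ellipse q a b p.1.2 = f p.2.1 + ellipse q a b p.2.2).card ≤
      2 * (s.card * s.card) + (q + 1) * ((s ×ˢ s).filter fun p => f p.1 = f p.2).card := by
  classical
  set T := ((s ×ˢ normOne q F) ×ˢ (s ×ˢ normOne q F)).filter fun p =>
        f p.1.1 + ellipse q a b p.1.2 = f p.2.1 + ellipse q a b p.2.2 with hT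
  rw [Finset.card_eq_sum_card_fiberwise (f := fun p : (α × F) × (α × F) => (p.1.1, p.2.1))
    (t := s ×ˢ s) (fun p hp => by
      simp only [hT, Finset.coe_filter, Finset.mem_product, Set.mem_ofPred_eq] at hp
      exact Finset.mem_product.mpr ⟨hp.1.1.1, hp.1.2.1⟩)]
  refine le_trans (Finset.sum_le_sum (g := fun z => 2 + (if f z.1 = f z.2 then q + 1 else 0))
    fun z _ => ?_) ?_
  · refine le_trans ?_ (le_of_le_of_eq (ellipse_diff_le hF hab (f z.2 - f z.1))
      (by simp only [sub_eq_zero, eq_comm]))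
    refine Finset.card_le_card_of_injOn (fun p => (p.1.2, p.2.2)) (fun p hp => ?_) ?_
    · simp only [hT, Finset.coe_filter, Finset.mem_filter, Finset.mem_product, Set.mem_ofPred_eq] at hp ⊢
      obtain ⟨⟨⟨⟨-, h1⟩, -, h2⟩, h3⟩, rfl⟩ := hp
      exact ⟨⟨h1, h2⟩, by linear_combination h3⟩
    · intro p hp p' hp' e
      simp only [Finset.coe_filter, Set.mem_ofPred_eq, Prod.ext_iff] at hp hp' e
      obtain ⟨-, hz1, hz2⟩ := hp
      obtain ⟨-, hz1', hz2'⟩ := hp'
      exact Prod.ext (Prod.ext (hz1.trans hz1'.symm) e.1) (Prod.ext (hz2.trans hz2'.symm) e.2)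
  · rw [Finset.sum_add_distrib, Finset.sum_const, smul_eq_mul, Finset.card_product, ← Finset.sum_filter,
      Finset.sum_const, smul_eq_mul]
    linarith

/-- Three ellipses fill more than half of the field. -/
theorem half_lt_three {a b a' b' a'' b'' : F} (h : a * a ^ q ≠ b * b ^ q) (h' : a' * a' ^ q ≠ b' * b' ^ q)
    (h'' : a'' * a'' ^ q ≠ b'' * b'' ^ q) :
    q ^ 2 < 2 * ((((normOne q F) ×ˢ (normOne q F)) ×ˢ (normOne q F)).image fun p =>
      ellipse q a b p.1.1 + ellipse q a' b' p.1.2 + ellipse q a'' b'' p.2).card := by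
  classical
  set M := normOne q F with hM
  have hm : M.card = q + 1 := card_normOne hF
  have c1 : ((M ×ˢ M).filter fun p => ellipse q a b p.1 = ellipse q a b p.2).card ≤ q + 1 := by
    rw [← hm]
    refine Finset.card_le_card_of_injOn Prod.fst (fun p hp => ?_) ?_
    · simp only [Finset.coe_filter, Finset.mem_product, Set.mem_ofPred_eq] at hp
      exact hp.1.1
    · intro p hp p' hp' e
      simp only [Finset.coe_filter, Finset.mem_product, Set.mem_ofPred_eq] at hp hp'
      exact Prod.ext e ((ellipse_injective hF h hp.2).symm.trans (e.trans (ellipse_injective hF h hp'.2)))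
  have c2 := collision_step hF M (fun x => ellipse q a b x) h'
  have c3 := collision_step hF (M ×ˢ M) (fun p => ellipse q a b p.1 + ellipse q a' b' p.2) h''
  have key := sq_card_le_image_mul ((M ×ˢ M) ×ˢ M)
    (fun p => ellipse q a b p.1.1 + ellipse q a' b' p.1.2 + ellipse q a'' b'' p.2)
  rw [← hM] at c2 c3
  simp only [Finset.card_product, hm] at c2 c3 key ⊢
  set C1 := ((M ×ˢ M).filter fun p => ellipse q a b p.1 = ellipse q a b p.2).card
  set C2 := (((M ×ˢ M) ×ˢ (M ×ˢ M)).filter fun p =>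
    ellipse q a b p.1.1 + ellipse q a' b' p.1.2 = ellipse q a b p.2.1 + ellipse q a' b' p.2.2).card
  set X := (((M ×ˢ M) ×ˢ M).image fun p =>
      ellipse q a b p.1.1 + ellipse q a' b' p.1.2 + ellipse q a'' b'' p.2).card
  have hC2 : C2 ≤ 3 * ((q + 1) * (q + 1)) := by nlinarith
  have h1 : (q + 1) ^ 6 ≤ X * ((2 * q + 5) * (q + 1) ^ 3) := by
    refine le_trans ?_ (Nat.mul_le_mul_left X (le_trans c3 ?_))
    · calc (q + 1) ^ 6 = (q + 1) * (q + 1) * (q + 1) * ((q + 1) * (q + 1) * (q + 1)) := by ring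
        _ ≤ _ := key
    · calc 2 * ((q + 1) * (q + 1) * ((q + 1) * (q + 1))) + (q + 1) * C2
          ≤ 2 * ((q + 1) * (q + 1) * ((q + 1) * (q + 1))) + (q + 1) * (3 * ((q + 1) * (q + 1))) :=
            Nat.add_le_add_left (Nat.mul_le_mul_left _ hC2) _
        _ = (2 * q + 5) * (q + 1) ^ 3 := by ring
  have h2 : (q + 1) ^ 3 ≤ X * (2 * q + 5) :=
    Nat.le_of_mul_le_mul_right (le_of_eq_of_le (by ring) (le_of_le_of_eq h1 (by ring))) (pow_pos (by omega : 0 < q + 1) 3)
  by_contra hlt
  push Not at hlt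
  nlinarith

/-- Thirteen terms with product one reach every value, in many ways. -/
theorem exists_thirteen (c : Fin 13 → F) (hc : ∀ l, c l ≠ 0) (t : F) :
    ∃ (o : Fin 13) (Φ : (Fin 3 → normOne q F) → Fin 13 → F), ∀ ρ : Fin 3 → normOne q F,
      (∀ l, Φ ρ l ∈ normOne q F) ∧ ∏ l, Φ ρ l = 1 ∧ ∑ l, c l * Φ ρ l = t ∧ Φ ρ o = 1 ∧
        ∀ ρ', Φ ρ' = Φ ρ → ρ' = ρ := by
  classical
  let e := Fintype.equivFin F
  let key : Fin 13 → Fin (Fintype.card F) := fun l => e (c l * c l ^ q)
  set π := Tuple.sort key with hπ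
  have hmono : Monotone (key ∘ π) := Tuple.monotone_sort key
  suffices H : ∃ (o : Fin 13) (Φ : (Fin 3 → normOne q F) → Fin 13 → F), ∀ ρ : Fin 3 → normOne q F,
      (∀ l, Φ ρ l ∈ normOne q F) ∧ ∏ l, Φ ρ l = 1 ∧ ∑ l, c (π l) * Φ ρ l = t ∧ Φ ρ o = 1 ∧
        ∀ ρ', Φ ρ' = Φ ρ → ρ' = ρ by
    obtain ⟨o, Φ, hΦ⟩ := H
    refine ⟨π o, fun ρ l => Φ ρ (π.symm l), fun ρ => ?_⟩
    obtain ⟨h1, h2, h3, h4, h5⟩ := hΦ ρ
    refine ⟨fun l => h1 _, ?_, ?_, ?_, fun ρ' hρ => h5 ρ' (funext fun l => ?_)⟩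
    · rw [← h2]; exact Equiv.prod_comp π.symm (Φ ρ)
    · rw [← h3, ← Equiv.sum_comp π]; simp
    · simpa using h4
    · simpa using congrFun hρ (π l)
  set d : Fin 13 → F := fun l => c (π l) with hd
  have hd0 : ∀ l, d l ≠ 0 := fun l => hc _
  by_cases hclass : ∃ i : Fin 13, ∃ j : Fin 13, j.val = i.val + 7 ∧
      d i * d i ^ q = d j * d j ^ q
  · -- eight equal norms
    obtain ⟨i, j, hij, he⟩ := hclass
    have hkey : ∀ l : Fin 13, i.val ≤ l.val → l.val ≤ j.val → d l * d l ^ q = d i * d i ^ q := by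
      intro l hl hl'
      have h1 : key (π i) ≤ key (π l) := hmono (Fin.le_def.mpr hl)
      have h2 : key (π l) ≤ key (π j) := hmono (Fin.le_def.mpr hl')
      have h3 : key (π i) = key (π j) := congrArg e he
      exact e.injective (le_antisymm (h2.trans_eq h3.symm) h1)
    have hi5 : i.val ≤ 5 := by omega
    let τ : Equiv.Perm (Fin 13) := Equiv.addRight i
    have hτ : ∀ l : Fin 13, l.val ≤ 7 → d (τ l) * d (τ l) ^ q = d i * d i ^ q := fun l hl => by
      have hv : (τ l).val = l.val + i.val := by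
        rw [show τ l = l + i from rfl, Fin.val_add]
        exact Nat.mod_eq_of_lt (by omega)
      exact hkey _ (by omega) (by omega)
    suffices H : ∃ (o : Fin 13) (Φ : (Fin 3 → normOne q F) → Fin 13 → F), ∀ ρ : Fin 3 → normOne q F,
        (∀ l, Φ ρ l ∈ normOne q F) ∧ ∏ l, Φ ρ l = 1 ∧ ∑ l, d (τ l) * Φ ρ l = t ∧ Φ ρ o = 1 ∧
          ∀ ρ', Φ ρ' = Φ ρ → ρ' = ρ by
      obtain ⟨o, Φ, hΦ⟩ := H
      refine ⟨τ o, fun ρ l => Φ ρ (τ.symm l), fun ρ => ?_⟩
      obtain ⟨h1, h2, h3, h4, h5⟩ := hΦ ρ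
      refine ⟨fun l => h1 _, ?_, ?_, ?_, fun ρ' hρ => h5 ρ' (funext fun l => ?_)⟩
      · rw [← h2]; exact Equiv.prod_comp τ.symm (Φ ρ)
      · rw [← h3, ← Equiv.sum_comp τ]
        simp only [Equiv.symm_apply_apply]; rfl
      · simpa using h4
      · simpa using congrFun hρ (τ l)
    obtain ⟨ω, hω, hω1, hω2, hωq⟩ := exists_omega hF
    set g : Fin 13 → F := fun l => d (τ l) with hg
    have hg0 : ∀ l, g l ≠ 0 := fun l => hd0 _
    set A : F := g 0 with hA
    set B : F := g 0 * ω with hB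
    have hω' : ω * ω ^ q = 1 := mem_normOne.mp hω
    have hAN : A * A ^ q = d i * d i ^ q := hτ 0 (by norm_num)
    have hBN : B * B ^ q = d i * d i ^ q := by
      rw [hB, mul_pow, ← hA]; linear_combination hAN + (A * A ^ q) * hω'
    have hA0 : A ≠ 0 := hg0 0
    clear_value A B
    -- a pair of equal norm reaches `Z * (x + conj x)` with fixed product
    have hpair : ∀ a b : Fin 13, a.val ≤ 7 → b.val ≤ 7 → ∀ Z : F, Z * Z ^ q = d i * d i ^ q →
        ∃ η θ : F, η ∈ normOne q F ∧ θ ∈ normOne q F ∧ g a * η = Z ∧ g b * θ = Z := by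
      intro a b ha hb Z hZ
      have hh : ∀ l : Fin 13, l.val ≤ 7 → Z / g l ∈ normOne q F ∧ g l * (Z / g l) = Z := fun l hl => by
        refine ⟨mem_normOne.mpr ?_, mul_div_cancel₀ Z (hg0 l)⟩
        rw [div_pow, div_mul_div_comm, hZ, hg, hτ l hl, div_self]
        exact mul_ne_zero (hd0 _) (pow_ne_zero _ (hd0 _))
      exact ⟨_, _, (hh a ha).1, (hh b hb).1, (hh a ha).2, (hh b hb).2⟩
    obtain ⟨η₀, θ₀, hη₀, hθ₀, eη₀, eθ₀⟩ := hpair 0 1 (by norm_num) (by norm_num) A hAN
    obtain ⟨η₁, θ₁, hη₁, hθ₁, eη₁, eθ₁⟩ := hpair 2 3 (by norm_num) (by norm_num) A hAN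
    obtain ⟨η₂, θ₂, hη₂, hθ₂, eη₂, eθ₂⟩ := hpair 4 5 (by norm_num) (by norm_num) B hBN
    obtain ⟨η₃, θ₃, hη₃, hθ₃, eη₃, eθ₃⟩ := hpair 6 7 (by norm_num) (by norm_num) B hBN
    set P := η₀ * θ₀ * (η₁ * θ₁) * (η₂ * θ₂) * (η₃ * θ₃) with hP
    have hPm : P ∈ normOne q F := normOne_mul hF (normOne_mul hF (normOne_mul hF
      (normOne_mul hF hη₀ hθ₀) (normOne_mul hF hη₁ hθ₁)) (normOne_mul hF hη₂ hθ₂)) (normOne_mul hF hη₃ hθ₃)
    have hsol : ∀ ρ : Fin 3 → normOne q F, ∃ v : Fin 13 → F, (∀ l, v l ∈ normOne q F) ∧ ∏ l, v l = 1 ∧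
        ∑ l, g l * v l = t ∧ v 12 = 1 ∧ v 8 = ρ 0 ∧ v 9 = ρ 1 ∧ v 10 = ρ 2 := by
      intro ρ
      set Q := P * ((ρ 0 : F) * ρ 1 * ρ 2) with hQ
      have hQm : Q ∈ normOne q F := normOne_mul hF hPm (normOne_mul hF (normOne_mul hF (ρ 0).2 (ρ 1).2) (ρ 2).2)
      set T := t - (g 8 * ρ 0 + g 9 * ρ 1 + g 10 * ρ 2 + g 11 * Q ^ q + g 12) with hT
      have hdet : A ^ q * B - A * B ^ q ≠ 0 := by
        rw [hB, mul_pow, ← hA]
        intro e'
        exact hωq (sub_eq_zero.mp ((mul_eq_zero.mp (show (A * A ^ q) * (ω ^ q - ω) = 0 by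
          linear_combination -e')).resolve_left (mul_ne_zero hA0 (pow_ne_zero _ hA0))))
      set s₀ := (B * T ^ q - B ^ q * T) / (A ^ q * B - A * B ^ q) with hs₀
      set s₁ := (A ^ q * T - A * T ^ q) / (A ^ q * B - A * B ^ q) with hs₁
      have hden : (A ^ q * B - A * B ^ q) ^ q = -(A ^ q * B - A * B ^ q) := by
        rw [q_sub hF, mul_pow, mul_pow, pow_q_pow_q hF, pow_q_pow_q hF]; ring
      obtain ⟨x₀, hx₀, x₁, hx₁, hx⟩ := exists_two_traces hF (t := s₀) (by
        rw [hs₀, div_pow, q_sub hF, mul_pow, mul_pow, pow_q_pow_q hF, pow_q_pow_q hF, hden,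
          div_eq_div_iff (neg_ne_zero.mpr hdet) hdet]
        ring)
      obtain ⟨x₂, hx₂, x₃, hx₃, hx'⟩ := exists_two_traces hF (t := s₁) (by
        rw [hs₁, div_pow, q_sub hF, mul_pow, mul_pow, pow_q_pow_q hF, pow_q_pow_q hF, hden,
          div_eq_div_iff (neg_ne_zero.mpr hdet) hdet]
        ring)
      refine ⟨![η₀ * x₀, θ₀ * x₀ ^ q, η₁ * x₁, θ₁ * x₁ ^ q, η₂ * x₂, θ₂ * x₂ ^ q, η₃ * x₃, θ₃ * x₃ ^ q,
        ρ 0, ρ 1, ρ 2, Q ^ q, 1], ?_, ?_, ?_, rfl, rfl, rfl, rfl⟩
      · intro l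
        fin_cases l <;> first
          | exact (ρ _).2
          | exact normOne_conj hF hQm
          | exact one_mem_normOne hF
          | exact normOne_mul hF (by assumption) (normOne_conj hF (by assumption))
          | exact normOne_mul hF (by assumption) (by assumption)
      · simp only [Fin.prod_univ_succ, Fin.prod_univ_zero]
        simp
        have hxn := mem_normOne.mp hx₀
        have hxn1 := mem_normOne.mp hx₁
        have hxn2 := mem_normOne.mp hx₂
        have hxn3 := mem_normOne.mp hx₃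
        have hQn := mem_normOne.mp hQm
        calc _ = (x₀ * x₀ ^ q) * (x₁ * x₁ ^ q) * (x₂ * x₂ ^ q) * (x₃ * x₃ ^ q) * (Q * Q ^ q) := by
              rw [hQ, hP]; ring
          _ = 1 := by rw [hxn, hxn1, hxn2, hxn3, hQn]; ring
      · simp only [Fin.sum_univ_succ, Fin.sum_univ_zero]
        simp
        have eT : A * s₀ + B * s₁ = T := by
          rw [hs₀, hs₁, mul_div_assoc', mul_div_assoc', ← add_div, div_eq_iff hdet]; ring
        rw [hT, ← hx, ← hx'] at eT
        linear_combination eT + x₀ * eη₀ + x₀ ^ q * eθ₀ + x₁ * eη₁ + x₁ ^ q * eθ₁ + x₂ * eη₂ +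
          x₂ ^ q * eθ₂ + x₃ * eη₃ + x₃ ^ q * eθ₃
    choose v hv using hsol
    refine ⟨12, v, fun ρ => ⟨(hv ρ).1, (hv ρ).2.1, (hv ρ).2.2.1, (hv ρ).2.2.2.1, fun ρ' e' => ?_⟩⟩
    have h8 := congrFun e' 8
    have h9 := congrFun e' 9
    have h10 := congrFun e' 10
    rw [(hv ρ).2.2.2.2.1, (hv ρ').2.2.2.2.1] at h8
    rw [(hv ρ).2.2.2.2.2.1, (hv ρ').2.2.2.2.2.1] at h9
    rw [(hv ρ).2.2.2.2.2.2, (hv ρ').2.2.2.2.2.2] at h10
    funext l
    fin_cases l
    · exact Subtype.ext h8
    · exact Subtype.ext h9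
    · exact Subtype.ext h10
  · -- six pairs of different norms
    push Not at hclass
    have hne : ∀ i j : Fin 13, j.val = i.val + 7 → d i * d i ^ q ≠ d j * d j ^ q := hclass
    have hsol : ∀ ρ : Fin 3 → normOne q F, ∃ v : Fin 13 → F, (∀ l, v l ∈ normOne q F) ∧ ∏ l, v l = 1 ∧
        ∑ l, d l * v l = t ∧ v 6 = 1 ∧ v 0 * v 7 = ρ 0 ∧ v 1 * v 8 = ρ 1 ∧ v 2 * v 9 = ρ 2 := by
      intro ρ
      set Q := (ρ 0 : F) * ρ 1 * ρ 2 with hQ
      have hQm : Q ∈ normOne q F := normOne_mul hF (normOne_mul hF (ρ 0).2 (ρ 1).2) (ρ 2).2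
      have hcond : ∀ (i j : Fin 13), j.val = i.val + 7 → ∀ z ∈ normOne q F,
          (d i * z) * (d i * z) ^ q ≠ d j * d j ^ q := by
        intro i j hij z hz e'
        refine hne i j hij ?_
        rw [mul_pow] at e'
        linear_combination e' - (d i * d i ^ q) * mem_normOne.mp hz
      have k1 := half_lt_three hF (hcond 0 7 rfl _ (ρ 0).2) (hcond 1 8 rfl _ (ρ 1).2) (hcond 2 9 rfl _ (ρ 2).2)
      have k2 := half_lt_three hF (hcond 3 10 rfl _ (normOne_conj hF hQm))
        (hcond 4 11 rfl _ (one_mem_normOne hF)) (hcond 5 12 rfl _ (one_mem_normOne hF))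
      obtain ⟨x, hx, y, hy, hxy⟩ := exists_sum_mem (t := t - d 6) (Finset.subset_univ
          ((((normOne q F) ×ˢ (normOne q F)) ×ˢ (normOne q F)).image fun p =>
            ellipse q (d 0 * ρ 0) (d 7) p.1.1 + ellipse q (d 1 * ρ 1) (d 8) p.1.2 +
              ellipse q (d 2 * ρ 2) (d 9) p.2))
        (B := ((((normOne q F) ×ˢ (normOne q F)) ×ˢ (normOne q F)).image fun p =>
          ellipse q (d 3 * Q ^ q) (d 10) p.1.1 + ellipse q (d 4 * 1) (d 11) p.1.2 +
            ellipse q (d 5 * 1) (d 12) p.2))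
        (fun b _ => Finset.mem_univ _) (by rw [Finset.card_univ, hF]; omega)
      obtain ⟨⟨⟨x₀, x₁⟩, x₂⟩, hp, rfl⟩ := Finset.mem_image.mp hx
      obtain ⟨⟨⟨x₃, x₄⟩, x₅⟩, hp', rfl⟩ := Finset.mem_image.mp hy
      simp only [Finset.mem_product] at hp hp'
      obtain ⟨⟨hx₀, hx₁⟩, hx₂⟩ := hp
      obtain ⟨⟨hx₃, hx₄⟩, hx₅⟩ := hp'
      refine ⟨![ρ 0 * x₀, ρ 1 * x₁, ρ 2 * x₂, Q ^ q * x₃, x₄, x₅, 1, x₀ ^ q, x₁ ^ q, x₂ ^ q, x₃ ^ q,
        x₄ ^ q, x₅ ^ q], ?_, ?_, ?_, rfl, ?_, ?_, ?_⟩
      · intro l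
        fin_cases l <;> first
          | exact one_mem_normOne hF
          | exact normOne_conj hF (by assumption)
          | assumption
          | exact normOne_mul hF (normOne_conj hF hQm) (by assumption)
          | exact normOne_mul hF (ρ _).2 (by assumption)
      · simp only [Fin.prod_univ_succ, Fin.prod_univ_zero]
        simp
        calc _ = (x₀ * x₀ ^ q) * (x₁ * x₁ ^ q) * (x₂ * x₂ ^ q) * (x₃ * x₃ ^ q) * (x₄ * x₄ ^ q) *
              (x₅ * x₅ ^ q) * (Q * Q ^ q) := by rw [hQ]; ring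
          _ = 1 := by
            rw [mem_normOne.mp hx₀, mem_normOne.mp hx₁, mem_normOne.mp hx₂, mem_normOne.mp hx₃,
              mem_normOne.mp hx₄, mem_normOne.mp hx₅, mem_normOne.mp hQm]
            ring
      · simp only [Fin.sum_univ_succ, Fin.sum_univ_zero]
        simp [ellipse] at hxy ⊢
        linear_combination hxy
      · show (ρ 0 : F) * x₀ * x₀ ^ q = _
        rw [mul_assoc, mem_normOne.mp hx₀, mul_one]
      · show (ρ 1 : F) * x₁ * x₁ ^ q = _
        rw [mul_assoc, mem_normOne.mp hx₁, mul_one]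
      · show (ρ 2 : F) * x₂ * x₂ ^ q = _
        rw [mul_assoc, mem_normOne.mp hx₂, mul_one]
    choose v hv using hsol
    refine ⟨6, v, fun ρ => ⟨(hv ρ).1, (hv ρ).2.1, (hv ρ).2.2.1, (hv ρ).2.2.2.1, fun ρ' e' => ?_⟩⟩
    funext l
    refine Subtype.ext ?_
    fin_cases l
    · show (ρ' 0 : F) = ρ 0
      rw [← (hv ρ).2.2.2.2.1, ← (hv ρ').2.2.2.2.1, e']
    · show (ρ' 1 : F) = ρ 1
      rw [← (hv ρ).2.2.2.2.2.1, ← (hv ρ').2.2.2.2.2.1, e']
    · show (ρ' 2 : F) = ρ 2
      rw [← (hv ρ).2.2.2.2.2.2, ← (hv ρ').2.2.2.2.2.2, e']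

end Cfsg.Agent.Lib.UnitaryMax
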