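import Cfsg.Agent.Lib.UnitaryMax.FrameEq
import Mathlib.Analysis.Fourier.FiniteAbelian.Orthogonality

/-!
Ten norm-one phases with prescribed product and prescribed weighted sum exist in large numbers when
`10 ≤ q`: a character sum over `F × N₁`, bounded by the fourth and the sixth moment of one circle.
-/

set_option autoImplicit false
set_option linter.unusedSectionVars false

namespace Cfsg.Agent.Lib.UnitaryMax

open Finset Cfsg.Agent.Lib.Forms
open scoped ComplexConjugate

/-- The second moment of a weighted character sum is bounded by the collisions. -/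
theorem sum_norm_sq_char_le {G I : Type*} [AddCommGroup G] [Fintype G] [DecidableEq G] [Fintype I] (g : I → G)
    (w : I → ℂ) (hw : ∀ i, ‖w i‖ = 1) :
    ∑ Ψ : AddChar G ℂ, ‖∑ i, w i * Ψ (g i)‖ ^ 2 ≤
      (Fintype.card G : ℝ) * ((univ : Finset (I × I)).filter fun p => g p.1 = g p.2).card := by
  set P := (univ : Finset (I × I)).filter fun p => g p.1 = g p.2 with hP
  have key : ((∑ Ψ : AddChar G ℂ, ‖∑ i, w i * Ψ (g i)‖ ^ 2 : ℝ) : ℂ) =
      ∑ p ∈ P, w p.1 * conj (w p.2) * (Fintype.card G : ℂ) := by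
    push_cast
    calc ∑ Ψ : AddChar G ℂ, (‖∑ i, w i * Ψ (g i)‖ : ℂ) ^ 2
        = ∑ Ψ : AddChar G ℂ, ∑ p : I × I, w p.1 * conj (w p.2) * Ψ (g p.1 - g p.2) := by
          refine sum_congr rfl fun Ψ _ => ?_
          rw [← Complex.mul_conj', map_sum, sum_mul_sum, Fintype.sum_prod_type]
          refine sum_congr rfl fun i _ => sum_congr rfl fun j _ => ?_
          rw [map_mul, sub_eq_add_neg, AddChar.map_add_eq_mul, AddChar.map_neg_eq_conj]
          ring
      _ = _ := by
          rw [sum_comm, hP, sum_filter]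
          refine sum_congr rfl fun p _ => ?_
          rw [← mul_sum, AddChar.sum_apply_eq_ite]
          simp [sub_eq_zero]
  have hbound := norm_sum_le P fun p => w p.1 * conj (w p.2) * (Fintype.card G : ℂ)
  rw [← key, Complex.norm_real, Real.norm_eq_abs] at hbound
  refine (le_abs_self _).trans (hbound.trans_eq ?_)
  simp [hw, mul_comm]

theorem addChar_sum {A ι : Type*} [AddCommMonoid A] (Ψ : AddChar A ℂ) (s : Finset ι) (f : ι → A) :
    Ψ (∑ i ∈ s, f i) = ∏ i ∈ s, Ψ (f i) := by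
  induction s using Finset.cons_induction with
  | empty => simp
  | cons a s ha ih => rw [sum_cons, prod_cons, AddChar.map_add_eq_mul, ih]

theorem mul_four_le {a b c d S : ℝ} (ha : a ^ 4 ≤ S) (hb : b ^ 4 ≤ S) (hc : c ^ 4 ≤ S) (hd : d ^ 4 ≤ S) :
    a * b * c * d ≤ S := by
  nlinarith [sq_nonneg (a * b - c * d), sq_nonneg (a ^ 2 - b ^ 2), sq_nonneg (c ^ 2 - d ^ 2)]

theorem mul_three_le {x y z : ℝ} (hx : 0 ≤ x) (hy : 0 ≤ y) (hz : 0 ≤ z) :
    x * y * z ≤ (x ^ 3 + y ^ 3 + z ^ 3) / 3 := by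
  nlinarith [mul_nonneg (add_nonneg (add_nonneg hx hy) hz)
    (add_nonneg (add_nonneg (sq_nonneg (x - y)) (sq_nonneg (y - z))) (sq_nonneg (z - x)))]

theorem mul_six_le (a b c d e f : ℝ) :
    a * b * c * (d * e * f) ≤ (a ^ 6 + b ^ 6 + c ^ 6 + d ^ 6 + e ^ 6 + f ^ 6) / 6 := by
  nlinarith [mul_three_le (sq_nonneg a) (sq_nonneg b) (sq_nonneg c),
    mul_three_le (sq_nonneg d) (sq_nonneg e) (sq_nonneg f), sq_nonneg (a * b * c - d * e * f)]

variable {F : Type*} [Field F] {q : ℕ}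

/-- The norm-one group. -/
def normOneGroup (q : ℕ) (F : Type*) [Field F] : Subgroup Fˣ := (powMonoidHom (q + 1)).ker

theorem mul_pow_normOneGroup (u : normOneGroup q F) : ((u : Fˣ) : F) * ((u : Fˣ) : F) ^ q = 1 := by
  have h : (u : Fˣ) ^ (q + 1) = 1 := MonoidHom.mem_ker.mp u.2
  rw [← pow_succ', ← Units.val_pow_eq_pow_val, h, Units.val_one]

/-- The step of one circle. -/
def circleStep (c : F) (u : normOneGroup q F) : F × Additive (normOneGroup q F) :=
  (c * ((u : Fˣ) : F), Additive.ofMul u)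

theorem sum_circleStep {ι : Type*} [Fintype ι] (c : ι → F) (Φ : ι → normOneGroup q F) :
    ∑ l, circleStep (c l) (Φ l) = (∑ l, c l * ((Φ l : Fˣ) : F), Additive.ofMul (∏ l, Φ l)) := by
  simp [circleStep, Prod.ext_iff, Prod.fst_sum, Prod.snd_sum, ofMul_prod]

variable [Fintype F] (hF : Fintype.card F = q ^ 2)
include hF

theorem natCard_normOneGroup : Nat.card (normOneGroup q F) = q + 1 := by
  classical
  have hq := two_le_of_card_sq hF
  rw [normOneGroup, IsCyclic.card_powMonoidHom_ker, Nat.card_eq_fintype_card, Fintype.card_units, hF]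
  refine Nat.gcd_eq_right ⟨q - 1, ?_⟩
  zify [Nat.one_le_pow 2 q (by omega), (by omega : 1 ≤ q)]
  ring

variable [DecidableEq F] [Fintype (normOneGroup q F)]

local notation "UU" => normOneGroup q F

theorem card_normOneGroup : Fintype.card (normOneGroup q F) = q + 1 := by
  rw [← Nat.card_eq_fintype_card, natCard_normOneGroup hF]

theorem card_circle_energy {c : F} (hc : c ≠ 0) :
    ((univ : Finset ((normOneGroup q F × normOneGroup q F) × (normOneGroup q F × normOneGroup q F))).filter fun p =>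
      c * ((p.1.1 : Fˣ) : F) + c * ((p.1.2 : Fˣ) : F) = c * ((p.2.1 : Fˣ) : F) + c * ((p.2.2 : Fˣ) : F)).card ≤
      3 * (q + 1) ^ 2 := by
  let s : UU × UU → F := fun a => ((a.1 : Fˣ) : F) + ((a.2 : Fˣ) : F)
  have hfib : ∀ y, ((univ : Finset (UU × UU)).filter fun a => s a = y).card ≤
      2 + if y = 0 then q + 1 else 0 := by
    intro y
    split_ifs with hy
    · refine le_trans ?_ (Nat.le_add_left _ 2)
      rw [← card_normOneGroup hF, ← card_univ]
      refine card_le_card_of_injOn Prod.fst (fun a _ => mem_coe.mpr (mem_univ _)) fun a ha b hb e => ?_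
      simp only [coe_filter, mem_univ, true_and, Set.mem_ofPred_eq, s] at ha hb
      refine Prod.ext e (Subtype.ext (Units.ext ?_))
      rw [e] at ha
      exact add_left_cancel (ha.trans hb.symm)
    · refine le_trans ?_ (card_circle_le hF one_ne_zero one_ne_zero hy)
      refine card_le_card_of_injOn (fun a => (((a.1 : Fˣ) : F), ((a.2 : Fˣ) : F))) (fun a ha => ?_)
        fun a _ b _ e => ?_
      · simp only [coe_filter, mem_univ, true_and, Set.mem_ofPred_eq, mem_product, mem_normOne, one_mul, s] at ha ⊢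
        exact ⟨⟨mul_pow_normOneGroup a.1, mul_pow_normOneGroup a.2⟩, ha⟩
      · rw [Prod.ext_iff] at e
        exact Prod.ext (Subtype.ext (Units.ext e.1)) (Subtype.ext (Units.ext e.2))
  have hzero : ((univ : Finset (UU × UU)).filter fun a => s a = 0).card ≤ q + 1 := by
    rw [← card_normOneGroup hF, ← card_univ]
    refine card_le_card_of_injOn Prod.fst (fun a _ => mem_coe.mpr (mem_univ _)) fun a ha b hb e => ?_
    simp only [coe_filter, mem_univ, true_and, Set.mem_ofPred_eq, s] at ha hb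
    refine Prod.ext e (Subtype.ext (Units.ext ?_))
    rw [e] at ha
    exact add_left_cancel (ha.trans hb.symm)
  set T := (univ : Finset ((UU × UU) × (UU × UU))).filter fun p =>
      c * ((p.1.1 : Fˣ) : F) + c * ((p.1.2 : Fˣ) : F) = c * ((p.2.1 : Fˣ) : F) + c * ((p.2.2 : Fˣ) : F) with hT
  have hb : ∀ a : UU × UU, (T.filter fun p => p.1 = a).card ≤ 2 + if s a = 0 then q + 1 else 0 := by
    intro a
    refine le_trans ?_ (hfib (s a))
    refine card_le_card_of_injOn Prod.snd (fun p hp => ?_) fun p hp p' hp' e => ?_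
    · simp only [hT, coe_filter, mem_filter, mem_univ, true_and, Set.mem_ofPred_eq] at hp ⊢
      rw [← hp.2]
      exact mul_left_cancel₀ hc (by simp only [s, mul_add]; exact hp.1.symm)
    · simp only [coe_filter, Set.mem_ofPred_eq] at hp hp'
      exact Prod.ext (hp.2.trans hp'.2.symm) e
  rw [card_eq_sum_card_fiberwise (f := Prod.fst) (s := T) (t := univ) (fun _ _ => mem_coe.mpr (mem_univ _))]
  refine (sum_le_sum fun a _ => hb a).trans ?_
  rw [sum_add_distrib, sum_const, ← sum_filter, sum_const, card_univ, Fintype.card_prod, card_normOneGroup hF,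
    smul_eq_mul, smul_eq_mul]
  nlinarith

theorem card_triple_collisions {c : F} (hc : c ≠ 0) :
    ((univ : Finset ((Fin 3 → normOneGroup q F) × (Fin 3 → normOneGroup q F))).filter fun p =>
      ∑ l, circleStep c (p.1 l) = ∑ l, circleStep c (p.2 l)).card ≤ 6 * (q + 1) ^ 3 := by
  set T := (univ : Finset ((Fin 3 → UU) × (Fin 3 → UU))).filter fun p =>
      ∑ l, circleStep c (p.1 l) = ∑ l, circleStep c (p.2 l) with hT
  have hb : ∀ a : Fin 3 → UU, (T.filter fun p => p.1 = a).card ≤ 6 := by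
    intro a
    set Y : Finset (Fin 3 → UU) := {![a 0, a 1, a 2], ![a 0, a 2, a 1], ![a 1, a 0, a 2], ![a 1, a 2, a 0],
      ![a 2, a 0, a 1], ![a 2, a 1, a 0]} with hY
    refine le_trans (card_le_card_of_injOn Prod.snd (t := Y) (fun p hp => ?_) fun p hp p' hp' e => ?_) ?_
    · simp only [hT, coe_filter, mem_filter, mem_univ, true_and, Set.mem_ofPred_eq, sum_circleStep] at hp
      obtain ⟨hp, rfl⟩ := hp
      rw [Prod.ext_iff] at hp
      obtain ⟨h1, h2⟩ := hp
      simp only [Fin.sum_univ_three] at h1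
      have h2' := congrArg (fun u : UU => ((u : Fˣ) : F)) (Additive.ofMul.injective h2)
      simp only [Fin.prod_univ_three, Subgroup.coe_mul, Units.val_mul] at h2'
      set x := ((p.1 0 : Fˣ) : F) with hx
      set y := ((p.1 1 : Fˣ) : F) with hy
      set z := ((p.1 2 : Fˣ) : F) with hz
      set x' := ((p.2 0 : Fˣ) : F) with hx'
      set y' := ((p.2 1 : Fˣ) : F) with hy'
      set z' := ((p.2 2 : Fˣ) : F) with hz'
      have es : x + y + z = x' + y' + z' := mul_left_cancel₀ hc (by rw [mul_add, mul_add, mul_add, mul_add]; exact h1)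
      have esq : x ^ q + y ^ q + z ^ q = x' ^ q + y' ^ q + z' ^ q := by
        rw [← q_add hF, ← q_add hF, ← q_add hF, ← q_add hF, es]
      have nx : x * x ^ q = 1 := mul_pow_normOneGroup _
      have ny : y * y ^ q = 1 := mul_pow_normOneGroup _
      have nz : z * z ^ q = 1 := mul_pow_normOneGroup _
      have nx' : x' * x' ^ q = 1 := mul_pow_normOneGroup _
      have ny' : y' * y' ^ q = 1 := mul_pow_normOneGroup _
      have nz' : z' * z' ^ q = 1 := mul_pow_normOneGroup _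
      have e2 : x * y + y * z + z * x = x' * y' + y' * z' + z' * x' := by
        linear_combination (x' * y' * z') * esq + (x ^ q + y ^ q + z ^ q) * h2' -
          (y * z) * nx - (z * x) * ny - (x * y) * nz + (y' * z') * nx' + (z' * x') * ny' + (x' * y') * nz'
      have hroot : (x' - x) * ((x' - y) * (x' - z)) = 0 := by
        linear_combination (-(x' * x')) * es + x' * e2 - h2'
      have hinj : ∀ {u v : UU}, ((u : Fˣ) : F) = ((v : Fˣ) : F) → u = v := fun e => Subtype.ext (Units.ext e)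
      have hfin : ∀ {u v w : UU}, ((u : Fˣ) : F) = x' →
          ((u : Fˣ) : F) + ((v : Fˣ) : F) + ((w : Fˣ) : F) = x' + y' + z' →
          ((u : Fˣ) : F) * ((v : Fˣ) : F) * ((w : Fˣ) : F) = x' * y' * z' →
          p.2 = ![u, v, w] ∨ p.2 = ![u, w, v] := by
        intro u v w hu hs hp'
        rw [hu] at hs hp'
        have hx0 : x' ≠ 0 := left_ne_zero_of_mul_eq_one nx'
        have hpr : ((v : Fˣ) : F) * ((w : Fˣ) : F) = y' * z' := mul_left_cancel₀ hx0 (by linear_combination hp')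
        have h : (y' - ((v : Fˣ) : F)) * (y' - ((w : Fˣ) : F)) = 0 := by
          linear_combination (-y') * hs + hpr
        rcases mul_eq_zero.mp h with e | e
        · refine Or.inl (funext fun l => ?_)
          fin_cases l
          · exact hinj hu.symm
          · exact hinj (sub_eq_zero.mp e)
          · exact hinj (show z' = ((w : Fˣ) : F) by linear_combination -hs - e)
        · refine Or.inr (funext fun l => ?_)
          fin_cases l
          · exact hinj hu.symm
          · exact hinj (sub_eq_zero.mp e)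
          · exact hinj (show z' = ((v : Fˣ) : F) by linear_combination -hs - e)
      show p.2 ∈ (Y : Set (Fin 3 → UU))
      simp only [hY, coe_insert, coe_singleton, Set.mem_insert_iff, Set.mem_singleton_iff]
      rcases mul_eq_zero.mp hroot with e | e
      · rcases hfin (u := p.1 0) (v := p.1 1) (w := p.1 2) (sub_eq_zero.mp e).symm es h2' with h | h <;> simp [h]
      rcases mul_eq_zero.mp e with e | e
      · rcases hfin (u := p.1 1) (v := p.1 0) (w := p.1 2) (sub_eq_zero.mp e).symm (by linear_combination es)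
          (by linear_combination h2') with h | h <;> simp [h]
      · rcases hfin (u := p.1 2) (v := p.1 0) (w := p.1 1) (sub_eq_zero.mp e).symm (by linear_combination es)
          (by linear_combination h2') with h | h <;> simp [h]
    · simp only [coe_filter, Set.mem_ofPred_eq] at hp hp'
      exact Prod.ext (hp.2.trans hp'.2.symm) e
    · exact Finset.card_le_six
  rw [card_eq_sum_card_fiberwise (f := Prod.fst) (s := T) (t := univ) (fun _ _ => mem_coe.mpr (mem_univ _))]
  refine (sum_le_sum fun a _ => hb a).trans ?_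
  simp [card_normOneGroup hF, mul_comm]

/-- The fourth power of one circle sum at a character which is nontrivial on `F`. -/
theorem circle_pow_four_le {c : F} (hc : c ≠ 0) (Ψ : AddChar (F × Additive (normOneGroup q F)) ℂ) {s : F}
    (hs : Ψ (s, 0) ≠ 1) : ‖∑ u, Ψ (circleStep c u)‖ ^ 4 ≤ 3 * (q : ℝ) ^ 2 * (q + 1) := by
  classical
  let φ : AddChar F ℂ := Ψ.compAddMonoidHom (AddMonoidHom.inl F (Additive UU))
  let χ : UU → ℂ := fun u => Ψ (0, Additive.ofMul u)
  have hsplit : ∀ u : UU, Ψ (circleStep c u) = χ u * φ (c * ((u : Fˣ) : F)) := fun u => by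
    show _ = Ψ _ * Ψ _
    rw [← AddChar.map_add_eq_mul]
    simp [circleStep]
  have hχ : ∀ u, ‖χ u‖ = 1 := fun u => AddChar.norm_apply _ _
  have hχmul : ∀ u v, χ (u * v) = χ u * χ v := fun u v => by
    show Ψ _ = Ψ _ * Ψ _
    rw [← AddChar.map_add_eq_mul]
    simp
  let S : AddChar F ℂ → ℂ := fun θ => ∑ u : UU, χ u * θ (c * ((u : Fˣ) : F))
  let rot : UU → AddChar F ℂ := fun u => φ.compAddMonoidHom (AddMonoidHom.mulLeft ((u : Fˣ) : F))
  have hrot : ∀ u, ‖S (rot u)‖ = ‖S φ‖ := fun u => by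
    have h : S φ = χ u * S (rot u) := by
      show ∑ v : UU, χ v * φ (c * ((v : Fˣ) : F)) = χ u * ∑ v : UU, χ v * φ (((u : Fˣ) : F) * (c * ((v : Fˣ) : F)))
      rw [mul_sum, ← Equiv.sum_comp (Equiv.mulLeft u)]
      refine sum_congr rfl fun v _ => ?_
      simp only [Equiv.coe_mulLeft, hχmul, Subgroup.coe_mul, Units.val_mul]
      rw [mul_left_comm c, mul_assoc]
    rw [h, norm_mul, hχ, one_mul]
  have hinj : Function.Injective rot := fun u v e => by
    by_contra hne
    have hd : ((u : Fˣ) : F) - ((v : Fˣ) : F) ≠ 0 := sub_ne_zero.mpr fun e' => hne (Subtype.ext (Units.ext e'))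
    have h1 : φ (((u : Fˣ) : F) * (s / (((u : Fˣ) : F) - ((v : Fˣ) : F)))) =
        φ (((v : Fˣ) : F) * (s / (((u : Fˣ) : F) - ((v : Fˣ) : F)))) := DFunLike.congr_fun e _
    have h2 : ((u : Fˣ) : F) * (s / (((u : Fˣ) : F) - ((v : Fˣ) : F))) =
        s + ((v : Fˣ) : F) * (s / (((u : Fˣ) : F) - ((v : Fˣ) : F))) := by
      field_simp; ring
    have h3 : φ (((v : Fˣ) : F) * (s / (((u : Fˣ) : F) - ((v : Fˣ) : F)))) ≠ 0 := by
      intro h0
      have := AddChar.norm_apply φ (((v : Fˣ) : F) * (s / (((u : Fˣ) : F) - ((v : Fˣ) : F))))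
      rw [h0, norm_zero] at this
      exact zero_ne_one this
    rw [h2, AddChar.map_add_eq_mul] at h1
    exact hs (by simpa [φ] using (mul_right_cancel₀ h3 (h1.trans (one_mul _).symm) : φ s = 1))
  have hmom := sum_norm_sq_char_le (G := F) (fun a : UU × UU => c * ((a.1 : Fˣ) : F) + c * ((a.2 : Fˣ) : F))
    (fun a => χ a.1 * χ a.2) (fun a => by rw [norm_mul, hχ, hχ, one_mul])
  have hsq : ∀ θ : AddChar F ℂ, ∑ a : UU × UU, χ a.1 * χ a.2 * θ (c * ((a.1 : Fˣ) : F) + c * ((a.2 : Fˣ) : F)) =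
      S θ * S θ := fun θ => by
    rw [sum_mul_sum, Fintype.sum_prod_type]
    refine sum_congr rfl fun i _ => sum_congr rfl fun j _ => ?_
    rw [AddChar.map_add_eq_mul]; ring
  simp only [hsq] at hmom
  have h1 : ((q : ℝ) + 1) * ‖S φ‖ ^ 4 ≤ ∑ θ : AddChar F ℂ, ‖S θ * S θ‖ ^ 2 := by
    calc ((q : ℝ) + 1) * ‖S φ‖ ^ 4 = ∑ θ ∈ univ.image rot, ‖S θ * S θ‖ ^ 2 := by
          rw [sum_image fun a _ b _ e => hinj e, sum_congr rfl (g := fun _ => ‖S φ‖ ^ 4) fun u _ => by
            rw [norm_mul, hrot]; ring, sum_const, card_univ, card_normOneGroup hF, nsmul_eq_mul]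
          push_cast; rfl
      _ ≤ _ := sum_le_sum_of_subset_of_nonneg (subset_univ _) fun _ _ _ => by positivity
  have h2 := card_circle_energy hF hc
  have h3 : ∑ θ : AddChar F ℂ, ‖S θ * S θ‖ ^ 2 ≤ (q : ℝ) ^ 2 * (3 * ((q : ℝ) + 1) ^ 2) := by
    refine hmom.trans ?_
    rw [hF]
    push_cast
    gcongr
    exact_mod_cast h2
  have h4 : (∑ u, Ψ (circleStep c u)) = S φ := sum_congr rfl fun u _ => hsplit u
  rw [h4]
  refine le_of_mul_le_mul_left ((h1.trans h3).trans_eq ?_) (by positivity : (0 : ℝ) < q + 1)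
  ring

theorem sum_circle_pow_six_le {c : F} (hc : c ≠ 0) (A : Finset (AddChar (F × Additive (normOneGroup q F)) ℂ))
    (hA : (0 : AddChar (F × Additive (normOneGroup q F)) ℂ) ∉ A) :
    ∑ Ψ ∈ A, ‖∑ u, Ψ (circleStep c u)‖ ^ 6 ≤
      6 * (q : ℝ) ^ 2 * ((q : ℝ) + 1) ^ 4 - ((q : ℝ) + 1) ^ 6 := by
  classical
  let f : AddChar (F × Additive UU) ℂ → ℝ := fun Ψ => ‖∑ u, Ψ (circleStep c u)‖ ^ 6
  have hmom := sum_norm_sq_char_le (fun a : Fin 3 → UU => ∑ l, circleStep c (a l)) (fun _ => 1)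
    (fun _ => norm_one)
  have hcube : ∀ Ψ : AddChar (F × Additive UU) ℂ,
      ‖∑ a : Fin 3 → UU, 1 * Ψ (∑ l, circleStep c (a l))‖ ^ 2 = f Ψ := fun Ψ => by
    simp only [f, one_mul, addChar_sum]
    rw [← Fintype.prod_sum (fun (_ : Fin 3) u => Ψ (circleStep c u)), prod_const, card_univ, Fintype.card_fin,
      norm_pow, ← pow_mul]
  simp only [hcube] at hmom
  have h0 : f 0 = ((q : ℝ) + 1) ^ 6 := by
    simp only [f]
    rw [sum_congr rfl fun u _ => AddChar.zero_apply _]
    simp [card_normOneGroup hF]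
    norm_cast
  have h1 : ∑ Ψ ∈ insert 0 A, f Ψ ≤ ∑ Ψ, f Ψ :=
    sum_le_sum_of_subset_of_nonneg (subset_univ _) fun _ _ _ => by positivity
  rw [sum_insert hA, h0] at h1
  have h2 : (Fintype.card (F × Additive UU) : ℝ) *
      ((univ : Finset ((Fin 3 → UU) × (Fin 3 → UU))).filter fun p =>
        ∑ l, circleStep c (p.1 l) = ∑ l, circleStep c (p.2 l)).card ≤ 6 * (q : ℝ) ^ 2 * ((q : ℝ) + 1) ^ 4 := by
    have h := Nat.mul_le_mul_left (Fintype.card (F × Additive UU)) (card_triple_collisions hF hc)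
    rw [Fintype.card_prod, Fintype.card_congr (Additive.toMul : Additive UU ≃ UU), hF, card_normOneGroup hF] at h ⊢
    calc _ ≤ (((q ^ 2 * (q + 1) * (6 * (q + 1) ^ 3) : ℕ)) : ℝ) := by exact_mod_cast h
      _ = _ := by push_cast; ring
  show ∑ Ψ ∈ A, f Ψ ≤ _
  linarith

/-- Many tuples of ten phases. -/
theorem card_ten_phases (hq : 10 ≤ q) (c : Fin 10 → F) (hc : ∀ l, c l ≠ 0) (t : F) :
    q * (q + 1) < ((univ : Finset (Fin 10 → normOneGroup q F)).filter fun Φ =>
      (∏ l, Φ l) = 1 ∧ ∑ l, c l * ((Φ l : Fˣ) : F) = t).card := by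
  classical
  set S := (univ : Finset (Fin 10 → UU)).filter fun Φ => (∏ l, Φ l) = 1 ∧ ∑ l, c l * ((Φ l : Fˣ) : F) = t with hS
  set τ : F × Additive UU := (t, 0) with hτ
  let f : Fin 10 → AddChar (F × Additive UU) ℂ → ℂ := fun l Ψ => ∑ u, Ψ (circleStep (c l) u)
  have hmain : ((Fintype.card (F × Additive UU) * S.card : ℕ) : ℂ) = ∑ Ψ : AddChar (F × Additive UU) ℂ, Ψ (-τ) * ∏ l, f l Ψ := by
    calc ((Fintype.card (F × Additive UU) * S.card : ℕ) : ℂ)
        = ∑ Φ : Fin 10 → UU, ∑ Ψ : AddChar (F × Additive UU) ℂ, Ψ (-τ + ∑ l, circleStep (c l) (Φ l)) := by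
          rw [hS, Nat.cast_mul, Finset.natCast_card_filter, mul_sum]
          refine sum_congr rfl fun Φ _ => ?_
          rw [AddChar.sum_apply_eq_ite]
          have hiff : (-τ + ∑ l, circleStep (c l) (Φ l) = 0) ↔
              ((∏ l, Φ l) = 1 ∧ ∑ l, c l * ((Φ l : Fˣ) : F) = t) := by
            rw [neg_add_eq_zero, sum_circleStep, hτ, Prod.mk.injEq, eq_comm, and_comm]
            refine and_congr_left' ?_
            rw [eq_comm, ofMul_eq_zero]
          simp only [hiff]
          split_ifs <;> simp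
      _ = _ := by
          rw [sum_comm]
          refine sum_congr rfl fun Ψ _ => ?_
          simp only [f, AddChar.map_add_eq_mul, addChar_sum, ← mul_sum]
          rw [Fintype.prod_sum]
  set A := (univ : Finset (AddChar (F × Additive UU) ℂ)).filter fun Ψ => ∃ s, Ψ (s, 0) ≠ 1 with hA
  have hA0 : (0 : AddChar (F × Additive UU) ℂ) ∉ A := by simp [hA]
  have hrest : ∀ Ψ, Ψ ∉ A → Ψ ≠ 0 → ∏ l, f l Ψ = 0 := by
    intro Ψ hΨ hne
    simp only [hA, mem_filter, mem_univ, true_and, not_exists, not_not] at hΨ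
    refine prod_eq_zero (mem_univ 0) ?_
    let χ : AddChar (Additive UU) ℂ := Ψ.compAddMonoidHom (AddMonoidHom.inr F (Additive UU))
    have hχ : χ ≠ 0 := fun e => hne (AddChar.ext _ _ fun x => by
      have h2 : Ψ (0, x.2) = 1 := DFunLike.congr_fun e x.2
      rw [show x = (x.1, 0) + (0, x.2) by simp, AddChar.map_add_eq_mul, hΨ, h2, one_mul, AddChar.zero_apply])
    have hsum := AddChar.sum_eq_zero_iff_ne_zero.mpr hχ
    show ∑ u, Ψ (circleStep (c 0) u) = 0
    rw [← hsum, ← Equiv.sum_comp (Additive.ofMul : UU ≃ Additive UU) (fun x => χ x)]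
    refine sum_congr rfl fun u _ => ?_
    rw [show circleStep (c 0) u = (c 0 * ((u : Fˣ) : F), 0) + (0, Additive.ofMul u) by simp [circleStep],
      AddChar.map_add_eq_mul, hΨ, one_mul]
    rfl
  have h0 : (0 : AddChar (F × Additive UU) ℂ) (-τ) * ∏ l, f l 0 = ((q : ℂ) + 1) ^ 10 := by
    simp [f, card_normOneGroup hF]
  have hdec : ∑ Ψ : AddChar (F × Additive UU) ℂ, Ψ (-τ) * ∏ l, f l Ψ =
      ((q : ℂ) + 1) ^ 10 + ∑ Ψ ∈ A, Ψ (-τ) * ∏ l, f l Ψ := by
    rw [← h0, ← sum_insert (f := fun Ψ : AddChar (F × Additive UU) ℂ => Ψ (-τ) * ∏ l, f l Ψ) hA0]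
    refine (sum_subset (subset_univ _) fun Ψ _ hΨ => ?_).symm
    rw [mem_insert, not_or] at hΨ
    rw [hrest Ψ hΨ.2 hΨ.1, mul_zero]
  have herr : ‖∑ Ψ ∈ A, Ψ (-τ) * ∏ l, f l Ψ‖ ≤
      3 * (q : ℝ) ^ 2 * (q + 1) * (6 * (q : ℝ) ^ 2 * ((q : ℝ) + 1) ^ 4 - ((q : ℝ) + 1) ^ 6) := by
    calc _ ≤ ∑ Ψ ∈ A, ‖Ψ (-τ) * ∏ l, f l Ψ‖ := norm_sum_le _ _
      _ ≤ ∑ Ψ ∈ A, 3 * (q : ℝ) ^ 2 * (q + 1) * ((‖f 4 Ψ‖ ^ 6 + ‖f 5 Ψ‖ ^ 6 + ‖f 6 Ψ‖ ^ 6 + ‖f 7 Ψ‖ ^ 6 +
            ‖f 8 Ψ‖ ^ 6 + ‖f 9 Ψ‖ ^ 6) / 6) := by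
          refine sum_le_sum fun Ψ hΨ => ?_
          obtain ⟨s, hs⟩ := (mem_filter.mp hΨ).2
          have h4 : ∀ l, ‖f l Ψ‖ ^ 4 ≤ 3 * (q : ℝ) ^ 2 * (q + 1) := fun l => circle_pow_four_le hF (hc l) Ψ hs
          have g4 := mul_four_le (h4 0) (h4 1) (h4 2) (h4 3)
          have g6 := mul_six_le ‖f 4 Ψ‖ ‖f 5 Ψ‖ ‖f 6 Ψ‖ ‖f 7 Ψ‖ ‖f 8 Ψ‖ ‖f 9 Ψ‖
          rw [norm_mul, AddChar.norm_apply, one_mul, norm_prod]
          refine le_of_eq_of_le ?_ (mul_le_mul g4 g6 (by positivity) (by positivity))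
          simp only [Fin.prod_univ_succ, Fin.prod_univ_zero]
          simp only [Fin.succ_zero_eq_one, Fin.succ_one_eq_two]
          simp
          ring!
      _ ≤ _ := by
          rw [← mul_sum]
          refine mul_le_mul_of_nonneg_left ?_ (by positivity)
          rw [← sum_div, div_le_iff₀ (by norm_num : (0 : ℝ) < 6)]
          simp only [sum_add_distrib]
          have h := fun l => sum_circle_pow_six_le hF (hc l) A hA0
          have := h 4; have := h 5; have := h 6; have := h 7; have := h 8; have := h 9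
          simp only [f]
          linarith
  set E := ∑ Ψ ∈ A, Ψ (-τ) * ∏ l, f l Ψ with hE
  have hre : ((Fintype.card (F × Additive UU) * S.card : ℕ) : ℝ) = ((q : ℝ) + 1) ^ 10 + E.re := by
    have h := congrArg Complex.re (hmain.trans hdec)
    rw [Complex.natCast_re, Complex.add_re, show ((q : ℂ) + 1) ^ 10 = ((((q : ℝ) + 1) ^ 10 : ℝ) : ℂ) by push_cast; rfl,
      Complex.ofReal_re] at h
    exact h
  have hE' : -E.re ≤ 3 * (q : ℝ) ^ 2 * (q + 1) * (6 * (q : ℝ) ^ 2 * ((q : ℝ) + 1) ^ 4 - ((q : ℝ) + 1) ^ 6) :=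
    ((neg_le_abs _).trans (Complex.abs_re_le_norm E)).trans herr
  rw [Fintype.card_prod, Fintype.card_congr (Additive.toMul : Additive UU ≃ UU), hF, card_normOneGroup hF] at hre
  push_cast at hre
  by_contra hle
  push Not at hle
  have hq' : (10 : ℝ) ≤ q := by exact_mod_cast hq
  have hle' : (S.card : ℝ) ≤ q * (q + 1) := by exact_mod_cast hle
  set N : ℝ := (q : ℝ) + 1 with hN
  have hN0 : 0 < N := by positivity
  have hnum : 3 * (q : ℝ) ^ 2 * (6 * (q : ℝ) ^ 2 - N ^ 2) + 1 < N ^ 5 := by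
    rw [hN]
    nlinarith [pow_pos (show (0:ℝ) < q by linarith) 3, pow_pos (show (0:ℝ) < q by linarith) 4,
      mul_nonneg (sub_nonneg.mpr hq') (pow_nonneg (show (0:ℝ) ≤ q by linarith) 4)]
  have h5 : (q : ℝ) ^ 3 * N ^ 2 ≤ N ^ 5 := by
    calc (q : ℝ) ^ 3 * N ^ 2 ≤ N ^ 3 * N ^ 2 := by gcongr; linarith
      _ = N ^ 5 := by ring
  have h6 : (q : ℝ) ^ 2 * N * S.card ≤ (q : ℝ) ^ 3 * N ^ 2 := by
    calc (q : ℝ) ^ 2 * N * S.card ≤ (q : ℝ) ^ 2 * N * (q * N) := by gcongr
      _ = _ := by ring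
  have h7 := mul_lt_mul_of_pos_left hnum (pow_pos hN0 5)
  nlinarith

end Cfsg.Agent.Lib.UnitaryMax
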