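import Cfsg.Agent.Lib.UnitaryMax.Basic
import Cfsg.Agent.Lib.UnitaryStab.Basic

/-!
Nondegenerate subspaces of arbitrary dimension: special vectors and the elements moving them.
-/

set_option autoImplicit false
set_option linter.unusedSectionVars false

namespace Cfsg.Agent.Lib.UnitaryMax

open Matrix Cfsg.Agent.Lib.Forms Cfsg.Agent.Lib.FormMax

variable {F : Type*} [Field F] [Fintype F] {n q : ℕ}

local notation "Vs" => (Fin n → F)
local notation "h" => Cfsg.hermForm n F q

/-- Nondegeneracy of the restriction to a subspace. -/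
def Nondeg (q : ℕ) (X : Submodule F Vs) : Prop :=
  ∀ x ∈ X, x ≠ 0 → ∃ y ∈ X, Cfsg.hermForm n F q x y ≠ 0

variable (hF : Fintype.card F = q ^ 2)
include hF

theorem exists_fixed_skew_ne (hq : 3 ≤ q) {δ : F} (hδ : δ + δ ^ q = 0) (hδ0 : δ ≠ 0) :
    ∃ ε : F, ε + ε ^ q = 0 ∧ ε ≠ 0 ∧ ε + δ ≠ 0 := by
  obtain ⟨c, hc, hc0, hc1⟩ : ∃ c : F, c ^ q = c ∧ c ≠ 0 ∧ c ≠ -1 := by
    by_cases h2 : (2 : F) = 0
    · obtain ⟨g, hg⟩ := IsCyclic.exists_generator (α := Fˣ)
      refine ⟨(g : F) * (g : F) ^ q, by rw [mul_pow, pow_q_pow_q hF, mul_comm],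
        mul_ne_zero g.ne_zero (pow_ne_zero _ g.ne_zero), fun e => ?_⟩
      have h1 : g ^ (q + 1) = 1 := Units.ext (by
        rw [Units.val_pow_eq_pow_val, Units.val_one, pow_succ, mul_comm, e]; linear_combination -h2)
      have hord : orderOf g = Fintype.card F - 1 := by
        classical
        rw [orderOf_eq_card_of_forall_mem_zpowers hg, Nat.card_eq_fintype_card, Fintype.card_units]
      have h3 := Nat.le_of_dvd (by omega) (orderOf_dvd_of_pow_eq_one h1)
      rw [hord, hF, Nat.sub_le_iff_le_add] at h3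
      nlinarith
    · exact ⟨1, one_pow q, one_ne_zero, fun e => h2 (by linear_combination e)⟩
  refine ⟨c * δ, by rw [mul_pow, hc]; linear_combination c * hδ, mul_ne_zero hc0 hδ0, fun e => ?_⟩
  have : (c + 1) * δ = 0 := by linear_combination e
  exact hc1 (eq_neg_of_add_eq_zero_left ((mul_eq_zero.mp this).resolve_right hδ0))

theorem exists_aniso {X : Submodule F Vs} (hX : Nondeg q X) (h0 : X ≠ ⊥) : ∃ z ∈ X, h z z ≠ 0 := by
  obtain ⟨x, hx, hx0⟩ := Submodule.exists_mem_ne_zero_of_ne_bot h0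
  obtain ⟨y, hy, hxy⟩ := hX x hx hx0
  by_contra hno
  push Not at hno
  exact hxy (h_symm hF (hermitian_polarization (qPowHom_ne_id hF) (hermSesq_isSymm hF) X
    (fun u hu => hno u hu) x hx y hy))

/-- The orthogonal complement of an anisotropic vector inside a nondegenerate subspace. -/
theorem exists_compl {X : Submodule F Vs} (hX : Nondeg q X) {v : Vs} (hv : v ∈ X) (hvv : h v v ≠ 0) :
    ∃ X' : Submodule F Vs, Nondeg q X' ∧ (∀ x ∈ X', x ∈ X ∧ h x v = 0) ∧
      Module.finrank F X ≤ Module.finrank F X' + 1 := by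
  let L : X →ₗ[F] F := (hermSesq hF n v).comp X.subtype
  have hmem : ∀ x, x ∈ L.ker.map X.subtype ↔ x ∈ X ∧ h x v = 0 := by
    intro x
    constructor
    · rintro ⟨x, hx, rfl⟩; exact ⟨x.2, LinearMap.mem_ker.mp hx⟩
    · rintro ⟨hx, he⟩; exact ⟨⟨x, hx⟩, LinearMap.mem_ker.mpr he, rfl⟩
  refine ⟨L.ker.map X.subtype, fun x hx hx0 => ?_, fun x hx => (hmem x).mp hx, ?_⟩
  · obtain ⟨hxX, hxv⟩ := (hmem x).mp hx
    obtain ⟨y, hy, hxy⟩ := hX x hxX hx0
    refine ⟨y - (h y v / h v v) • v, (hmem _).mpr ⟨X.sub_mem hy (X.smul_mem _ hv), ?_⟩, ?_⟩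
    · rw [h_sub_left hF, herm_smul_left hF, div_mul_cancel₀ _ hvv, sub_self]
    · rw [h_sub_right hF, herm_smul_right hF, hxv, mul_zero, sub_zero]; exact hxy
  · rw [(Submodule.equivMapOfInjective _ X.subtype_injective L.ker).finrank_eq.symm,
      ← L.finrank_range_add_finrank_ker]
    have := L.range.finrank_le
    rw [Module.finrank_self] at this
    omega

/-- A singular vector orthogonal to an anisotropic one. -/
theorem exists_singular {X : Submodule F Vs} (hX : Nondeg q X) (hdim : 2 ≤ Module.finrank F X) :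
    ∃ z ∈ X, z ≠ 0 ∧ h z z = 0 := by
  obtain ⟨a, ha, haa⟩ := exists_aniso hF hX fun e => by rw [e, finrank_bot] at hdim; omega
  obtain ⟨X', hX', hX'mem, hd⟩ := exists_compl hF hX ha haa
  obtain ⟨b, hb, hbb⟩ := exists_aniso hF hX' fun e => by rw [e, finrank_bot] at hd; omega
  obtain ⟨hbX, hba⟩ := hX'mem b hb
  obtain ⟨c, hc⟩ := exists_norm_eq (qPowHom_ne_id hF) (qPowHom_qPowHom hF) (c := -(h a a) / h b b)
    (by rw [qPowHom_apply, div_pow, q_neg hF, herm_conj hF, herm_conj hF])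
  rw [qPowHom_apply] at hc
  refine ⟨a + c • b, X.add_mem ha (X.smul_mem c hbX), fun e => haa ?_, ?_⟩
  · have := congrArg (h · a) e
    simpa only [herm_add_left hF, herm_smul_left hF, hba, mul_zero, add_zero, h_zero_left hF] using this
  · rw [herm_add_left hF, herm_add_right hF, herm_add_right hF, herm_smul_left hF, herm_smul_left hF,
      herm_smul_right hF, herm_smul_right hF, hba, h_symm hF hba, mul_zero, mul_zero, add_zero, zero_add,
      ← mul_assoc, hc, div_mul_cancel₀ _ hbb, add_neg_cancel]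

theorem exists_partner_one {X : Submodule F Vs} (hX : Nondeg q X) {e : Vs} (he : e ∈ X) (he0 : e ≠ 0)
    (hee : h e e = 0) : ∃ f ∈ X, h f f = 0 ∧ h e f = 1 := by
  obtain ⟨y, hy, hey⟩ := hX e he he0
  obtain ⟨t, ht⟩ := exists_fill hF hee (fun e' => hey (h_symm hF e'))
  refine ⟨((h e y)⁻¹ ^ q) • (y + t • e), X.smul_mem _ (X.add_mem hy (X.smul_mem t he)), ?_, ?_⟩
  · rw [herm_smul_left hF, herm_smul_right hF, ht, mul_zero, mul_zero]
  · rw [herm_smul_right hF, pow_q_pow_q hF, herm_add_right hF, herm_smul_right hF, hee, mul_zero, add_zero,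
      inv_mul_cancel₀ hey]

theorem exists_hyp {X : Submodule F Vs} (hX : Nondeg q X) (hdim : 2 ≤ Module.finrank F X) :
    ∃ e ∈ X, ∃ f ∈ X, h e e = 0 ∧ h f f = 0 ∧ h e f = 1 := by
  obtain ⟨e, he, he0, hee⟩ := exists_singular hF hX hdim
  obtain ⟨f, hf, hff, hef⟩ := exists_partner_one hF hX he he0 hee
  exact ⟨e, he, f, hf, hee, hff, hef⟩

/-- An anisotropic vector orthogonal to a given one. -/
theorem exists_aniso_orth {X : Submodule F Vs} (hX : Nondeg q X) (hdim : 3 ≤ Module.finrank F X) {v : Vs}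
    (hv : v ∈ X) : ∃ z ∈ X, h z v = 0 ∧ h z z ≠ 0 := by
  by_cases hvv : h v v = 0
  · by_cases hv0 : v = 0
    · obtain ⟨z, hz, hzz⟩ := exists_aniso hF hX fun e => by rw [e, finrank_bot] at hdim; omega
      exact ⟨z, hz, by rw [hv0, h_zero_right hF], hzz⟩
    obtain ⟨f, hf, hff, hvf⟩ := exists_partner_one hF hX hv hv0 hvv
    let L : X →ₗ[F] F × F := ((hermSesq hF n v).comp X.subtype).prod ((hermSesq hF n f).comp X.subtype)
    obtain ⟨⟨z, hz⟩, hzker, hz0⟩ := Submodule.exists_mem_ne_zero_of_ne_bot (show L.ker ≠ ⊥ from fun e => by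
      have h1 := L.finrank_range_add_finrank_ker
      have h2 : Module.finrank F L.range ≤ 2 := by simpa using L.range.finrank_le
      rw [e, finrank_bot] at h1
      omega)
    have hzv : h z v = 0 := congrArg Prod.fst (LinearMap.mem_ker.mp hzker)
    have hzf : h z f = 0 := congrArg Prod.snd (LinearMap.mem_ker.mp hzker)
    by_contra hno
    push Not at hno
    let P : Submodule F Vs :=
      { carrier := {x | x ∈ X ∧ h x v = 0}
        zero_mem' := ⟨X.zero_mem, h_zero_left hF _⟩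
        add_mem' := fun ha hb => ⟨X.add_mem ha.1 hb.1, by rw [herm_add_left hF, ha.2, hb.2, add_zero]⟩
        smul_mem' := fun c _ ha => ⟨X.smul_mem c ha.1, by rw [herm_smul_left hF, ha.2, mul_zero]⟩ }
    obtain ⟨y, hy, hzy⟩ := hX z hz fun e => hz0 (Subtype.ext e)
    have h1 := hermitian_polarization (qPowHom_ne_id hF) (hermSesq_isSymm hF) P
      (fun u hu => hno u hu.1 hu.2) z ⟨hz, hzv⟩ (y - (h y v / h f v) • f)
      ⟨X.sub_mem hy (X.smul_mem _ hf), by
        rw [h_sub_left hF, herm_smul_left hF, div_mul_cancel₀ _ (fun e => by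
          rw [h_symm hF e] at hvf; exact zero_ne_one hvf), sub_self]⟩
    rw [hermSesq_apply, h_sub_left hF, herm_smul_left hF, h_symm hF hzf, mul_zero, sub_zero] at h1
    exact hzy (h_symm hF h1)
  · obtain ⟨X', hX', hmem, hd⟩ := exists_compl hF hX hv hvv
    obtain ⟨z, hz, hzz⟩ := exists_aniso hF hX' fun e => by rw [e, finrank_bot] at hd; omega
    exact ⟨z, (hmem z hz).1, (hmem z hz).2, hzz⟩

/-- A vector with prescribed product and norm. -/
theorem exists_one {X : Submodule F Vs} (hX : Nondeg q X) (hdim : 2 ≤ Module.finrank F X) {v : Vs}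
    (hv : v ∈ X) (hv0 : v ≠ 0) (α : F) (hα : h v v ≠ 0 ∨ α ≠ 0) {r : F} (hr : r ^ q = r) :
    ∃ w ∈ X, h w v = α ∧ h w w = r := by
  obtain ⟨y, hy, hvy⟩ := hX v hv hv0
  have hyv : h y v ≠ 0 := fun e => hvy (h_symm hF e)
  obtain ⟨w₀, hw₀, hw₀v⟩ : ∃ w₀ ∈ X, h w₀ v = α :=
    ⟨(α / h y v) • y, X.smul_mem _ hy, by rw [herm_smul_left hF, div_mul_cancel₀ _ hyv]⟩
  by_cases hvv : h v v = 0
  · have hα0 : α ≠ 0 := hα.resolve_left fun h' => h' hvv
    have hvw : h v w₀ = α ^ q := by rw [← hw₀v, herm_conj hF]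
    obtain ⟨τ, hτ⟩ := exists_trace_one hF
    refine ⟨w₀ + ((r - h w₀ w₀) * τ / α ^ q) • v, X.add_mem hw₀ (X.smul_mem _ hv), ?_, ?_⟩
    · rw [herm_add_left hF, herm_smul_left hF, hvv, mul_zero, add_zero, hw₀v]
    · rw [herm_add_left hF, herm_add_right hF, herm_add_right hF, herm_smul_left hF, herm_smul_left hF,
        herm_smul_right hF, herm_smul_right hF, hvv, mul_zero, mul_zero, add_zero, hvw, hw₀v,
        div_mul_cancel₀ _ (pow_ne_zero _ hα0), div_pow, pow_q_pow_q hF, mul_pow, q_sub hF, hr,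
        herm_conj hF, div_mul_cancel₀ _ hα0]
      linear_combination (r - h w₀ w₀) * hτ
  · obtain ⟨X', hX', hmem, hd⟩ := exists_compl hF hX hv hvv
    obtain ⟨z, hz, hzz⟩ := exists_aniso hF hX' fun e => by rw [e, finrank_bot] at hd; omega
    obtain ⟨hzX, hzv⟩ := hmem z hz
    set w₁ := w₀ - (h w₀ z / h z z) • z with hw₁def
    have hw₁z : h w₁ z = 0 := by
      rw [hw₁def, h_sub_left hF, herm_smul_left hF, div_mul_cancel₀ _ hzz, sub_self]
    obtain ⟨μ, hμ⟩ := exists_norm_eq (qPowHom_ne_id hF) (qPowHom_qPowHom hF) (c := (r - h w₁ w₁) / h z z)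
      (by rw [qPowHom_apply, div_pow, q_sub hF, hr, herm_conj hF, herm_conj hF])
    rw [qPowHom_apply] at hμ
    refine ⟨w₁ + μ • z, X.add_mem (X.sub_mem hw₀ (X.smul_mem _ hzX)) (X.smul_mem _ hzX), ?_, ?_⟩
    · rw [herm_add_left hF, hw₁def, h_sub_left hF, herm_smul_left hF, herm_smul_left hF, hzv, hw₀v,
        mul_zero, mul_zero, sub_zero, add_zero]
    · rw [herm_add_left hF, herm_add_right hF, herm_add_right hF, herm_smul_left hF, herm_smul_left hF,
        herm_smul_right hF, herm_smul_right hF, hw₁z, h_symm hF hw₁z, mul_zero, mul_zero, add_zero,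
        zero_add, ← mul_assoc, hμ, div_mul_cancel₀ _ hzz, add_sub_cancel]

/-- A quasi-reflection, as a matrix. -/
theorem qr_matrix (x : Vs) (α : F) (hα : α + α ^ q + α * α ^ q * h x x = 0) :
    ∃ g : GL (Fin n) F, g ∈ Cfsg.GU n F q ∧
      (g : Matrix (Fin n) (Fin n) F).det = 1 + α * h x x ∧
      ∀ v, (g : Matrix (Fin n) (Fin n) F) *ᵥ v = v + (α * h v x) • x := by
  set M : Matrix (Fin n) (Fin n) F := 1 + vecMulVec x (α • conjVec q x) + vecMulVec x 0 with hM
  have hMv : ∀ v, M *ᵥ v = v + (α * h v x) • x := fun v => by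
    rw [hM, add_mulVec, add_mulVec, one_mulVec, vecMulVec_mulVec, vecMulVec_mulVec, smul_dotProduct,
      conjVec_dotProduct, zero_dotProduct]
    funext i; simp; ring
  have hdet : M.det = 1 + α * h x x := by
    rw [hM, det_one_add_two, smul_dotProduct, conjVec_dotProduct]
    simp
  have hne : M.det ≠ 0 := by
    rw [hdet]
    intro e
    have e' := congrArg (· ^ q) e
    simp only [q_add hF, one_pow, mul_pow, herm_conj hF, q_zero hF] at e'
    exact one_ne_zero (α := F) (by linear_combination e + α ^ q * h x x * e - h x x * hα)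
  refine ⟨Matrix.GeneralLinearGroup.mkOfDetNeZero M hne, fun u v => ?_, hdet, hMv⟩
  show h (M *ᵥ u) (M *ᵥ v) = h u v
  simp only [hMv, herm_add_left hF, herm_add_right hF, herm_smul_left hF, herm_smul_right hF,
    mul_pow, herm_conj hF v]
  linear_combination (h u x * h x v) * hα

omit hF in
theorem mem_GU_det_one {g : GL (Fin n) F} (hg : g ∈ Cfsg.GU n F q)
    (hd : (g : Matrix (Fin n) (Fin n) F).det = 1) : g ∈ suGL n F q :=
  mem_suGL_iff.mpr ⟨hg, hd⟩

theorem det_conj_mul {g : GL (Fin n) F} (hg : g ∈ Cfsg.GU n F q) :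
    (g : Matrix (Fin n) (Fin n) F).det * (g : Matrix (Fin n) (Fin n) F).det ^ q = 1 := by
  rw [← pow_succ']
  exact Classical.det_norm_one hF ⟨g, hg⟩

/-- An isometry times a quasi-reflection has determinant one. -/
theorem exists_det_fix {g : GL (Fin n) F} (hg : g ∈ Cfsg.GU n F q) {z : Vs} (hz : h z z ≠ 0) :
    ∃ r : GL (Fin n) F, g * r ∈ suGL n F q ∧
      ∃ β : F, ∀ v, (r : Matrix (Fin n) (Fin n) F) *ᵥ v = v + (β * h v z) • z := by
  set d := (g : Matrix (Fin n) (Fin n) F).det with hd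
  have hd1 : d * d ^ q = 1 := det_conj_mul hF hg
  have hd0 : d ≠ 0 := left_ne_zero_of_mul_eq_one hd1
  obtain ⟨r, hr, hrd, hrv⟩ := qr_matrix hF z ((d⁻¹ - 1) / h z z) (by
    rw [div_pow, q_sub hF, one_pow, herm_conj hF, inv_pow]
    field_simp
    linear_combination -hd1)
  refine ⟨r, mem_GU_det_one (mul_mem hg hr) ?_, _, hrv⟩
  rw [Units.val_mul, det_mul, hrd, div_mul_cancel₀ _ hz, add_sub_cancel, ← hd, mul_inv_cancel₀ hd0]

/-- The elements moving one vector to another of the same norm, compensated at `z`. -/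
theorem exists_step {a a' z : Vs} (hnorm : h a' a' = h a a) (hne : h a (a' - a) ≠ 0) (hz : h z z ≠ 0)
    (haz : h a z = 0) : ∃ g ∈ suGL n F q,
      (g : Matrix (Fin n) (Fin n) F) *ᵥ a = a' ∧ ∃ α β : F, ∀ v, h v z = 0 ∨ h (a' - a) z = 0 →
        (g : Matrix (Fin n) (Fin n) F) *ᵥ v = v + (α * h v (a' - a)) • (a' - a) + (β * h v z) • z := by
  set x := a' - a with hx
  set A := h a x with hA
  have hxx : h x x = -(A + A ^ q) := by
    rw [hA, herm_conj hF, hx]
    simp only [h_sub_left hF, h_sub_right hF, hnorm]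
    ring
  obtain ⟨g, hg, -, hgv⟩ := qr_matrix hF x A⁻¹ (by
    rw [hxx, inv_pow]
    field_simp
    ring)
  obtain ⟨r, hr, β, hrv⟩ := exists_det_fix hF hg hz
  refine ⟨g * r, hr, ?_, A⁻¹, β, fun v hv => ?_⟩
  · rw [Units.val_mul, ← mulVec_mulVec, hrv, haz, mul_zero, zero_smul, add_zero, hgv, ← hA,
      inv_mul_cancel₀ hne, one_smul, hx, add_sub_cancel]
  · rw [Units.val_mul, ← mulVec_mulVec, hrv, hgv]
    rcases hv with hv | hv
    · rw [hv, mul_zero, zero_smul, add_zero, add_zero]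
    · rw [herm_add_left hF, herm_smul_left hF, h_symm hF hv, mul_zero, add_zero, add_right_comm]

/-- Equal norm vectors are connected by at most two nice steps. -/
theorem two_step {X : Submodule F Vs} (hX : Nondeg q X) {r : F} {P : Vs → Prop}
    (hstep : ∀ s t : Vs, s ∈ X → t ∈ X → s ≠ 0 → t ≠ 0 → h s s = r → h t t = r → h s t ≠ r → P s → P t)
    {a a' : Vs} (ha : a ∈ X) (ha' : a' ∈ X) (ha0 : a ≠ 0) (ha'0 : a' ≠ 0) (hr : h a a = r)
    (hr' : h a' a' = r) (hP : P a) : P a' := by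
  by_cases hne : h a a' = r
  · by_cases hr0 : r = 0
    · subst hr0
      obtain ⟨y₁, hy₁, hay₁⟩ := hX a ha ha0
      obtain ⟨y₂, hy₂, hay₂⟩ := hX a' ha' ha'0
      obtain ⟨y, hy, h1, h2⟩ : ∃ y ∈ X, h a y ≠ 0 ∧ h a' y ≠ 0 := by
        by_cases e1 : h a' y₁ = 0
        · by_cases e2 : h a y₂ = 0
          · exact ⟨y₁ + y₂, X.add_mem hy₁ hy₂, by rwa [herm_add_right hF, e2, add_zero],
              by rwa [herm_add_right hF, e1, zero_add]⟩
          · exact ⟨y₂, hy₂, e2, hay₂⟩
        · exact ⟨y₁, hy₁, hay₁, e1⟩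
      obtain ⟨t, ht⟩ := exists_fill hF hr (fun e => h1 (h_symm hF e))
      set c := y + t • a with hc
      have hac : h a c ≠ 0 := by rwa [hc, herm_add_right hF, herm_smul_right hF, hr, mul_zero, add_zero]
      have hca' : h c a' ≠ 0 := by
        rw [hc, herm_add_left hF, herm_smul_left hF, hne, mul_zero, add_zero]
        exact fun e => h2 (h_symm hF e)
      have hc0 : c ≠ 0 := fun e => hac (by rw [e, h_zero_right hF])
      have hcX : c ∈ X := X.add_mem hy (X.smul_mem t ha)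
      exact hstep c a' hcX ha' hc0 ha'0 ht hr' hca' (hstep a c ha hcX ha0 hc0 hr ht hac hP)
    · obtain ⟨ω, hω, hω1, hω0⟩ := exists_norm_one hF
      have hn : h (ω • a) (ω • a) = r := by
        rw [herm_smul_left hF, herm_smul_right hF, hr, ← mul_assoc, hω, one_mul]
      refine hstep (ω • a) a' (X.smul_mem _ ha) ha' (smul_ne_zero hω0 ha0) ha'0 hn hr' ?_
        (hstep a (ω • a) ha (X.smul_mem _ ha) ha0 (smul_ne_zero hω0 ha0) hr hn ?_ hP)
      · rw [herm_smul_left hF, hne]
        exact fun e => hω1 (mul_right_cancel₀ hr0 (by rw [e, one_mul]))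
      · rw [herm_smul_right hF, hr]
        exact fun e => hω1 (q_inj hF (by rw [one_pow]; exact mul_right_cancel₀ hr0 (by rw [e, one_mul])))
  · exact hstep a a' ha ha' ha0 ha'0 hr hr' hne hP

variable {H : Subgroup (GL (Fin n) F)}

omit hF

/-- `H` has an element moving `a` to `b` and fixing what is orthogonal to `X`. -/
def Moves (q : ℕ) (H : Subgroup (GL (Fin n) F)) (X : Submodule F Vs) (a b : Vs) : Prop :=
  ∃ g ∈ H, (g : Matrix (Fin n) (Fin n) F) *ᵥ a = b ∧
    ∀ x : Vs, (∀ y ∈ X, Cfsg.hermForm n F q x y = 0) → (g : Matrix (Fin n) (Fin n) F) *ᵥ x = x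

theorem Moves.trans {X : Submodule F Vs} {a b c : Vs} (h1 : Moves q H X a b) (h2 : Moves q H X b c) :
    Moves q H X a c := by
  obtain ⟨g, hg, hga, hgx⟩ := h1
  obtain ⟨g', hg', hga', hgx'⟩ := h2
  refine ⟨g' * g, mul_mem hg' hg, ?_, fun x hx => ?_⟩
  · rw [Units.val_mul, ← mulVec_mulVec, hga, hga']
  · rw [Units.val_mul, ← mulVec_mulVec, hgx x hx, hgx' x hx]

include hF

theorem moves_step {X : Submodule F Vs} (hroot : ∀ x ∈ X, h x x = 0 → x ∈ root q H) {a s : Vs} {ε : F}
    (ha : a ∈ X) (hs : s ∈ X) (hnorm : h s s = h a a) (hε : ε + ε ^ q = 0) (hε0 : ε ≠ 0)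
    (has : h a s = h a a + ε) : Moves q H X a s := by
  have hsa : h s a = h a a + ε ^ q := by rw [← herm_conj hF a s, has, q_add hF, herm_conj hF]
  have hxx : h (s - a) (s - a) = 0 := by
    simp only [h_sub_left hF, h_sub_right hF, hnorm, has, hsa]
    linear_combination -hε
  obtain ⟨hx0, hx⟩ := hroot _ (X.sub_mem hs ha) hxx
  refine ⟨_, hx _ (inv_skew hF hε), ?_, fun v hv => ?_⟩
  · rw [T_mulVec, h_sub_right hF, has, add_sub_cancel_left, inv_mul_cancel₀ hε0, one_smul, add_sub_cancel]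
  · rw [T_mulVec, hv _ (X.sub_mem hs ha), mul_zero, zero_smul, add_zero]

/-- A vector `s` close to `b`, reachable inside `H`. -/
theorem exists_partner {X : Submodule F Vs} (hX : Nondeg q X) (hdim : 2 ≤ Module.finrank F X)
    (hex : Module.finrank F X = 2 → 3 ≤ q)
    (hroot : ∀ x ∈ X, h x x = 0 → x ∈ root q H)
    (heich : ∀ z ∈ X, ∀ c ∈ X, ∀ g ∈ suGL n F q,
      (∀ x : Vs, ∃ y ∈ X, (g : Matrix (Fin n) (Fin n) F) *ᵥ x = x + y) →
      (∀ x : Vs, h x z = 0 → h x c = 0 → (g : Matrix (Fin n) (Fin n) F) *ᵥ x = x) → g ∈ H)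
    {b : Vs} (hb : b ∈ X) (hb0 : b ≠ 0) {δ : F} (hδ : δ + δ ^ q = 0) (hδ0 : δ ≠ 0) :
    ∃ ε : F, ∃ s ∈ X, ε + ε ^ q = 0 ∧ ε + δ ≠ 0 ∧ s ≠ b ∧ s ≠ 0 ∧ h s s = h b b ∧
      h b s = h b b + ε ∧ Moves q H X b s := by
  set r := h b b with hr
  have hrr : r ^ q = r := herm_conj hF b b
  by_cases hq : 3 ≤ q
  · obtain ⟨ε, hε, hε0, hεδ⟩ := exists_fixed_skew_ne hF hq hδ hδ0
    obtain ⟨s, hs, hsb, hss⟩ := exists_one hF hX hdim hb hb0 (r + ε ^ q)
      (by
        by_cases h0 : r = 0
        · exact Or.inr (by rw [h0, zero_add]; exact pow_ne_zero _ hε0)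
        · exact Or.inl h0) hrr
    have hbs : h b s = r + ε := by rw [← herm_conj hF s b, hsb, q_add hF, hrr, pow_q_pow_q hF]
    refine ⟨ε, s, hs, hε, hεδ, fun e => hε0 ?_, fun e => hε0 ?_, hss, hbs,
      moves_step hF hroot hb hs hss hε hε0 hbs⟩
    · rw [e, ← hr] at hbs; linear_combination -hbs
    · rw [e, h_zero_right hF] at hbs
      rw [e, h_zero_right hF] at hss
      linear_combination -hbs + hss
  have hq2 : q = 2 := by have := two_le_of_card_sq hF; omega
  have hd3 : 3 ≤ Module.finrank F X := by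
    rcases Nat.lt_or_ge (Module.finrank F X) 3 with h' | h'
    · exact absurd (hex (by omega)) hq
    · exact h'
  have h2 : (2 : F) = 0 := by
    have h4 : Fintype.card F = 4 := by rw [hF, hq2]; norm_num
    have := FiniteField.cast_card_eq_zero F
    rw [h4] at this
    push_cast at this
    exact mul_self_eq_zero.mp (show (2 : F) * 2 = 0 by linear_combination this)
  by_cases hr0 : r = 0
  · obtain ⟨ω, hω, hω1, hω0⟩ := exists_norm_one hF
    obtain ⟨f, hf, hff, hbf⟩ := exists_partner_one hF hX hb hb0 hr0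
    have hfb : h f b = 1 := by rw [← herm_conj hF b f, hbf, one_pow]
    let L : X →ₗ[F] F × F := ((hermSesq hF n b).comp X.subtype).prod ((hermSesq hF n f).comp X.subtype)
    obtain ⟨⟨z, hz⟩, hzker, hz0⟩ := Submodule.exists_mem_ne_zero_of_ne_bot (show L.ker ≠ ⊥ from fun e => by
      have h1 := L.finrank_range_add_finrank_ker
      have h2 : Module.finrank F L.range ≤ 2 := by simpa using L.range.finrank_le
      rw [e, finrank_bot] at h1
      omega)
    have hzb : h z b = 0 := congrArg Prod.fst (LinearMap.mem_ker.mp hzker)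
    have hzf : h z f = 0 := congrArg Prod.snd (LinearMap.mem_ker.mp hzker)
    have hω2 : ω * ω + ω + 1 = 0 := by
      have h3 : ω * (ω * ω) = 1 := by rw [← sq, ← hq2]; exact hω
      exact (mul_eq_zero.mp (show (ω - 1) * (ω * ω + ω + 1) = 0 by linear_combination h3)).resolve_left
        (sub_ne_zero.mpr hω1)
    obtain ⟨w, hw, hwb, hwf, hww⟩ : ∃ w ∈ X, h w b = 0 ∧ h w f = 0 ∧ h w w = 1 := by
      -- one step of orthogonalisation shows that `z` may be assumed anisotropic
      by_cases hzz : h z z = 0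
      · obtain ⟨y, hy, hzy⟩ := hX z hz fun e => hz0 (Subtype.ext e)
        set y' := y - h y f • b - h y b • f with hy'
        have hy'b : h y' b = 0 := by
          rw [hy', h_sub_left hF, h_sub_left hF, herm_smul_left hF, herm_smul_left hF, ← hr, hr0, hfb]; ring
        have hy'f : h y' f = 0 := by
          rw [hy', h_sub_left hF, h_sub_left hF, herm_smul_left hF, herm_smul_left hF, hbf, hff]; ring
        have hzy' : h z y' ≠ 0 := by
          rw [hy', h_sub_right hF, h_sub_right hF, herm_smul_right hF, herm_smul_right hF, hzb, hzf]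
          simpa using hzy
        obtain ⟨τ, hτ⟩ := exists_trace_one hF
        by_cases hyy : h y' y' = 0
        · refine ⟨z + (τ / h z y') ^ q • y', X.add_mem hz (X.smul_mem _
            (X.sub_mem (X.sub_mem hy (X.smul_mem _ hb)) (X.smul_mem _ hf))), ?_, ?_, ?_⟩
          · rw [herm_add_left hF, herm_smul_left hF, hzb, hy'b, mul_zero, add_zero]
          · rw [herm_add_left hF, herm_smul_left hF, hzf, hy'f, mul_zero, add_zero]
          · rw [herm_add_left hF, herm_add_right hF, herm_add_right hF, herm_smul_left hF,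
              herm_smul_left hF, herm_smul_right hF, herm_smul_right hF, hzz, hyy, pow_q_pow_q hF,
              div_mul_cancel₀ _ hzy', ← herm_conj hF z y', ← mul_pow, div_mul_cancel₀ _ hzy']
            linear_combination hτ
        · obtain ⟨c, hc⟩ := exists_norm_eq (qPowHom_ne_id hF) (qPowHom_qPowHom hF) (c := (h y' y')⁻¹)
            (by rw [qPowHom_apply, inv_pow, herm_conj hF])
          rw [qPowHom_apply] at hc
          refine ⟨c • y', X.smul_mem _
            (X.sub_mem (X.sub_mem hy (X.smul_mem _ hb)) (X.smul_mem _ hf)), ?_, ?_, ?_⟩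
          · rw [herm_smul_left hF, hy'b, mul_zero]
          · rw [herm_smul_left hF, hy'f, mul_zero]
          · rw [herm_smul_left hF, herm_smul_right hF, ← mul_assoc, hc, inv_mul_cancel₀ hyy]
      · obtain ⟨c, hc⟩ := exists_norm_eq (qPowHom_ne_id hF) (qPowHom_qPowHom hF) (c := (h z z)⁻¹)
          (by rw [qPowHom_apply, inv_pow, herm_conj hF])
        rw [qPowHom_apply] at hc
        refine ⟨c • z, X.smul_mem _ hz, ?_, ?_, ?_⟩
        · rw [herm_smul_left hF, hzb, mul_zero]
        · rw [herm_smul_left hF, hzf, mul_zero]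
        · rw [herm_smul_left hF, herm_smul_right hF, ← mul_assoc, hc, inv_mul_cancel₀ hzz]
    have h11 : (1 : F) + 1 ^ q = 0 := by rw [one_pow]; linear_combination h2
    have hωq : ω ^ q = ω * ω := by rw [hq2, sq]
    set s₂ := b + ω • f + w with hs₂
    have hs₂X : s₂ ∈ X := X.add_mem (X.add_mem hb (X.smul_mem _ hf)) hw
    have hs₂n : h s₂ s₂ = 0 := by
      rw [hs₂]
      simp only [herm_add_left hF, herm_add_right hF, herm_smul_left hF, herm_smul_right hF, ← hr, hr0,
        hbf, hfb, hff, hwb, hwf, h_symm hF hwb, h_symm hF hwf, hww, hωq]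
      linear_combination hω2
    refine ⟨0, ω • b, X.smul_mem _ hb, by rw [q_zero hF, add_zero], by rwa [zero_add],
      fun e => hω1 ?_, smul_ne_zero hω0 hb0, ?_, ?_,
      ((moves_step hF hroot hb hf (by rw [hff, ← hr, hr0]) h11 one_ne_zero
          (by rw [hbf, ← hr, hr0, zero_add])).trans
        (moves_step hF hroot hf hs₂X (by rw [hs₂n, hff]) h11 one_ne_zero ?_)).trans
        (moves_step hF hroot hs₂X (X.smul_mem _ hb) ?_ h11 one_ne_zero ?_)⟩
    · exact smul_left_injective F hb0 (show ω • b = (1 : F) • b by rw [one_smul, e])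
    · rw [herm_smul_left hF, herm_smul_right hF, ← hr, hr0, mul_zero, mul_zero]
    · rw [herm_smul_right hF, ← hr, hr0, mul_zero, add_zero]
    · rw [hs₂, herm_add_right hF, herm_add_right hF, herm_smul_right hF, hfb, hff, h_symm hF hwf]; ring
    · rw [hs₂n, herm_smul_left hF, herm_smul_right hF, ← hr, hr0, mul_zero, mul_zero]
    · rw [hs₂n, herm_smul_right hF, hs₂, herm_add_left hF, herm_add_left hF, herm_smul_left hF, ← hr, hr0,
        hfb, hwb, hωq]
      linear_combination (ω - 1) * hω2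
  · obtain ⟨X', hX', hmem, hd⟩ := exists_compl hF hX hb (show h b b ≠ 0 from hr0)
    obtain ⟨z, hz, hz0, hzz⟩ := exists_singular hF hX' (by omega)
    obtain ⟨hzX, hzb⟩ := hmem z hz
    obtain ⟨τ, hτ⟩ := exists_trace_one hF
    set c := (-r⁻¹) • b with hc
    have hcz : h c z = 0 := by rw [hc, herm_smul_left hF, h_symm hF hzb, mul_zero]
    set d := -(h c c) * τ with hd
    have hdrel : d ^ q + d + h c c = 0 := by
      rw [hd, mul_pow, q_neg hF, herm_conj hF]
      linear_combination -(h c c) * hτ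
    refine ⟨0, b + -z, X.add_mem hb (X.neg_mem hzX), by rw [q_zero hF, add_zero], by rwa [zero_add],
      fun e => hz0 (neg_eq_zero.mp (add_left_cancel (a := b) (by rw [e, add_zero]))), fun e => hr0 ?_, ?_, ?_,
      glMk (eichlerMatrix q z c d) (det_eichlerMatrix hF d hzz hcz),
      heich z hzX c (X.smul_mem _ hb) _ (glMk_mem _ _ (eichlerMatrix_preserves hF hzz hcz hdrel))
        (fun x => ⟨-(h x z • c) + (h x c + d * h x z) • z,
          X.add_mem (X.neg_mem (X.smul_mem _ (X.smul_mem _ hb))) (X.smul_mem _ hzX),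
          by rw [glMk_val, eichlerMatrix_mulVec]; abel⟩)
        (fun x h1 h2 => by rw [glMk_val, eichlerMatrix_mulVec, h1, h2]; simp), ?_, fun x hx => ?_⟩
    · rw [eq_neg_of_add_eq_zero_left e, neg_neg] at hr; rw [hr, hzz]
    · simp only [← sub_eq_add_neg, h_sub_left hF, h_sub_right hF, hzz, hzb, h_symm hF hzb, ← hr]; ring
    · rw [← sub_eq_add_neg, h_sub_right hF, h_symm hF hzb, ← hr]; ring
    · rw [glMk_val, eichlerMatrix_mulVec, h_symm hF hzb, hc, herm_smul_right hF, ← hr]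
      rw [q_neg hF, inv_pow, hrr, neg_mul, inv_mul_cancel₀ hr0]
      simp
    · rw [glMk_val, eichlerMatrix_mulVec, hx z hzX, hx c (X.smul_mem _ hb)]
      simp

/-- Nondegenerate subspaces of the same dimension are isometric. -/
theorem exists_isometry {X Y : Submodule F Vs} (hXY : Module.finrank F X = Module.finrank F Y)
    (hX : Nondeg q X) (hY : Nondeg q Y) :
    ∃ e : X ≃ₗ[F] Y, ∀ u v, h (e u : Vs) (e v) = h (u : Vs) v := by
  obtain ⟨l, hl⟩ : ∃ l, n = Module.finrank F X + l :=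
    Nat.exists_eq_add_of_le (by simpa using X.finrank_le)
  generalize hk : Module.finrank F X = k at hl hXY
  subst hl
  have hnd : ∀ {Z : Submodule F (Fin (k + l) → F)}, Nondeg q Z → ∀ u ∈ Z,
      (∀ v ∈ Z, Cfsg.hermForm (k + l) F q u v = 0) → u = 0 := fun hZ u hu hu' => by
    by_contra h0
    obtain ⟨v, hv, hne⟩ := hZ u hu h0
    exact hne (hu' v hv)
  obtain ⟨g₁, hg₁⟩ := UnitaryStab.exists_move hF k l X hk (hnd hX)
  obtain ⟨g₂, hg₂⟩ := UnitaryStab.exists_move hF k l Y hXY.symm (hnd hY)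
  have hmap : X.map (g₂⁻¹ * g₁).1.toLinearMap = Y := by
    refine SetLike.ext fun v => ?_
    constructor
    · rintro ⟨x, hx, rfl⟩
      rw [hg₂]
      show g₂.1 (g₂.1.symm (g₁.1 x)) ∈ _
      rw [LinearEquiv.apply_symm_apply]
      exact (hg₁ x).mp hx
    · intro hv
      refine ⟨g₁.1.symm (g₂.1 v), (hg₁ _).mpr (by rw [LinearEquiv.apply_symm_apply]; exact (hg₂ v).mp hv), ?_⟩
      show g₂.1.symm (g₁.1 (g₁.1.symm (g₂.1 v))) = v
      rw [LinearEquiv.apply_symm_apply, LinearEquiv.symm_apply_apply]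
  refine ⟨((g₂⁻¹ * g₁).1.submoduleMap X).trans (LinearEquiv.ofEq _ _ hmap), fun u v => ?_⟩
  exact (g₂⁻¹ * g₁).2 u v

end Cfsg.Agent.Lib.UnitaryMax
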