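import Cfsg.Agent.Lib.UnitaryMax.FrameEq
import Cfsg.Agent.Lib.UnitaryMax.Comp

/-!
Overgroups of the monomial subgroup of the special unitary group that contain a root subgroup.
-/

set_option autoImplicit false
set_option linter.unusedSectionVars false

namespace Cfsg.Agent.Lib.UnitaryMax

open Matrix Cfsg.Agent.Lib.Forms Cfsg.Agent.Lib.FormMax

variable {F : Type*} [Field F] [Fintype F] {n q : ℕ}

local notation "Vs" => (Fin n → F)
local notation "h" => Cfsg.hermForm n F q

/-- `g` permutes the coordinate lines. -/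
def IsMono (g : GL (Fin n) F) : Prop :=
  ∀ l : Fin n, ∃ (o : Fin n) (c : F), (g : Matrix (Fin n) (Fin n) F) *ᵥ Pi.single l 1 = c • Pi.single o 1

/-- `H` contains all monomial elements of the special unitary group. -/
def ContainsMono (q : ℕ) (H : Subgroup (GL (Fin n) F)) : Prop :=
  ∀ g ∈ suGL n F q, IsMono g → g ∈ H

theorem IsMono.mul {g g' : GL (Fin n) F} (hg : IsMono g) (hg' : IsMono g') : IsMono (g * g') := by
  intro l
  obtain ⟨o, c, hc⟩ := hg' l
  obtain ⟨o', c', hc'⟩ := hg o
  exact ⟨o', c * c', by rw [Units.val_mul, ← mulVec_mulVec, hc, mulVec_smul, hc', smul_smul]⟩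

theorem single_ne_zero' (l : Fin n) : (Pi.single l 1 : Vs) ≠ 0 := fun e => by
  simpa using congrFun e l

theorem IsMono.inv {g : GL (Fin n) F} (hg : IsMono g) : IsMono g⁻¹ := by
  choose π c hc using hg
  have hc0 : ∀ l, c l ≠ 0 := fun l e => single_ne_zero' (F := F) l (by
    rw [← inv_mulVec_mulVec g (Pi.single l 1), hc, e, zero_smul, mulVec_zero])
  have hinj : Function.Injective π := by
    intro a b e
    by_contra hne
    have h1 : (g : Matrix (Fin n) (Fin n) F) *ᵥ (c b • Pi.single a 1 - c a • Pi.single b 1) = 0 := by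
      rw [mulVec_sub, mulVec_smul, mulVec_smul, hc, hc, e, smul_smul, smul_smul, mul_comm (c b), sub_self]
    have h2 := congrArg (((g⁻¹ : GL (Fin n) F) : Matrix (Fin n) (Fin n) F) *ᵥ ·) h1
    simp only [inv_mulVec_mulVec, mulVec_zero] at h2
    have h3 := congrFun h2 a
    simp [Pi.single_eq_of_ne hne] at h3
    exact hc0 b h3
  intro o
  obtain ⟨l, rfl⟩ := (Finite.injective_iff_surjective.mp hinj) o
  refine ⟨l, (c l)⁻¹, ?_⟩
  have h1 := congrArg (((g⁻¹ : GL (Fin n) F) : Matrix (Fin n) (Fin n) F) *ᵥ ·) (hc l)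
  simp only [inv_mulVec_mulVec, mulVec_smul] at h1
  conv_rhs => rw [h1]
  rw [inv_smul_smul₀ (hc0 l)]

theorem herm_single_right (hq : q ≠ 0) (x : Vs) (l : Fin n) (c : F) :
    h x (Pi.single l c) = x l * c ^ q := by
  rw [Cfsg.hermForm, Finset.sum_eq_single l (fun b _ hb => by rw [Pi.single_eq_of_ne hb, zero_pow hq, mul_zero])
    (by simp), Pi.single_eq_same]

theorem herm_single_left (x : Vs) (l : Fin n) (c : F) : h (Pi.single l c) x = c * x l ^ q := by
  rw [Cfsg.hermForm, Finset.sum_eq_single l (fun b _ hb => by rw [Pi.single_eq_of_ne hb, zero_mul])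
    (by simp), Pi.single_eq_same]

theorem sum_single (x : Vs) : x = ∑ l, x l • (Pi.single l 1 : Vs) := by
  funext k; simp [Finset.sum_apply, Pi.single_apply]

theorem herm_self_eq_sum (x : Vs) : h x x = ∑ l, x l * x l ^ q := rfl

theorem sign_norm_one (hF : Fintype.card F = q ^ 2) (σ : Equiv.Perm (Fin n)) :
    (((Equiv.Perm.sign σ : ℤ) : F)) * ((Equiv.Perm.sign σ : ℤ) : F) ^ q = 1 := by
  rcases Int.units_eq_one_or (Equiv.Perm.sign σ) with e | e <;> rw [e]
  · simp
  · simp only [Units.val_neg, Units.val_one, Int.cast_neg, Int.cast_one, q_neg hF, one_pow]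
    ring

variable {H : Subgroup (GL (Fin n) F)}

/-- The monomial elements. -/
theorem exists_monoElt (hM : ContainsMono q H) (σ : Equiv.Perm (Fin n)) (d : Vs)
    (hd : ∀ l, d l * d l ^ q = 1) (hdet : (∏ l, d l) * ((Equiv.Perm.sign σ : ℤ) : F) = 1) :
    ∃ g ∈ H, g ∈ suGL n F q ∧ IsMono g ∧
      ∀ x m, ((g : Matrix (Fin n) (Fin n) F) *ᵥ x) m = d m * x (σ m) := by
  classical
  set M : Matrix (Fin n) (Fin n) F := Matrix.diagonal d * σ.permMatrix F with hMdef
  have hMv : ∀ x m, (M *ᵥ x) m = d m * x (σ m) := fun x m => by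
    rw [hMdef, ← mulVec_mulVec, mulVec_diagonal, Matrix.permMatrix_mulVec]; rfl
  have hdet1 : M.det = 1 := by rw [hMdef, det_mul, det_diagonal, Matrix.det_permutation]; exact hdet
  have hpres : ∀ x y, h (M *ᵥ x) (M *ᵥ y) = h x y := by
    intro x y
    simp only [Cfsg.hermForm, hMv, mul_pow]
    rw [← Equiv.sum_comp σ (fun l => x l * y l ^ q)]
    refine Finset.sum_congr rfl fun m _ => ?_
    linear_combination (x (σ m) * y (σ m) ^ q) * hd m
  have hmono : IsMono (glMk M hdet1) := fun l => by
    refine ⟨σ.symm l, d (σ.symm l), funext fun m => ?_⟩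
    rw [glMk_val, hMv, Pi.smul_apply, smul_eq_mul]
    rcases eq_or_ne m (σ.symm l) with rfl | hne
    · rw [Equiv.apply_symm_apply, Pi.single_eq_same, Pi.single_eq_same]
    · rw [Pi.single_eq_of_ne hne, Pi.single_eq_of_ne (fun e => hne (by rw [← e, Equiv.symm_apply_apply])),
        mul_zero, mul_zero]
  have hK := glMk_mem M hdet1 hpres
  exact ⟨_, hM _ hK hmono, hK, hmono, fun x m => by rw [glMk_val, hMv]⟩

/-- Diagonal elements. -/
theorem exists_diagElt (hM : ContainsMono q H) (d : Vs) (hd : ∀ l, d l * d l ^ q = 1) (hdet : ∏ l, d l = 1) :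
    ∃ g ∈ H, g ∈ suGL n F q ∧ IsMono g ∧
      ∀ x m, ((g : Matrix (Fin n) (Fin n) F) *ᵥ x) m = d m * x m :=
  exists_monoElt hM 1 d hd (by simp [hdet])

/-- Two-point diagonal elements. -/
theorem exists_torus (hF : Fintype.card F = q ^ 2) (hM : ContainsMono q H) {k o : Fin n} (hko : k ≠ o) {ω : F}
    (hω : ω * ω ^ q = 1) :
    ∃ g ∈ H, g ∈ suGL n F q ∧ IsMono g ∧ (∀ x, ((g : Matrix (Fin n) (Fin n) F) *ᵥ x) k = ω * x k) ∧
      (∀ x, ((g : Matrix (Fin n) (Fin n) F) *ᵥ x) o = ω ^ q * x o) ∧
      ∀ x m, m ≠ k → m ≠ o → ((g : Matrix (Fin n) (Fin n) F) *ᵥ x) m = x m := by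
  classical
  set d : Vs := Function.update (Function.update 1 k ω) o (ω ^ q) with hd
  have hdk : d k = ω := by simp [hd, Function.update_of_ne hko]
  have hdo : d o = ω ^ q := by simp [hd]
  have hdm : ∀ m, m ≠ k → m ≠ o → d m = 1 := fun m h1 h2 => by
    simp [hd, Function.update_of_ne h1, Function.update_of_ne h2]
  obtain ⟨g, hg, hgK, hgm, hgv⟩ := exists_diagElt hM d (fun l => by
      rcases eq_or_ne l k with rfl | h1
      · rw [hdk, hω]
      rcases eq_or_ne l o with rfl | h2
      · rw [hdo, pow_q_pow_q hF, mul_comm, hω]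
      · rw [hdm l h1 h2, one_pow, mul_one]) (by
      rw [← Finset.prod_subset (Finset.subset_univ {k, o}) (fun l _ hl => by
        simp only [Finset.mem_insert, Finset.mem_singleton, not_or] at hl
        exact hdm l hl.1 hl.2), Finset.prod_pair hko, hdk, hdo, hω])
  exact ⟨g, hg, hgK, hgm, fun x => by rw [hgv, hdk], fun x => by rw [hgv, hdo],
    fun x m h1 h2 => by rw [hgv, hdm m h1 h2, one_mul]⟩

/-- A monomial element realising a given map of coordinates with given phases at all but one place. -/
theorem exists_phased (hF : Fintype.card F = q ^ 2) (hM : ContainsMono q H) (σ : Equiv.Perm (Fin n)) (o : Fin n)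
    (d : Vs) (hd : ∀ l, l ≠ o → d l * d l ^ q = 1) :
    ∃ g ∈ H, g ∈ suGL n F q ∧ IsMono g ∧
      (∀ x m, m ≠ o → ((g : Matrix (Fin n) (Fin n) F) *ᵥ x) m = d m * x (σ m)) ∧
      ∃ c : F, c * c ^ q = 1 ∧ ∀ x, ((g : Matrix (Fin n) (Fin n) F) *ᵥ x) o = c * x (σ o) := by
  classical
  set P : F := ∏ l ∈ Finset.univ.erase o, d l with hP
  have hP1 : P * P ^ q = 1 := by
    rw [hP, ← Finset.prod_pow, ← Finset.prod_mul_distrib]
    exact Finset.prod_eq_one fun l hl => hd l (Finset.ne_of_mem_erase hl)
  set c : F := P ^ q * ((Equiv.Perm.sign σ : ℤ) : F) with hc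
  have hs2 : ((Equiv.Perm.sign σ : ℤ) : F) * ((Equiv.Perm.sign σ : ℤ) : F) = 1 := by
    rcases Int.units_eq_one_or (Equiv.Perm.sign σ) with e | e <;> rw [e] <;> simp
  have hc1 : c * c ^ q = 1 := by
    rw [hc, mul_pow, pow_q_pow_q hF]
    linear_combination hP1 + (P ^ q * P) * sign_norm_one hF σ
  set d' : Vs := Function.update d o c with hd'
  obtain ⟨g, hg, hgK, hgm, hgv⟩ := exists_monoElt hM σ d' (fun l => by
      rcases eq_or_ne l o with rfl | hl
      · simp [hd', hc1]
      · simp [hd', Function.update_of_ne hl, hd l hl]) (by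
      rw [← Finset.mul_prod_erase Finset.univ d' (Finset.mem_univ o),
        Finset.prod_congr rfl (fun l hl => Function.update_of_ne (Finset.ne_of_mem_erase hl) c d),
        ← hP, show d' o = c from Function.update_self _ _ _, hc]
      linear_combination hP1 + (P ^ q * P) * hs2)
  exact ⟨g, hg, hgK, hgm, fun x m hm => by rw [hgv, hd', Function.update_of_ne hm], c, hc1,
    fun x => by rw [hgv, hd', Function.update_self]⟩

variable (hF : Fintype.card F = q ^ 2)
include hF

/-- Transitivity on vectors of nonzero norm in a hyperbolic plane, by root elements. -/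
theorem moves_hyp {e f : Vs} (he : h e e = 0) (hf : h f f = 0) (hef : h e f = 1)
    (hre : e ∈ root q H) (hrf : f ∈ root q H) {a b a' b' : F} (hr : a * b ^ q + b * a ^ q ≠ 0)
    (hrr : a' * b' ^ q + b' * a' ^ q = a * b ^ q + b * a ^ q) :
    Moves q H (Submodule.span F {e, f}) (a • e + b • f) (a' • e + b' • f) := by
  classical
  have hfe : h f e = 1 := by rw [← herm_conj hF e f, hef, one_pow]
  have heX : e ∈ Submodule.span F ({e, f} : Set Vs) := Submodule.subset_span (by simp)
  have hfX : f ∈ Submodule.span F ({e, f} : Set Vs) := Submodule.subset_span (by simp)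
  have stepA : ∀ (a b c : F), c + c ^ q = 0 →
      Moves q H (Submodule.span F {e, f}) (a • e + b • f) ((a + c * b) • e + b • f) := by
    intro a b c hc
    refine ⟨_, hre.2 c hc, ?_, fun x hx => ?_⟩
    · rw [T_mulVec, herm_add_left hF, herm_smul_left hF, herm_smul_left hF, he, hfe]
      module
    · rw [T_mulVec, hx e heX, mul_zero, zero_smul, add_zero]
  have stepB : ∀ (a b c : F), c + c ^ q = 0 →
      Moves q H (Submodule.span F {e, f}) (a • e + b • f) (a • e + (b + c * a) • f) := by
    intro a b c hc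
    refine ⟨_, hrf.2 c hc, ?_, fun x hx => ?_⟩
    · rw [T_mulVec, herm_add_left hF, herm_smul_left hF, herm_smul_left hF, hef, hf]
      module
    · rw [T_mulVec, hx f hfX, mul_zero, zero_smul, add_zero]
  set r := a * b ^ q + b * a ^ q with hrdef
  have hb : ∀ {a b : F}, a * b ^ q + b * a ^ q = r → b ≠ 0 := fun hab e0 => hr (by
    rw [← hab, e0, q_zero hF, mul_zero, zero_mul, add_zero])
  have round : ∀ (a b m : F), a * b ^ q + b * a ^ q = r → m ^ q ≠ m →
      ∃ a₁, Moves q H (Submodule.span F {e, f}) (a • e + b • f) (a₁ • e + (m * b) • f) ∧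
        a₁ * (m * b) ^ q + (m * b) * a₁ ^ q = r := by
    intro a b m hab hm
    have hb0 := hb hab
    set z := a / b with hz
    set T0 := z + z ^ q with hT0
    have haz : a = z * b := by rw [hz, div_mul_cancel₀ _ hb0]
    have hrT : r = b * b ^ q * T0 := by rw [← hab, hT0, haz, mul_pow]; ring
    have hT0ne : T0 ≠ 0 := fun e0 => hr (by rw [hrT, e0, mul_zero])
    have hT0q : T0 ^ q = T0 := by rw [hT0, q_add hF, pow_q_pow_q hF, add_comm]
    set c := (m - m ^ q) / T0 with hc
    have hc0 : c ≠ 0 := div_ne_zero (sub_ne_zero.mpr hm.symm) hT0ne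
    have hcs : c + c ^ q = 0 := by rw [hc, div_pow, q_sub hF, pow_q_pow_q hF, hT0q, ← add_div]; ring
    set z' := (m - 1) / c with hz'
    have hz'T : z' + z' ^ q = T0 := by
      rw [hz', div_pow, q_sub hF, one_pow, eq_neg_of_add_eq_zero_right hcs, div_neg, ← sub_eq_add_neg,
        ← sub_div, sub_sub_sub_cancel_right, hc, div_div_eq_mul_div, mul_div_cancel_left₀ _ (sub_ne_zero.mpr hm.symm)]
    have hc1 : (z' - z) + (z' - z) ^ q = 0 := by rw [q_sub hF]; linear_combination hz'T - hT0
    refine ⟨z' * b, ?_, ?_⟩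
    · have e1 : a + (z' - z) * b = z' * b := by rw [haz]; ring
      have h1 := stepA a b (z' - z) hc1
      rw [e1] at h1
      have h2 := stepB (z' * b) b c hcs
      have e2 : b + c * (z' * b) = m * b := by rw [hz', ← mul_assoc, mul_div_cancel₀ _ hc0]; ring
      rw [e2] at h2
      exact h1.trans h2
    · have hzc : c * z' = m - 1 := by rw [hz', mul_div_cancel₀ _ hc0]
      clear_value z' c T0 z
      have hzc' := congrArg (· ^ q) hzc
      simp only [mul_pow, q_sub hF, one_pow] at hzc'
      rw [mul_pow, hrT]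
      linear_combination (b * b ^ q) * (hz'T + z' * (-1 : F) * hzc' + z' ^ q * (-1 : F) * hzc) +
        (b * b ^ q * z' * z' ^ q) * hcs
  have hb' : b' ≠ 0 := hb hrr
  have hb0 : b ≠ 0 := hb rfl
  obtain ⟨w, hw⟩ := exists_moved hF
  set m := b' / b with hm
  obtain ⟨m₁, hm₁, hm₂⟩ : ∃ m₁ : F, m₁ ^ q ≠ m₁ ∧ (m / m₁) ^ q ≠ m / m₁ := by
    have hm0 : m ≠ 0 := div_ne_zero hb' hb0
    by_cases hmq : m ^ q = m
    · refine ⟨w, hw, fun e0 => hw ?_⟩
      have hw0 : w ≠ 0 := fun e1 => hw (by rw [e1, q_zero hF])
      rw [div_pow, hmq, div_eq_div_iff (pow_ne_zero _ hw0) hw0] at e0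
      exact mul_left_cancel₀ hm0 e0.symm
    · have hm1 : (m + 1) ^ q ≠ m + 1 := fun e0 => hmq (by
        rw [q_add hF, one_pow] at e0; exact add_right_cancel e0)
      refine ⟨m + 1, hm1, fun e0 => hmq ?_⟩
      have hne : m + 1 ≠ 0 := fun e1 => hm1 (by rw [e1, q_zero hF])
      rw [div_pow, q_add hF, one_pow, div_eq_div_iff (by rw [← one_pow (M := F) q, ← q_add hF]; exact pow_ne_zero _ hne) hne] at e0
      linear_combination e0
  obtain ⟨a₁, hA, hA'⟩ := round a b m₁ rfl hm₁
  obtain ⟨a₂, hB, hB'⟩ := round a₁ (m₁ * b) (m / m₁) hA' hm₂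
  have e2 : m / m₁ * (m₁ * b) = b' := by
    rw [← mul_assoc, div_mul_cancel₀ _ (fun e0 => hm₁ (by rw [e0, q_zero hF])), hm, div_mul_cancel₀ _ hb0]
  rw [e2] at hB hB'
  set c := (a' - a₂) / b' with hc
  have hcs : c + c ^ q = 0 := by
    rw [hc, div_pow, q_sub hF]
    field_simp
    linear_combination hrr - hB'
  have h3 := stepA a₂ b' c hcs
  rw [show a₂ + c * b' = a' by rw [hc, div_mul_cancel₀ _ hb']; ring] at h3
  exact (hA.trans hB).trans h3

/-- Transitivity in a plane spanned by two orthogonal vectors. -/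
theorem moves_plane {p o : Vs} (hpo : h p o = 0) (hp : h p p ≠ 0) (ho : h o o ≠ 0)
    (hroot : ∀ x y : F, h (x • p + y • o) (x • p + y • o) = 0 → x • p + y • o ∈ root q H)
    {x y x' y' : F} (hr : h (x • p + y • o) (x • p + y • o) ≠ 0)
    (hrr : h (x' • p + y' • o) (x' • p + y' • o) = h (x • p + y • o) (x • p + y • o)) :
    Moves q H (Submodule.span F {p, o}) (x • p + y • o) (x' • p + y' • o) := by
  classical
  have hop : h o p = 0 := h_symm hF hpo
  have hval : ∀ x y x' y' : F, h (x • p + y • o) (x' • p + y' • o) =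
      x * x' ^ q * h p p + y * y' ^ q * h o o := fun x y x' y' => by
    simp only [herm_add_left hF, herm_add_right hF, herm_smul_left hF, herm_smul_right hF, hpo, hop]
    ring
  obtain ⟨α, hα⟩ := exists_norm_eq (qPowHom_ne_id hF) (qPowHom_qPowHom hF) (c := -(h p p) / h o o)
    (by rw [qPowHom_apply, div_pow, q_neg hF, herm_conj hF, herm_conj hF])
  rw [qPowHom_apply, eq_div_iff ho] at hα
  have hα0 : α ≠ 0 := fun e => hp (by rw [e, zero_mul, zero_mul] at hα; exact neg_eq_zero.mp hα.symm)
  obtain ⟨ω, hω, hω1, -⟩ := exists_norm_one hF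
  set e := (1 : F) • p + α • o with hedef
  set d := h p p * (1 - ω ^ q) with hd
  have hd0 : d ≠ 0 := mul_ne_zero hp (sub_ne_zero.mpr fun e0 => hω1 (q_inj hF (by rw [one_pow, ← e0])))
  set κ := (d⁻¹) ^ q with hκ
  set f := κ • p + (κ * (α * ω)) • o with hfdef
  have he : h e e = 0 := by rw [hedef, hval, one_pow]; linear_combination hα
  have hf : h f f = 0 := by
    rw [hfdef, hval, mul_pow, mul_pow]
    linear_combination (κ * κ ^ q) * hα + (κ * κ ^ q * α * α ^ q * h o o) * hω
  have hef : h e f = 1 := by
    rw [hedef, hfdef, hval, mul_pow, mul_pow, hκ, pow_q_pow_q hF]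
    field_simp
    rw [hd]
    linear_combination ω ^ q * hα
  have hd' : ∀ x y : F, ∃ a b : F, x • p + y • o = a • e + b • f := fun x y => by
    have hκ0 : κ ≠ 0 := pow_ne_zero _ (inv_ne_zero hd0)
    have hden : α * (ω - 1) ≠ 0 := mul_ne_zero hα0 (sub_ne_zero.mpr hω1)
    refine ⟨x - (y - x * α) / (α * (ω - 1)), (y - x * α) / (α * (ω - 1)) / κ, ?_⟩
    rw [hedef, hfdef]
    match_scalars <;> field_simp <;> ring
  have hval2 : ∀ a b : F, h (a • e + b • f) (a • e + b • f) = a * b ^ q + b * a ^ q := fun a b => by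
    have hfe : h f e = 1 := by rw [← herm_conj hF e f, hef, one_pow]
    simp only [herm_add_left hF, herm_add_right hF, herm_smul_left hF, herm_smul_right hF, he, hf, hef, hfe]
    ring
  obtain ⟨a, b, hab⟩ := hd' x y
  obtain ⟨a', b', hab'⟩ := hd' x' y'
  rw [hab, hval2] at hr
  rw [hab, hab', hval2, hval2] at hrr
  obtain ⟨g, hg, hgv, hgx⟩ := moves_hyp hF he hf hef (hroot _ _ he) (hroot _ _ hf) hr hrr
  refine ⟨g, hg, by rw [hab, hab']; exact hgv, fun z hz => hgx z fun w hw => ?_⟩
  have hle : Submodule.span F ({e, f} : Set Vs) ≤ Submodule.span F ({p, o} : Set Vs) := by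
    refine Submodule.span_le.mpr ?_
    rintro v (rfl | rfl) <;>
    · exact Submodule.add_mem _ (Submodule.smul_mem _ _ (Submodule.subset_span (by simp)))
        (Submodule.smul_mem _ _ (Submodule.subset_span (by simp)))
  exact hz w (hle hw)

/-- A root vector with a zero coordinate forces everything. -/
theorem eq_suGL_of_root (hn : 4 ≤ n) (hn2 : q = 2 → 6 ≤ n) (hH : H ≤ suGL n F q) (hM : ContainsMono q H) {w : Vs}
    (hw : w ∈ root q H) {k o : Fin n} (hk : w k ≠ 0) (ho : w o = 0)
    (hfour : q = 2 → ∃ v ∈ root q H, ∃ s : Finset (Fin n), s.card = 4 ∧ ∀ l, l ∈ s ↔ v l ≠ 0) :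
    H = suGL n F q := by
  classical
  have hq0 := q_ne_zero hF
  have hko : k ≠ o := fun e => hk (e ▸ ho)
  set r := w k * w k ^ q with hr
  have hr0 : r ≠ 0 := mul_ne_zero hk (pow_ne_zero _ hk)
  set u := w - Pi.single k (w k) with hu
  have huk : u k = 0 := by simp [hu]
  have huo : u o = 0 := by simp [hu, Pi.single_eq_of_ne hko.symm, ho]
  have hun : h u u = -r := by
    rw [hu, h_sub_left hF, h_sub_right hF, h_sub_right hF, hw.1, herm_single_right hq0,
      herm_single_left, herm_single_left, Pi.single_eq_same, hr]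
    ring
  -- singular vectors in `span(e_o, u)`
  have hroot1 : ∀ x y : F, h (x • (Pi.single o 1 : Vs) + y • u) (x • (Pi.single o 1 : Vs) + y • u) = 0 →
      x • (Pi.single o 1 : Vs) + y • u ∈ root q H := by
    intro x y hxy
    simp only [herm_add_left hF, herm_add_right hF, herm_smul_left hF, herm_smul_right hF, hun,
      herm_single_right hq0, herm_single_left, Pi.single_eq_same, huo, one_pow, q_zero hF] at hxy
    rcases eq_or_ne y 0 with rfl | hy
    · rw [q_zero hF] at hxy
      have : x = 0 := by
        by_contra hx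
        exact mul_ne_zero hx (pow_ne_zero _ hx) (by linear_combination hxy)
      rw [this, zero_smul, zero_smul, add_zero]
      simpa using root_smul hF hw (0 : F)
    set θ := x / (y * w k) with hθ
    have hθ1 : θ * θ ^ q = 1 := by
      rw [hθ, div_pow, div_mul_div_comm, mul_pow, div_eq_one_iff_eq (mul_ne_zero (mul_ne_zero hy hk)
        (mul_ne_zero (pow_ne_zero _ hy) (pow_ne_zero _ hk)))]
      linear_combination hxy
    obtain ⟨g, hg, -, -, hgv, c, -, hgo⟩ := exists_phased hF hM (Equiv.swap k o) k
      (fun l => if l = o then θ else 1) (fun l _ => by split_ifs <;> simp [hθ1])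
    have h1 := root_smul hF (root_map hH hg hw) y
    convert h1 using 1
    funext m
    rcases eq_or_ne m k with rfl | hmk
    · simp [hgo, huk, ho, Pi.single_eq_of_ne hko]
    rcases eq_or_ne m o with rfl | hmo
    · have hyw : y * w k ≠ 0 := mul_ne_zero hy hk
      simp [hgv _ _ hmk, huo, Equiv.swap_apply_right, hθ]
      field_simp
    · simp [hgv _ _ hmk, Equiv.swap_apply_of_ne_of_ne hmk hmo, hu, Pi.single_eq_of_ne hmk,
        Pi.single_eq_of_ne hmo, hmo]
  -- a root vector of weight two
  obtain ⟨c, hc⟩ := exists_norm_eq (qPowHom_ne_id hF) (qPowHom_qPowHom hF) (c := -r)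
    (by rw [qPowHom_apply, q_neg hF, hr, mul_pow, pow_q_pow_q hF, mul_comm])
  rw [qPowHom_apply] at hc
  have hc0 : c ≠ 0 := fun e => hr0 (by rw [e, zero_mul] at hc; exact neg_eq_zero.mp hc.symm)
  have hwt2 : (Pi.single k (w k) + Pi.single o c : Vs) ∈ root q H := by
    obtain ⟨g, hg, hgu, hgx⟩ := moves_plane hF (p := (Pi.single o 1 : Vs)) (o := u)
      (by rw [herm_single_left, huo, q_zero hF, mul_zero])
      (by rw [herm_single_left, Pi.single_eq_same, one_pow, one_mul]; exact one_ne_zero)
      (by rw [hun]; exact neg_ne_zero.mpr hr0) hroot1 (x := 0) (y := 1) (x' := c) (y' := 0)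
      (by rw [zero_smul, zero_add, one_smul, hun]; exact neg_ne_zero.mpr hr0)
      (by
        simp only [zero_smul, zero_add, one_smul, add_zero]
        rw [hun, herm_smul_left hF, herm_smul_right hF,
          herm_single_left, Pi.single_eq_same, one_pow]
        linear_combination hc)
    have hgk := hgx (Pi.single k (w k)) fun y hy => by
      induction hy using Submodule.span_induction with
      | mem y hy =>
        rcases hy with rfl | rfl
        · rw [herm_single_left, Pi.single_eq_of_ne hko, q_zero hF, mul_zero]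
        · rw [herm_single_left, huk, q_zero hF, mul_zero]
      | zero => exact h_zero_right hF _
      | add a b _ _ ha hb => rw [herm_add_right hF, ha, hb, add_zero]
      | smul a y _ hy => rw [herm_smul_right hF, hy, mul_zero]
    have h1 := root_map hH hg hw
    rw [show w = Pi.single k (w k) + ((0 : F) • (Pi.single o 1 : Vs) + (1 : F) • u) by rw [hu]; simp,
      mulVec_add, hgk, hgu, zero_smul, add_zero] at h1
    convert h1 using 2
    funext m
    rcases eq_or_ne m o with rfl | hm <;> simp [*]
  -- all of weight two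
  have h2 : ∀ (i j : Fin n) (x y : F), i ≠ j → x * x ^ q + y * y ^ q = 0 →
      (Pi.single i x + Pi.single j y : Vs) ∈ root q H := by
    intro i j x y hij hxy
    rcases eq_or_ne x 0 with rfl | hx
    · have : y = 0 := by
        by_contra hy
        exact mul_ne_zero hy (pow_ne_zero _ hy) (by linear_combination hxy)
      rw [this]; simpa using root_smul hF hw (0 : F)
    set s := x / w k with hs
    have hs0 : s ≠ 0 := div_ne_zero hx hk
    set θ := y / (s * c) with hθ
    have hθ1 : θ * θ ^ q = 1 := by
      rw [hθ, hs, div_pow, mul_pow, div_pow]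
      field_simp
      linear_combination (w k * w k ^ q) * hxy - (x * x ^ q) * hc
    obtain ⟨σ, hσi, hσj⟩ : ∃ σ : Equiv.Perm (Fin n), σ i = k ∧ σ j = o := by
      refine ⟨((Equiv.swap k i).trans (Equiv.swap (Equiv.swap k i o) j)).symm, ?_, ?_⟩
      · rw [Equiv.symm_apply_eq, Equiv.trans_apply, Equiv.swap_apply_left, Equiv.swap_apply_of_ne_of_ne ?_ hij]
        intro e
        exact hko ((Equiv.swap k i).injective (by rw [Equiv.swap_apply_left]; exact e))
      · rw [Equiv.symm_apply_eq, Equiv.trans_apply, Equiv.swap_apply_left]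
    obtain ⟨l, hli, hlj⟩ := Finset.exists_mem_notMem_of_card_lt_card (s := {i, j}) (t := (Finset.univ : Finset (Fin n)))
      (by rw [Finset.card_pair hij, Finset.card_univ, Fintype.card_fin]; omega) |>.imp fun l hl => (by
        simpa [not_or] using hl.2 : l ≠ i ∧ l ≠ j)
    obtain ⟨g, hg, -, -, hgv, c', -, hgl⟩ := exists_phased hF hM σ l
      (fun m => if m = j then θ else 1) (fun m _ => by split_ifs <;> simp [hθ1])
    have h1 := root_smul hF (root_map hH hg hwt2) s
    convert h1 using 1
    funext m
    have hσne : ∀ m, m ≠ i → σ m ≠ k := fun m hm e => hm (σ.injective (e.trans hσi.symm))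
    have hσne' : ∀ m, m ≠ j → σ m ≠ o := fun m hm e => hm (σ.injective (e.trans hσj.symm))
    rcases eq_or_ne m l with rfl | hml
    · simp [hgl, hσne _ hli, hσne' _ hlj, hli, hlj]
    rcases eq_or_ne m i with rfl | hmi
    · simp [hgv _ _ hml, hσi, hij, Pi.single_eq_of_ne hko, hs, hk]
    rcases eq_or_ne m j with rfl | hmj
    · simp [hgv _ _ hml, hσj, hij.symm, Pi.single_eq_of_ne hko.symm, hθ]
      field_simp
    · simp [hgv _ _ hml, hσne _ hmi, hσne' _ hmj, hmi, hmj]
  let supp : Vs → Finset (Fin n) := fun v => Finset.univ.filter fun l => v l ≠ 0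
  have hsupp : ∀ v l, l ∈ supp v ↔ v l ≠ 0 := fun v l => by simp [supp]
  have hnorm : ∀ (v : Vs) (s : Finset (Fin n)), supp v ⊆ s → h v v = ∑ l ∈ s, v l * v l ^ q := fun v s hs => by
    rw [herm_self_eq_sum]
    refine (Finset.sum_subset (Finset.subset_univ s) fun l _ hl => ?_).symm
    have : v l = 0 := by
      by_contra h0; exact hl (hs ((hsupp v l).mpr h0))
    rw [this, zero_mul]
  refine eq_suGL hF (by omega) (by omega) hH fun v hv => ?_
  suffices H' : ∀ N, ∀ v, (supp v).card ≤ N → h v v = 0 → v ∈ root q H from H' _ v le_rfl hv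
  intro N
  induction N using Nat.strong_induction_on with
  | _ N ih =>
    intro v hvN hv
    rcases Nat.lt_or_ge (supp v).card 3 with hlt | hge
    · obtain ⟨i, j, hij, hsub⟩ : ∃ i j, i ≠ j ∧ supp v ⊆ {i, j} := by
        obtain ⟨s, hs1, hs2, hs3⟩ := Finset.exists_subsuperset_card_eq (Finset.subset_univ (supp v))
          (by omega : (supp v).card ≤ 2) (by rw [Finset.card_univ, Fintype.card_fin]; omega)
        obtain ⟨i, j, hij, rfl⟩ := Finset.card_eq_two.mp hs3
        exact ⟨i, j, hij, hs1⟩
      have h' := hnorm v _ hsub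
      rw [hv, Finset.sum_pair hij] at h'
      convert h2 i j (v i) (v j) hij h'.symm using 1
      funext m
      rcases eq_or_ne m i with rfl | hmi
      · simp [hij]
      rcases eq_or_ne m j with rfl | hmj
      · simp [hij.symm]
      · have : v m = 0 := by
          by_contra h0
          have := hsub ((hsupp v m).mpr h0)
          simp [hmi, hmj] at this
        simp [this, hmi, hmj]
    -- pulling back along an element of `H`
    have hback : ∀ g ∈ H, (supp ((g : Matrix (Fin n) (Fin n) F) *ᵥ v)).card < (supp v).card → v ∈ root q H := by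
      intro g hg hlt
      have h1 := root_map hH (H.inv_mem hg)
        (ih _ (lt_of_lt_of_le hlt hvN) _ le_rfl (by rw [apply_K (hH hg), hv]))
      rwa [inv_mulVec_mulVec] at h1
    -- pairs of nonzero norm
    have hpairmove : ∀ i j, i ≠ j → ∀ (x y x' y' : F), x * x ^ q + y * y ^ q ≠ 0 →
        x' * x' ^ q + y' * y' ^ q = x * x ^ q + y * y ^ q → v i = x → v j = y →
        ∃ g ∈ H, ((g : Matrix (Fin n) (Fin n) F) *ᵥ v) i = x' ∧ ((g : Matrix (Fin n) (Fin n) F) *ᵥ v) j = y' ∧
          ∀ m, m ≠ i → m ≠ j → ((g : Matrix (Fin n) (Fin n) F) *ᵥ v) m = v m := by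
      intro i j hij x y x' y' hne heq hi hj
      have hval : ∀ a b : F, h (a • (Pi.single i 1 : Vs) + b • (Pi.single j 1 : Vs))
          (a • (Pi.single i 1 : Vs) + b • (Pi.single j 1 : Vs)) = a * a ^ q + b * b ^ q := fun a b => by
        simp [herm_add_left hF, herm_add_right hF, herm_smul_left hF, herm_smul_right hF, herm_single_left,
          Pi.single_eq_of_ne hij, Pi.single_eq_of_ne hij.symm, hq0]
      obtain ⟨g, hg, hgu, hgx⟩ := moves_plane hF (p := (Pi.single i 1 : Vs)) (o := (Pi.single j 1 : Vs))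
        (H := H) (by rw [herm_single_left, Pi.single_eq_of_ne hij, q_zero hF, mul_zero])
        (by rw [herm_single_left, Pi.single_eq_same, one_pow, one_mul]; exact one_ne_zero)
        (by rw [herm_single_left, Pi.single_eq_same, one_pow, one_mul]; exact one_ne_zero)
        (fun a b hab => by
          have := h2 i j a b hij ((hval a b).symm.trans hab)
          simpa [Pi.smul_apply, ← Pi.single_smul] using this)
        (x := x) (y := y) (x' := x') (y' := y') (by rw [hval]; exact hne) (by rw [hval, hval, heq])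
      set rest := v - (x • (Pi.single i 1 : Vs) + y • (Pi.single j 1 : Vs)) with hrest
      have hri : rest i = 0 := by simp [hrest, hi, Pi.single_eq_of_ne hij]
      have hrj : rest j = 0 := by simp [hrest, hj, Pi.single_eq_of_ne hij.symm]
      have hgr := hgx rest fun z hz => by
        induction hz using Submodule.span_induction with
        | mem z hz =>
          rcases hz with rfl | rfl
          · rw [herm_single_right hq0, hri, zero_mul]
          · rw [herm_single_right hq0, hrj, zero_mul]
        | zero => exact h_zero_right hF _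
        | add a b _ _ ha hb => rw [herm_add_right hF, ha, hb, add_zero]
        | smul a z _ hz => rw [herm_smul_right hF, hz, mul_zero]
      have hgv : (g : Matrix (Fin n) (Fin n) F) *ᵥ v =
          x' • (Pi.single i 1 : Vs) + y' • (Pi.single j 1 : Vs) + rest := by
        conv_lhs => rw [show v = x • (Pi.single i 1 : Vs) + y • (Pi.single j 1 : Vs) + rest by rw [hrest]; abel]
        rw [mulVec_add, hgu, hgr]
      refine ⟨g, hg, ?_, ?_, fun m hmi hmj => ?_⟩ <;> rw [hgv]
      · simp [hri, Pi.single_eq_of_ne hij]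
      · simp [hrj, Pi.single_eq_of_ne hij.symm]
      · simp [hrest, hmi, hmj]
    have hred : ∀ i ∈ supp v, ∀ j ∈ supp v, i ≠ j →
        v i * v i ^ q + v j * v j ^ q ≠ 0 → v ∈ root q H := by
      intro i hi j hj hij hne
      obtain ⟨c, hc⟩ := exists_norm_eq (qPowHom_ne_id hF) (qPowHom_qPowHom hF)
        (c := v i * v i ^ q + v j * v j ^ q)
        (by rw [qPowHom_apply, q_add hF, mul_pow, mul_pow, pow_q_pow_q hF, pow_q_pow_q hF]; ring)
      rw [qPowHom_apply] at hc
      obtain ⟨g, hg, hgi, hgj, hgm⟩ := hpairmove i j hij (v i) (v j) c 0 hne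
        (by rw [q_zero hF, mul_zero, add_zero, hc]) rfl rfl
      refine hback g hg (Finset.card_lt_card ((Finset.ssubset_iff_of_subset fun m hm => ?_).mpr
        ⟨j, hj, fun e => (hsupp _ _).mp e hgj⟩))
      rw [hsupp] at hm ⊢
      rcases eq_or_ne m i with rfl | hmi
      · exact (hsupp v m).mp hi
      rcases eq_or_ne m j with rfl | hmj
      · exact (hsupp v m).mp hj
      · rwa [hgm m hmi hmj] at hm
    by_cases hex : ∃ i ∈ supp v, ∃ j ∈ supp v, i ≠ j ∧ v i * v i ^ q + v j * v j ^ q ≠ 0
    · obtain ⟨i, hi, j, hj, hij, hne⟩ := hex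
      exact hred i hi j hj hij hne
    push Not at hex
    obtain ⟨i, j, l, hi, hj, hl, hij, hil, hjl⟩ := Finset.two_lt_card_iff.mp (by omega : 2 < (supp v).card)
    have eij := hex i hi j hj hij
    have eil := hex i hi l hl hil
    have ejl := hex j hj l hl hjl
    have hvi : v i ≠ 0 := (hsupp v i).mp hi
    have h20 : (2 : F) = 0 := (mul_eq_zero.mp (show (2 : F) * (v i * v i ^ q) = 0 by
      linear_combination eij + eil - ejl)).resolve_right (mul_ne_zero hvi (pow_ne_zero _ hvi))
    have hsame : ∀ m ∈ supp v, v m * v m ^ q = v i * v i ^ q := fun m hm => by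
      rcases eq_or_ne m i with rfl | hmi
      · rfl
      · linear_combination hex m hm i hi hmi - (v i * v i ^ q) * h20
    by_cases hq : 3 ≤ q
    · -- change one norm by a root element of weight two
      obtain ⟨ω, hω, hω1, -⟩ := exists_norm_one hF
      have hvj : v j ≠ 0 := (hsupp v j).mp hj
      obtain ⟨μ, hμ, hH0⟩ : ∃ μ : F, μ * μ ^ q = 1 ∧ v i + μ ^ q * v j ≠ 0 := by
        by_cases e1 : v i + v j = 0
        · refine ⟨ω, hω, fun e => hω1 (q_inj hF ?_)⟩
          rw [one_pow]
          exact mul_right_cancel₀ hvj (by linear_combination e - e1)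
        · exact ⟨1, by simp, by simpa using e1⟩
      set x := (Pi.single i (1 : F) + Pi.single j μ : Vs) with hx
      have hxroot : x ∈ root q H := h2 i j 1 μ hij (by rw [one_pow, mul_one, hμ]; linear_combination h20)
      set Hh := v i + μ ^ q * v j with hHh
      have hvx : h v x = Hh := by
        rw [hx, herm_add_right hF, herm_single_right hq0, herm_single_right hq0, one_pow, hHh]; ring
      set E := (Hh * v i ^ q + Hh ^ q * v i) / (Hh * Hh ^ q) with hE
      obtain ⟨C, hC, hC0, hCE⟩ : ∃ C : F, C ^ q = C ∧ C ≠ 0 ∧ C ≠ E := by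
        letI : DecidableEq F := Classical.decEq F
        obtain ⟨C, hC, hC'⟩ := Finset.exists_mem_notMem_of_card_lt_card (s := ({0, E} : Finset F))
          (t := fixedField q F) (by rw [card_fixedField hF]; have := Finset.card_le_two (a := (0 : F)) (b := E); omega)
        simp only [Finset.mem_insert, Finset.mem_singleton, not_or] at hC'
        exact ⟨C, mem_fixedField.mp hC, hC'.1, hC'.2⟩
      have hCs : C + C ^ q = 0 := by rw [hC]; linear_combination C * h20
      set v' := (T x C hxroot.1 : Matrix (Fin n) (Fin n) F) *ᵥ v with hv'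
      have hv'v : v' = v + (C * Hh) • x := by rw [hv', T_mulVec, hvx]
      have hgH := hxroot.2 C hCs
      have hv'm : ∀ m, m ≠ i → m ≠ j → v' m = v m := fun m h1 h1' => by
        simp [hv'v, hx, h1, h1']
      have hv'0 : h v' v' = 0 := by rw [hv', apply_K (hH hgH), hv]
      have hsub : supp v' ⊆ supp v := fun m hm => by
        rw [hsupp] at hm ⊢
        rcases eq_or_ne m i with rfl | hmi
        · exact hvi
        rcases eq_or_ne m j with rfl | hmj
        · exact hvj
        · rwa [hv'm m hmi hmj] at hm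
      by_cases hlt : (supp v').card < (supp v).card
      · exact hback _ hgH hlt
      have heq := Finset.eq_of_subset_of_card_le hsub (not_lt.mp hlt)
      -- the norm at `i` has changed
      have hi' : v' i = v i + C * Hh := by simp [hv'v, hx, hij]
      have hne : v' i * v' i ^ q + v' l * v' l ^ q ≠ 0 := by
        rw [hv'm l hil.symm hjl.symm, hi', q_add hF, mul_pow, hC]
        intro e
        have hsl := hsame l hl
        refine mul_ne_zero hC0 (sub_ne_zero.mpr hCE) ((mul_eq_zero.mp (show (C * (C - E)) * (Hh * Hh ^ q) = 0 by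
          rw [hE, mul_sub, sub_mul, mul_assoc C (_ / _) _, div_mul_cancel₀ _ (mul_ne_zero hH0 (pow_ne_zero _ hH0))]
          linear_combination e - hsl - (v i * v i ^ q) * h20 - C * (Hh * v i ^ q + Hh ^ q * v i) * h20)).resolve_right
            (mul_ne_zero hH0 (pow_ne_zero _ hH0)))
      -- now reduce `v'`
      obtain ⟨c, hc⟩ := exists_norm_eq (qPowHom_ne_id hF) (qPowHom_qPowHom hF)
        (c := v' i * v' i ^ q + v' l * v' l ^ q)
        (by rw [qPowHom_apply, q_add hF, mul_pow, mul_pow, pow_q_pow_q hF, pow_q_pow_q hF]; ring)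
      rw [qPowHom_apply] at hc
      have hval : ∀ a b : F, h (a • (Pi.single i 1 : Vs) + b • (Pi.single l 1 : Vs))
          (a • (Pi.single i 1 : Vs) + b • (Pi.single l 1 : Vs)) = a * a ^ q + b * b ^ q := fun a b => by
        simp [herm_add_left hF, herm_add_right hF, herm_smul_left hF, herm_smul_right hF, herm_single_left,
          Pi.single_eq_of_ne hil, Pi.single_eq_of_ne hil.symm, hq0]
      obtain ⟨g, hg, hgu, hgx⟩ := moves_plane hF (p := (Pi.single i 1 : Vs)) (o := (Pi.single l 1 : Vs))
        (H := H) (by rw [herm_single_left, Pi.single_eq_of_ne hil, q_zero hF, mul_zero])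
        (by rw [herm_single_left, Pi.single_eq_same, one_pow, one_mul]; exact one_ne_zero)
        (by rw [herm_single_left, Pi.single_eq_same, one_pow, one_mul]; exact one_ne_zero)
        (fun a b hab => by
          have := h2 i l a b hil ((hval a b).symm.trans hab)
          simpa [Pi.smul_apply, ← Pi.single_smul] using this)
        (x := v' i) (y := v' l) (x' := c) (y' := 0) (by rw [hval]; exact hne)
        (by rw [hval, hval, q_zero hF, mul_zero, add_zero, hc])
      set rest := v' - (v' i • (Pi.single i 1 : Vs) + v' l • (Pi.single l 1 : Vs)) with hrest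
      have hri : rest i = 0 := by simp [hrest, Pi.single_eq_of_ne hil]
      have hrl : rest l = 0 := by simp [hrest, Pi.single_eq_of_ne hil.symm]
      have hgr := hgx rest fun z hz => by
        induction hz using Submodule.span_induction with
        | mem z hz =>
          rcases hz with rfl | rfl
          · rw [herm_single_right hq0, hri, zero_mul]
          · rw [herm_single_right hq0, hrl, zero_mul]
        | zero => exact h_zero_right hF _
        | add a b _ _ ha hb => rw [herm_add_right hF, ha, hb, add_zero]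
        | smul a z _ hz => rw [herm_smul_right hF, hz, mul_zero]
      have hgv : (g : Matrix (Fin n) (Fin n) F) *ᵥ v' = c • (Pi.single i 1 : Vs) + rest := by
        conv_lhs => rw [show v' = v' i • (Pi.single i 1 : Vs) + v' l • (Pi.single l 1 : Vs) + rest by rw [hrest]; abel]
        rw [mulVec_add, hgu, hgr, zero_smul, add_zero]
      refine hback (g * T x C hxroot.1) (H.mul_mem hg hgH) ?_
      rw [Units.val_mul, ← mulVec_mulVec, ← hv', hgv]
      refine Finset.card_lt_card ((Finset.ssubset_iff_of_subset fun m hm => ?_).mpr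
        ⟨l, hl, fun e => (hsupp _ _).mp e (by simp [hrl, Pi.single_eq_of_ne hil.symm])⟩)
      rw [hsupp] at hm ⊢
      rcases eq_or_ne m i with rfl | hmi
      · exact hvi
      rcases eq_or_ne m l with rfl | hml
      · exact (hsupp v m).mp hl
      · have : v' m ≠ 0 := by simpa [hrest, hmi, hml] using hm
        exact (hsupp v m).mp (hsub ((hsupp v' m).mpr this))
    · -- two elements: weight four
      have hq2 : q = 2 := by have := two_le_of_card_sq hF; omega
      have hn6 := hn2 hq2
      obtain ⟨x₀, hx₀, s₀, hs₀4, hs₀⟩ := hfour hq2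
      have hx₀4 : (supp x₀).card = 4 := by
        rw [show supp x₀ = s₀ from Finset.ext fun l => (hsupp x₀ l).trans (hs₀ l).symm, hs₀4]
      have hcard4 : Fintype.card F = 4 := by rw [hF, hq2]; norm_num
      have hN : ∀ a : F, a ≠ 0 → a * a ^ q = 1 := fun a ha => by
        have := FiniteField.pow_card_sub_one_eq_one a ha
        rw [hcard4] at this
        rw [hq2]; linear_combination this
      have hall4 : ∀ x : Vs, (supp x).card = 4 → x ∈ root q H := by
        intro x hx4
        obtain ⟨σ, hσ⟩ : ∃ σ : Equiv.Perm (Fin n), ∀ m, m ∈ supp x ↔ σ m ∈ supp x₀ := by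
          let e := Finset.equivOfCardEq (show (supp x).card = (supp x₀).card by rw [hx4]; rw [hx₀4])
          refine ⟨e.extendSubtype, fun m => ⟨fun hm => ?_, fun hm => ?_⟩⟩
          · rw [Equiv.extendSubtype_apply_of_mem e m hm]; exact (e ⟨m, hm⟩).2
          · by_contra hmn; exact Equiv.extendSubtype_not_mem e m hmn hm
        obtain ⟨l, hl⟩ := Finset.exists_mem_notMem_of_card_lt_card (s := supp x)
          (t := (Finset.univ : Finset (Fin n))) (by rw [hx4, Finset.card_univ, Fintype.card_fin]; omega)
        obtain ⟨g, hg, -, -, hgv, c', -, hgl⟩ := exists_phased hF hM σ l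
          (fun m => if x₀ (σ m) = 0 then 1 else x m / x₀ (σ m)) (fun m _ => by
            split_ifs with h0
            · simp
            · refine hN _ (div_ne_zero ((hsupp x m).mp ((hσ m).mpr ((hsupp _ _).mpr h0))) h0))
        have hzero : ∀ m, x₀ (σ m) = 0 → x m = 0 := fun m h0 => by
          by_contra hm; exact (hsupp _ _).mp ((hσ m).mp ((hsupp x m).mpr hm)) h0
        convert root_map hH hg hx₀ using 1
        funext m
        rcases eq_or_ne m l with rfl | hml
        · rw [hgl]
          have : x₀ (σ m) = 0 := by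
            by_contra h0; exact hl.2 ((hσ m).mpr ((hsupp _ _).mpr h0))
          rw [this, mul_zero, hzero m this]
        · rw [hgv _ _ hml]
          split_ifs with h0
          · rw [h0, mul_zero, hzero m h0]
          · rw [div_mul_cancel₀ _ h0]
      rcases Nat.lt_or_ge (supp v).card 5 with h5 | h5
      · rcases Nat.lt_or_ge (supp v).card 4 with h4 | h4
        · exfalso
          have hs := hnorm v _ (subset_refl (supp v))
          rw [hv, Finset.sum_congr rfl (fun m hm => hN (v m) ((hsupp v m).mp hm)), Finset.sum_const,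
            show (supp v).card = 3 by omega, nsmul_eq_mul, mul_one] at hs
          exact one_ne_zero (α := F) (by push_cast at hs; linear_combination -hs - h20)
        · exact hall4 v (by omega)
      obtain ⟨s, hs, hs4⟩ := Finset.exists_subset_card_eq (show 4 ≤ (supp v).card by omega)
      obtain ⟨a, b, c', d, hab, hac, had, hbc, hbd, hcd, rfl⟩ := Finset.card_eq_four.mp hs4
      obtain ⟨ω, hω, hω1, hω0⟩ := exists_norm_one hF
      have hω3 : ω * (ω * ω) = 1 := by rw [← sq, ← hq2]; exact hω
      have hω2 : ω * ω + ω + 1 = 0 :=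
        (mul_eq_zero.mp (show (ω - 1) * (ω * ω + ω + 1) = 0 by linear_combination hω3)).resolve_left
          (sub_ne_zero.mpr hω1)
      set x : Vs := Pi.single a (v a) + Pi.single b (v b) + Pi.single c' (ω * v c') + Pi.single d (ω * ω * v d)
        with hx
      have hvne : ∀ {m}, m ∈ ({a, b, c', d} : Finset (Fin n)) → v m ≠ 0 := fun hm => (hsupp v _).mp (hs hm)
      have ha0 := hvne (m := a) (by simp)
      have hb0 := hvne (m := b) (by simp)
      have hc0 := hvne (m := c') (by simp)
      have hd0 := hvne (m := d) (by simp)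
      have hxs : supp x = {a, b, c', d} := by
        ext m
        rw [hsupp]
        simp only [hx, Pi.add_apply, Finset.mem_insert, Finset.mem_singleton]
        rcases eq_or_ne m a with rfl | e1
        · simp [hab, hac, had, ha0]
        rcases eq_or_ne m b with rfl | e2
        · simp [e1, hbc, hbd, hb0]
        rcases eq_or_ne m c' with rfl | e3
        · simp [e1, e2, hcd, hc0, hω0]
        rcases eq_or_ne m d with rfl | e4
        · simp [e1, e2, e3, hd0, hω0]
        · simp [e1, e2, e3, e4]
      have hxroot : x ∈ root q H := hall4 x (by rw [hxs]; exact hs4)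
      have hvx : h v x = 1 := by
        rw [hx, herm_add_right hF, herm_add_right hF, herm_add_right hF, herm_single_right hq0,
          herm_single_right hq0, herm_single_right hq0, herm_single_right hq0, mul_pow, mul_pow]
        have hωq : ω ^ q = ω * ω := by rw [hq2, sq]
        simp only [mul_pow, hωq]
        linear_combination hN _ ha0 + hN _ hb0 + (ω * ω) * hN _ hc0 + (ω * ω * (ω * ω)) * hN _ hd0 +
          hω2 + ω * hω3 + (0 : F) * h20
      have hgH := hxroot.2 1 (by rw [one_pow]; linear_combination h20)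
      refine hback _ hgH (Finset.card_lt_card ((Finset.ssubset_iff_of_subset fun m hm => ?_).mpr
        ⟨a, hs (by simp), ?_⟩))
      · rw [hsupp] at hm ⊢
        intro h0
        apply hm
        rw [T_mulVec, Pi.add_apply, Pi.smul_apply, h0, show x m = 0 by
          by_contra hxm
          exact (hsupp v m).mp (hs (hxs ▸ (hsupp x m).mpr hxm)) h0, smul_zero, add_zero]
      · rw [hsupp, T_mulVec, hvx, one_mul, one_smul]
        simp [hx, hab, hac, had]
        linear_combination (v a) * h20

end Cfsg.Agent.Lib.UnitaryMax
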