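import Cfsg.Agent.Lib.UnitaryMax.FrameSix
import Cfsg.Agent.Lib.UnitaryMax.Frame

/-!
Overgroups of the monomial subgroup of the special unitary group in dimension eight, and the resulting
maximality of the stabiliser of an orthogonal frame.
-/

set_option autoImplicit false
set_option linter.unusedSectionVars false

namespace Cfsg.Agent.Lib.UnitaryMax

open Matrix Cfsg.Agent.Lib.Forms Cfsg.Agent.Lib.FormMax

variable {F : Type*} [Field F] [Fintype F] {n q : ℕ}

local notation "Vs" => (Fin n → F)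
local notation "h" => Cfsg.hermForm n F q

variable (hF : Fintype.card F = q ^ 2) {H : Subgroup (GL (Fin n) F)}
include hF

/-- An element with a zero entry, dimension eight. -/
theorem eq_suGL_of_entry_zero_eight [DecidableEq F] (hn : n = 8) (hq : 3 ≤ q) (hH : H ≤ suGL n F q)
    (hM : ContainsMono q H) {g : GL (Fin n) F} (hg : g ∈ H) (hgm : ¬ IsMono g) {i k : Fin n}
    (hik : ((g : Matrix (Fin n) (Fin n) F) *ᵥ Pi.single i 1) k = 0) : H = suGL n F q := by
  classical
  by_contra hK
  have hn6 : 6 ≤ n := by omega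
  have hq0 := q_ne_zero hF
  set col : Fin n → Vs := fun l => (g : Matrix (Fin n) (Fin n) F) *ᵥ Pi.single l 1 with hcol
  have hcolz : ∀ p, p ≠ k → col i p ≠ 0 := fun p hp e =>
    hK (eq_suGL_of_two_zeros hF hn6 hq hH hM hg hgm hp e hik)
  have hrowz : ∀ l, l ≠ i → col l k ≠ 0 := fun l hl e =>
    hK (eq_suGL_of_two_zeros hF hn6 hq hH hM (H.inv_mem hg) (fun hm => hgm (by simpa using hm.inv)) hl
      (j := k) (by rw [inv_entry hF (hH hg)]; exact by rw [show (g : Matrix (Fin n) (Fin n) F) *ᵥ Pi.single l 1 = col l from rfl, e, q_zero hF])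
      (by rw [inv_entry hF (hH hg), hik, q_zero hF]))
  -- it suffices to give a monomial element scaling the column
  have hfin : ∀ D ∈ H, ∀ μ : F, (D : Matrix (Fin n) (Fin n) F) *ᵥ col i = μ • col i →
      ¬ IsMono (g⁻¹ * D * g) → False := fun D hD μ hDi hym => hK (eq_suGL_of_fix hF hn6 hH hM
      (H.mul_mem (H.mul_mem (H.inv_mem hg) hD) hg) hym (m := i) (c := μ) (by
        rw [Units.val_mul, Units.val_mul, ← mulVec_mulVec, ← mulVec_mulVec,
          show (g : Matrix (Fin n) (Fin n) F) *ᵥ Pi.single i 1 = col i from rfl, hDi, mulVec_smul, hcol,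
          inv_mulVec_mulVec]))
  by_cases hμ6 : ∃ μ ∈ normOne q F, μ ^ n ≠ 1
  · obtain ⟨μ, hμ, hμn⟩ := hμ6
    have hμ' := mem_normOne.mp hμ
    set ν := (μ ^ (n - 1)) ^ q with hν
    have hν1 : μ ^ (n - 1) * ν = 1 := by rw [hν, pow_right_comm, ← mul_pow, hμ', one_pow]
    have hνn : ν * ν ^ q = 1 := by rw [hν, pow_q_pow_q hF, mul_comm]; exact hν1
    have hνμ : ν - μ ≠ 0 := sub_ne_zero.mpr fun e => hμn (by
      rw [show n = n - 1 + 1 by omega, pow_succ]; nth_rewrite 2 [← e]; exact hν1)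
    set d : Vs := Function.update (fun _ => μ) k ν with hd
    obtain ⟨D, hD, -, -, hDx⟩ := exists_diagElt hM d (fun l => by
        rcases eq_or_ne l k with rfl | hl
        · simp [hd, hνn]
        · simp [hd, hl, hμ']) (by
        rw [← Finset.mul_prod_erase Finset.univ d (Finset.mem_univ k),
          Finset.prod_congr rfl (fun l hl => show d l = μ from Function.update_of_ne (Finset.ne_of_mem_erase hl) _ _),
          Finset.prod_const, Finset.card_erase_of_mem (Finset.mem_univ k), Finset.card_univ, Fintype.card_fin,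
          show d k = ν from Function.update_self _ _ _, mul_comm]
        exact hν1)
    refine hfin D hD μ (funext fun p => ?_) fun hy => ?_
    · rw [hDx, Pi.smul_apply, smul_eq_mul]
      rcases eq_or_ne p k with rfl | hp
      · rw [show col i p = 0 from hik, mul_zero, mul_zero]
      · simp [hd, hp]
    obtain ⟨π, c, -, -, hπ⟩ := hy.exists_map
    obtain ⟨l, hl⟩ := exists_col_ne g k
    obtain ⟨p, -, hp⟩ := Finset.exists_mem_notMem_of_card_lt_card (s := ({l, π l, i} : Finset (Fin n)))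
      (t := (Finset.univ : Finset (Fin n))) (by
        rw [Finset.card_univ, Fintype.card_fin]
        have := Finset.card_le_three (a := l) (b := π l) (c := i)
        omega)
    simp only [Finset.mem_insert, Finset.mem_singleton, not_or] at hp
    have h2 : h (col l) (col p) = 0 := by
      rw [hcol, apply_K (hH hg), herm_single_right hq0, Pi.single_eq_of_ne hp.1, zero_mul]
    have h1 : h ((D : Matrix (Fin n) (Fin n) F) *ᵥ col l) (col p) = 0 := by
      have e : (D : Matrix (Fin n) (Fin n) F) *ᵥ col l = (g : Matrix (Fin n) (Fin n) F) *ᵥ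
          (((g⁻¹ * D * g : GL (Fin n) F) : Matrix (Fin n) (Fin n) F) *ᵥ Pi.single l 1) := by
        rw [Units.val_mul, Units.val_mul, ← mulVec_mulVec, ← mulVec_mulVec, mulVec_inv_mulVec]
      rw [e, hπ, hcol, apply_K (hH hg), herm_single_right hq0, Pi.smul_apply, Pi.single_eq_of_ne hp.2.1, smul_zero,
        zero_mul]
    have h3 : (D : Matrix (Fin n) (Fin n) F) *ᵥ col l = μ • col l + ((ν - μ) * col l k) • Pi.single k 1 := by
      funext o
      rw [hDx]
      rcases eq_or_ne o k with rfl | ho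
      · simp [hd]; ring
      · simp [hd, ho]
    rw [h3, herm_add_left hF, herm_smul_left hF, herm_smul_left hF, h2, mul_zero, zero_add, herm_single_left,
      one_mul] at h1
    exact mul_ne_zero (mul_ne_zero hνμ hl) (pow_ne_zero _ (hrowz p hp.2.2)) h1
  -- at most seven elements: a transposition
  push Not at hμ6
  have hq7 : q ≤ 7 := by
    have hsub : normOne q F ⊆ (Polynomial.nthRoots 8 (1 : F)).toFinset := fun x hx => by
      rw [Multiset.mem_toFinset, Polynomial.mem_nthRoots (by norm_num)]; exact hn ▸ hμ6 x hx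
    have h1 := Finset.card_le_card hsub
    have h2 := Multiset.toFinset_card_le (Polynomial.nthRoots 8 (1 : F))
    have h3 := Polynomial.card_nthRoots 8 (1 : F)
    rw [card_normOne hF] at h1
    omega
  have h2 : (2 : F) ≠ 0 := fun e => by
    obtain ⟨ω, hω, hω1, -, -⟩ := exists_omega hF
    have hω8 : ω ^ 8 = 1 := hn ▸ hμ6 ω hω
    have hsq : ∀ y : F, y * y = 1 → y = 1 := fun y hy => by
      rcases mul_self_eq_one_iff.mp hy with e' | e'
      · exact e'
      · linear_combination e' - e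
    have h4 := hsq (ω ^ 4) (by linear_combination hω8)
    exact hω1 (hsq ω (by linear_combination hsq (ω ^ 2) (by linear_combination h4)))
  set N : Fin n → F := fun l => col i l * col i l ^ q with hN
  set A := (Finset.univ : Finset (Fin n)).erase k with hA
  obtain ⟨a, ha, b, hb, hab, hr⟩ := Finset.exists_ne_map_eq_of_card_lt_of_maps_to
    (show ((fixedField q F).erase 0).card < A.card by
      rw [hA, Finset.card_erase_of_mem (Finset.mem_univ k), Finset.card_univ, Fintype.card_fin,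
        Finset.card_erase_of_mem (mem_fixedField.mpr (q_zero hF)), card_fixedField hF]
      omega) (f := N) (fun l hl => Finset.mem_coe.mpr (Finset.mem_erase.mpr
        ⟨mul_ne_zero (hcolz l (Finset.ne_of_mem_erase hl)) (pow_ne_zero _ (hcolz l (Finset.ne_of_mem_erase hl))),
          mem_fixedField.mpr (by rw [hN, mul_pow, pow_q_pow_q hF, mul_comm])⟩))
  have hak := Finset.ne_of_mem_erase ha
  have hbk := Finset.ne_of_mem_erase hb
  set θ := col i a / col i b with hθ
  have hua := hcolz a hak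
  have hub := hcolz b hbk
  have hθ1 : θ * θ ^ q = 1 := by
    rw [hθ, div_pow, div_mul_div_comm, show col i a * col i a ^ q = col i b * col i b ^ q from hr, div_self]
    exact mul_ne_zero hub (pow_ne_zero _ hub)
  set d : Vs := fun l => if l = a then θ else if l = b then θ ^ q else if l = k then -1 else 1 with hd
  have hda : d a = θ := by simp [hd]
  have hdb : d b = θ ^ q := by simp [hd, hab.symm]
  have hdk : d k = -1 := by simp [hd, hak.symm, hbk.symm]
  have hdo : ∀ l, l ≠ a → l ≠ b → l ≠ k → d l = 1 := fun l h1 h2 h3 => by simp [hd, h1, h2, h3]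
  obtain ⟨D, hD, -, -, hDx⟩ := exists_monoElt hM (Equiv.swap a b) d (fun l => by
      simp only [hd]
      split_ifs
      · exact hθ1
      · rw [pow_q_pow_q hF, mul_comm, hθ1]
      · rw [q_neg hF, one_pow, neg_mul_neg, one_mul]
      · rw [one_pow, one_mul]) (by
      rw [← Finset.prod_subset (Finset.subset_univ {a, b, k}) (fun l _ hl => by
        simp only [Finset.mem_insert, Finset.mem_singleton, not_or] at hl
        exact hdo l hl.1 hl.2.1 hl.2.2), Finset.prod_insert (by simp [hab, hak]), Finset.prod_pair hbk, hda, hdb, hdk,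
        Equiv.Perm.sign_swap hab]
      push_cast
      linear_combination hθ1)
  have hDa : ∀ x : Vs, ((D : Matrix (Fin n) (Fin n) F) *ᵥ x) a = θ * x b := fun x => by
    rw [hDx, hda, Equiv.swap_apply_left]
  have hDb : ∀ x : Vs, ((D : Matrix (Fin n) (Fin n) F) *ᵥ x) b = θ ^ q * x a := fun x => by
    rw [hDx, hdb, Equiv.swap_apply_right]
  have hDk : ∀ x : Vs, ((D : Matrix (Fin n) (Fin n) F) *ᵥ x) k = -x k := fun x => by
    rw [hDx, hdk, Equiv.swap_apply_of_ne_of_ne hak.symm hbk.symm, neg_one_mul]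
  have hDo : ∀ (x : Vs) l, l ≠ a → l ≠ b → l ≠ k → ((D : Matrix (Fin n) (Fin n) F) *ᵥ x) l = x l :=
    fun x l h1 h2 h3 => by rw [hDx, hdo l h1 h2 h3, Equiv.swap_apply_of_ne_of_ne h1 h2, one_mul]
  refine hfin D hD 1 (funext fun p => ?_) fun hy => ?_
  · rw [one_smul]
    rcases eq_or_ne p a with rfl | hpa
    · rw [hDa, hθ, div_mul_cancel₀ _ hub]
    rcases eq_or_ne p b with rfl | hpb
    · rw [hDb]
      have : θ * col i p = col i a := by rw [hθ, div_mul_cancel₀ _ hub]
      linear_combination -(θ ^ q) * this + (col i p) * hθ1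
    rcases eq_or_ne p k with rfl | hpk
    · rw [hDk, show col i p = 0 from hik, neg_zero]
    · exact hDo _ p hpa hpb hpk
  obtain ⟨π, c, -, -, hπ⟩ := hy.exists_map
  set L : Vs → F := fun x => x a - θ * x b with hL
  have hh : ∀ x z : Vs, h x z - h ((D : Matrix (Fin n) (Fin n) F) *ᵥ x) z =
      2 * (x k * z k ^ q) + L x * L z ^ q := fun x z => by
    simp only [Cfsg.hermForm]
    rw [← Finset.sum_sub_distrib, ← Finset.sum_subset (Finset.subset_univ {a, b, k}) (fun l _ hl => by
      simp only [Finset.mem_insert, Finset.mem_singleton, not_or] at hl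
      rw [hDo x l hl.1 hl.2.1 hl.2.2, sub_self]), Finset.sum_insert (by simp [hab, hak]), Finset.sum_pair hbk,
      hDa, hDb, hDk, hL, q_sub hF, mul_pow]
    linear_combination -(x b * z b ^ q) * hθ1
  obtain ⟨κ, hκ⟩ := exists_ratio_of_gram (q := q) hn6 (fun l => col l k) (fun l => L (col l)) π h2
    (fun p p' e e' => by
      have h1 : p = i := by by_contra hp; exact hrowz p hp e
      have h2 : p' = i := by by_contra hp; exact hrowz p' hp e'
      rw [h1, h2])
    (fun l p hpl hpπ => by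
      rw [← hh]
      have e : (D : Matrix (Fin n) (Fin n) F) *ᵥ col l = (g : Matrix (Fin n) (Fin n) F) *ᵥ
          (((g⁻¹ * D * g : GL (Fin n) F) : Matrix (Fin n) (Fin n) F) *ᵥ Pi.single l 1) := by
        rw [Units.val_mul, Units.val_mul, ← mulVec_mulVec, ← mulVec_mulVec, mulVec_inv_mulVec]
      rw [e, hπ, hcol, apply_K (hH hg), apply_K (hH hg), herm_single_right hq0, herm_single_right hq0,
        Pi.smul_apply, Pi.single_eq_of_ne hpπ, Pi.single_eq_of_ne hpl, smul_zero, zero_mul, sub_self])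
  have hlin : ∀ x : Vs, L ((g : Matrix (Fin n) (Fin n) F) *ᵥ x) = κ * ((g : Matrix (Fin n) (Fin n) F) *ᵥ x) k :=
    fun x => by
      simp only [hL]
      rw [mulVec_eq_sum_col g x a, mulVec_eq_sum_col g x b, mulVec_eq_sum_col g x k, Finset.mul_sum,
        Finset.mul_sum, ← Finset.sum_sub_distrib]
      exact Finset.sum_congr rfl fun l _ => by
        have := hκ l
        simp only [hcol, hL] at this
        linear_combination (x l) * this
  have := hlin (((g⁻¹ : GL (Fin n) F) : Matrix (Fin n) (Fin n) F) *ᵥ Pi.single a 1)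
  rw [mulVec_inv_mulVec, hL] at this
  simp [hab.symm, hak.symm] at this

/-- The four transpositions used on a full column. -/
theorem exists_orthogonal_shift_eight [DecidableEq F] (hn : n = 8) (hq : 3 ≤ q) (hM : ContainsMono q H) (u : Vs)
    (hu : ∀ l, u l ≠ 0) :
    ∃ (m D : GL (Fin n) F) (a b : Fin n) (μ ν : F), m ∈ H ∧ D ∈ H ∧ a ≠ b ∧ μ ≠ ν ∧
      (∀ x l, ((D : Matrix (Fin n) (Fin n) F) *ᵥ x) l = (if l = a ∨ l = b then μ else ν) * x l) ∧
      h ((m : Matrix (Fin n) (Fin n) F) *ᵥ u) u = 0 ∧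
      h (((D * m : GL (Fin n) F) : Matrix (Fin n) (Fin n) F) *ᵥ u) u = 0 := by
  classical
  subst hn
  set r : Fin 8 → F := fun l => u l * u l ^ q with hr
  have hrq : ∀ l, r l ^ q = r l := fun l => by rw [hr, mul_pow, pow_q_pow_q hF, mul_comm]
  have hr0 : ∀ l, r l ≠ 0 := fun l => mul_ne_zero (hu l) (pow_ne_zero _ (hu l))
  obtain ⟨a, b, s, hab, haS, hbS, hsq, hss⟩ : ∃ (a b : Fin 8) (s : F), a ≠ b ∧ (a : ℕ) < 3 ∧ (b : ℕ) < 3 ∧
      s ^ q = s ∧ s * s = r a * r b := by
    obtain ⟨s, hs, e | e | e⟩ := exists_square_pair hF (hrq 0) (hrq 1) (hrq 2) (hr0 0) (hr0 1) (hr0 2) <;>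
      exact ⟨_, _, s, by decide, by decide, by decide, hs, e⟩
  obtain ⟨c, d, s', hcd, hcS, hdS, hsq', hss'⟩ : ∃ (c d : Fin 8) (s : F), c ≠ d ∧ 3 ≤ (c : ℕ) ∧ 3 ≤ (d : ℕ) ∧
      s ^ q = s ∧ s * s = r c * r d := by
    obtain ⟨s, hs, e | e | e⟩ := exists_square_pair hF (hrq 3) (hrq 4) (hrq 5) (hr0 3) (hr0 4) (hr0 5) <;>
      exact ⟨_, _, s, by decide, by decide, by decide, hs, e⟩
  obtain ⟨σ, hσ0, hσ1, hσ2, hσ3⟩ : ∃ σ : Equiv.Perm (Fin 8), σ 0 = a ∧ σ 1 = b ∧ σ 2 = c ∧ σ 3 = d := by
    have hinj : Function.Injective ![a, b, c, d] := by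
      intro i j e
      have h1 : a ≠ c := fun e => by rw [e] at haS; omega
      have h2 : a ≠ d := fun e => by rw [e] at haS; omega
      have h3 : b ≠ c := fun e => by rw [e] at hbS; omega
      have h4 : b ≠ d := fun e => by rw [e] at hbS; omega
      fin_cases i <;> fin_cases j <;> simp_all
    let e₀ : {x : Fin 8 // x ∈ Set.range (Fin.castLE (by norm_num : 4 ≤ 8))} ≃ {x : Fin 8 // x ∈ Set.range ![a, b, c, d]} :=
      (Equiv.ofInjective _ (Fin.castLE_injective _)).symm.trans (Equiv.ofInjective _ hinj)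
    have he : ∀ i : Fin 4, e₀.extendSubtype (Fin.castLE (by norm_num : 4 ≤ 8) i) = ![a, b, c, d] i := fun i => by
      rw [Equiv.extendSubtype_apply_of_mem _ _ ⟨i, rfl⟩]
      simp [e₀]
    exact ⟨e₀.extendSubtype, he 0, he 1, he 2, he 3⟩
  set U : Fin 8 → F := fun p => u (σ p) with hU
  set R : Fin 8 → F := fun p => r (σ p) with hR
  obtain ⟨x, v, v', hx0, hxq, hv, hv', hNv, hNv'⟩ := exists_common_trace_norm hF
    (k := R 4 * R 5) (k' := R 6 * R 7) (by rw [mul_pow, hrq, hrq]) (by rw [mul_pow, hrq, hrq])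
    (mul_ne_zero (hr0 _) (hr0 _)) (mul_ne_zero (hr0 _) (hr0 _))
  obtain ⟨A, hA⟩ := exists_norm_eq (qPowHom_ne_id hF) (qPowHom_qPowHom hF) (c := x⁻¹)
    (by rw [qPowHom_apply, inv_pow, hxq])
  rw [qPowHom_apply] at hA
  have hA0 : A ≠ 0 := fun e => inv_ne_zero hx0 (by rw [← hA, e, zero_mul])
  have hAx : x * (A * A ^ q) = 1 := by rw [hA, mul_inv_cancel₀ hx0]
  have hss2 : s' * s' = R 2 * R 3 := by simp only [hR, hσ2, hσ3]; exact hss'
  have hss1 : s * s = R 0 * R 1 := by simp only [hR, hσ0, hσ1]; exact hss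
  set z₀ := s / (x * A * A) with hz₀
  have hz₀N : z₀ * z₀ ^ q = R 0 * R 1 := by
    rw [hz₀, div_pow, div_mul_div_comm, hsq, mul_pow, mul_pow, hxq,
      show x * A * A * (x * A ^ q * A ^ q) = (x * (A * A ^ q)) * (x * (A * A ^ q)) by ring, hAx, one_mul, div_one]
    exact hss1
  have hz2N : s' * s' ^ q = R 2 * R 3 := by rw [hsq', hss2]
  set z : Fin 8 → F := ![z₀, -z₀, s', -s', v * A, v ^ q * A, -(v' * A), -(v' ^ q * A)] with hz
  set π₀ : Equiv.Perm (Fin 8) :=
    Equiv.swap 0 1 * Equiv.swap 2 3 * Equiv.swap 4 5 * Equiv.swap 6 7 with hπ₀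
  have e0 : π₀ 0 = 1 := by rw [hπ₀]; decide
  have e1 : π₀ 1 = 0 := by rw [hπ₀]; decide
  have e2 : π₀ 2 = 3 := by rw [hπ₀]; decide
  have e3 : π₀ 3 = 2 := by rw [hπ₀]; decide
  have e4 : π₀ 4 = 5 := by rw [hπ₀]; decide
  have e5 : π₀ 5 = 4 := by rw [hπ₀]; decide
  have e6 : π₀ 6 = 7 := by rw [hπ₀]; decide
  have e7 : π₀ 7 = 6 := by rw [hπ₀]; decide
  have hzN : ∀ p, z p * z p ^ q = R p * R (π₀ p) := by
    intro p
    fin_cases p <;> simp [hz, e0, e1, e2, e3, e4, e5, e6, e7, q_neg hF, mul_pow, pow_q_pow_q hF]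
    · exact hz₀N
    · linear_combination hz₀N
    · exact hz2N
    · linear_combination hz2N
    · linear_combination (A * A ^ q) * hNv + (R 4 * R 5) * hAx
    · linear_combination (A * A ^ q) * hNv + (R 4 * R 5) * hAx
    · linear_combination (A * A ^ q) * hNv' + (R 6 * R 7) * hAx
    · linear_combination (A * A ^ q) * hNv' + (R 6 * R 7) * hAx
  set W : Fin 8 → F := fun p => U (π₀ p) * U p ^ q with hW
  have hW0 : ∀ p, W p ≠ 0 := fun p => mul_ne_zero (hu _) (pow_ne_zero _ (hu _))
  set t : Fin 8 → F := fun p => z p / W p with ht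
  have htn : ∀ p, t p * t p ^ q = 1 := fun p => by
    rw [ht, div_pow, div_mul_div_comm, hzN, div_eq_one_iff_eq (mul_ne_zero (hW0 p) (pow_ne_zero _ (hW0 p)))]
    simp only [hR, hr, hW, hU, mul_pow, pow_q_pow_q hF]
    ring
  have hwprod : ∏ p, W p = ∏ p, R p := by
    simp only [hW, Finset.prod_mul_distrib, hR, hr, hU]
    rw [Equiv.prod_comp π₀ (fun p => u (σ p))]
  have htp : ∏ p, t p = 1 := by
    rw [ht, Finset.prod_div_distrib, hwprod, div_eq_iff (Finset.prod_ne_zero_iff.mpr fun p _ => hr0 _),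
      Fin.prod_univ_eight, Fin.prod_univ_eight]
    have hz2 : z₀ * z₀ * (x * x) * (A * A * (A * A)) = R 0 * R 1 := by
      rw [show z₀ * z₀ * (x * x) * (A * A * (A * A)) = (z₀ * (x * A * A)) * (z₀ * (x * A * A)) by ring, hz₀,
        div_mul_cancel₀ _ (mul_ne_zero (mul_ne_zero hx0 hA0) hA0)]
      exact hss1
    simp [hz]
    linear_combination (z₀ * z₀ * s' * s' * A * A * A * A * (v' * v' ^ q)) * hNv +
      (z₀ * z₀ * s' * s' * A * A * A * A * (R 4 * R 5) * x) * hNv' + (s' * s' * (R 4 * R 5 * (R 6 * R 7))) * hz2 +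
      (R 0 * R 1 * (R 4 * R 5 * (R 6 * R 7))) * hss2
  obtain ⟨η, ζ, hηn, hζn, hprod, hηζ⟩ : ∃ η ζ : F, η * η ^ q = 1 ∧ ζ * ζ ^ q = 1 ∧ η ^ 2 * ζ ^ 6 = 1 ∧ η ≠ ζ := by
    by_cases h2 : (2 : F) = 0
    · obtain ⟨ω, hω, hω1, -, -⟩ := exists_omega hF
      have hω' := mem_normOne.mp hω
      refine ⟨(ω ^ q) ^ 3, ω, ?_, hω', ?_, fun e => hω1 ?_⟩
      · rw [pow_right_comm (ω ^ q) 3 q, pow_q_pow_q hF, ← mul_pow, mul_comm, hω', one_pow]
      · rw [← pow_mul, show (3 : ℕ) * 2 = 6 from rfl, ← mul_pow, mul_comm, hω', one_pow]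
      · have hsq : ∀ y : F, y * y = 1 → y = 1 := fun y hy => by
          rcases mul_self_eq_one_iff.mp hy with e' | e'
          · exact e'
          · linear_combination e' - h2
        have h4 : ω ^ 4 = 1 := by
          calc ω ^ 4 = ω ^ 3 * ω := pow_succ ω 3
            _ = (ω * ω ^ q) ^ 3 := by rw [mul_pow, e]
            _ = 1 := by rw [hω', one_pow]
        exact hsq ω (by linear_combination hsq (ω ^ 2) (by linear_combination h4))
    · exact ⟨-1, 1, by rw [q_neg hF, one_pow, neg_mul_neg, one_mul], by rw [one_pow, one_mul], by ring,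
        fun e => h2 (by linear_combination -e)⟩
  set ev : Fin 8 → F := fun p => if p = 0 ∨ p = 1 then η else ζ with hev
  have hevn : ∀ p, ev p * ev p ^ q = 1 := fun p => by rw [hev]; dsimp only; split_ifs <;> assumption
  have hevp : ∏ p, ev p = 1 := by
    rw [Fin.prod_univ_eight]
    simp [hev]
    linear_combination hprod
  obtain ⟨m, hm, -, -, hmx⟩ := exists_monoElt hM (σ * π₀ * σ⁻¹) (fun l => t (σ.symm l)) (fun l => htn _) (by
    rw [Equiv.prod_comp σ.symm t, htp, map_mul, map_mul, map_inv, hπ₀, map_mul, map_mul, map_mul,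
      Equiv.Perm.sign_swap (by decide : (0 : Fin 8) ≠ 1), Equiv.Perm.sign_swap (by decide : (2 : Fin 8) ≠ 3),
      Equiv.Perm.sign_swap (by decide : (4 : Fin 8) ≠ 5), Equiv.Perm.sign_swap (by decide : (6 : Fin 8) ≠ 7)]
    rcases Int.units_eq_one_or (Equiv.Perm.sign σ) with e | e <;> rw [e] <;> simp)
  obtain ⟨D, hD, -, -, hDx⟩ := exists_diagElt hM (fun l => ev (σ.symm l)) (fun l => hevn _)
    (by rw [Equiv.prod_comp σ.symm ev, hevp])
  refine ⟨m, D, σ 0, σ 1, η, ζ, hm, hD, σ.injective.ne (by decide), hηζ, fun y l => ?_, ?_, ?_⟩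
  · rw [hDx]
    congr 1
    simp only [hev, Equiv.symm_apply_eq]
  all_goals rw [Cfsg.hermForm, ← Equiv.sum_comp σ]
  · calc _ = ∑ p, z p := Finset.sum_congr rfl fun p _ => by
          rw [hmx, Equiv.symm_apply_apply, Equiv.Perm.mul_apply, Equiv.Perm.mul_apply,
            show σ⁻¹ (σ p) = p from Equiv.symm_apply_apply σ p]
          have := div_mul_cancel₀ (z p) (hW0 p)
          simp only [ht]
          rw [mul_assoc]
          exact this
      _ = 0 := by
          rw [Fin.sum_univ_eight]; simp [hz]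
          linear_combination A * hv - A * hv'
  · calc _ = ∑ p, ev p * z p := Finset.sum_congr rfl fun p _ => by
          rw [Units.val_mul, ← mulVec_mulVec, hDx, hmx, Equiv.symm_apply_apply, Equiv.Perm.mul_apply,
            Equiv.Perm.mul_apply, show σ⁻¹ (σ p) = p from Equiv.symm_apply_apply σ p]
          have := div_mul_cancel₀ (z p) (hW0 p)
          simp only [ht]
          rw [mul_assoc, mul_assoc]
          exact congrArg _ this
      _ = 0 := by
          rw [Fin.sum_univ_eight]; simp [hz, hev]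
          linear_combination (ζ * A) * hv - (ζ * A) * hv'

/-- The monomial subgroup in dimension eight. -/
theorem eq_suGL_of_eight [DecidableEq F] (hn : n = 8) (hq : 3 ≤ q) (hH : H ≤ suGL n F q) (hM : ContainsMono q H)
    {g : GL (Fin n) F} (hg : g ∈ H) (hgm : ¬ IsMono g) : H = suGL n F q := by
  classical
  have hq0 := q_ne_zero hF
  by_cases hzero : ∃ i k, ((g : Matrix (Fin n) (Fin n) F) *ᵥ Pi.single i 1) k = 0
  · obtain ⟨i, k, hik⟩ := hzero
    exact eq_suGL_of_entry_zero_eight hF hn hq hH hM hg hgm hik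
  push Not at hzero
  set j : Fin n := ⟨0, by omega⟩
  obtain ⟨m, D, a, b, μ, ν, hm, hD, hab, hμν, hDx, hmu, hDmu⟩ :=
    exists_orthogonal_shift_eight hF hn hq hM ((g : Matrix (Fin n) (Fin n) F) *ᵥ Pi.single j 1) (hzero j)
  have hstep : ∀ y ∈ H, h ((y : Matrix (Fin n) (Fin n) F) *ᵥ ((g : Matrix (Fin n) (Fin n) F) *ᵥ Pi.single j 1))
      ((g : Matrix (Fin n) (Fin n) F) *ᵥ Pi.single j 1) = 0 → ¬ IsMono (g⁻¹ * y * g) → H = suGL n F q := by
    intro y hy hyu hym
    refine eq_suGL_of_entry_zero_eight hF hn hq hH hM (H.mul_mem (H.mul_mem (H.inv_mem hg) hy) hg) hym (i := j) (k := j) ?_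
    rw [← mulVec_inv_mulVec g ((y : Matrix (Fin n) (Fin n) F) *ᵥ _), apply_K (hH hg), herm_single_right hq0,
      one_pow, mul_one] at hyu
    rw [Units.val_mul, Units.val_mul, ← mulVec_mulVec, ← mulVec_mulVec]
    exact hyu
  by_cases h1 : IsMono (g⁻¹ * m * g)
  · refine hstep _ (H.mul_mem hD hm) hDmu fun h2 => ?_
    refine not_isMono_pair_conj hF (by omega) (hH hg) hzero hab hμν hDx ?_
    have := h2.mul h1.inv
    rwa [show g⁻¹ * (D * m) * g * (g⁻¹ * m * g)⁻¹ = g⁻¹ * D * g by group] at this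
  · exact hstep m hm hmu h1

/-- The stabiliser of an orthogonal decomposition into lines is maximal in dimension eight. -/
theorem isMaximalIn_decomp_one_eight (hn : n = 8) {t : ℕ} {D : Fin t → Submodule F Vs}
    (hD : Cfsg.Geo.IsNondegenerateMDecomposition (Cfsg.hermForm n F q) 1 D) :
    Cfsg.Geo.IsMaximalIn (suGL n F q) (Cfsg.Geo.decompositionStabilizer D ⊓ suGL n F q) := by
  classical
  refine isMaximalIn_decomp_one_of_core hF (by omega) (fun H hH hM ⟨g, hg, hgm⟩ => ?_) hD
  rcases Nat.lt_or_ge q 3 with hq | hq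
  · have hq2 : q = 2 := by have := two_le_of_card_sq hF; omega
    have h2 : (2 : F) = 0 := by
      have := FiniteField.cast_card_eq_zero F
      rw [hF, hq2] at this
      exact mul_self_eq_zero.mp (by push_cast at this; linear_combination this)
    exact eq_suGL_of_even hF (by omega) (by omega) (by omega) h2 hH hM hg hgm
  · exact eq_suGL_of_eight hF hn hq hH hM hg hgm

end Cfsg.Agent.Lib.UnitaryMax
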