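import Cfsg.Agent.Lib.UnitaryMax.FrameBase

/-!
Overgroups of the monomial subgroup with an element fixing one coordinate line.
-/

set_option autoImplicit false
set_option linter.unusedSectionVars false

namespace Cfsg.Agent.Lib.UnitaryMax

open Matrix Cfsg.Agent.Lib.Forms Cfsg.Agent.Lib.FormMax

variable {F : Type*} [Field F] [Fintype F] {n q : ℕ}

local notation "Vs" => (Fin n → F)
local notation "h" => Cfsg.hermForm n F q

/-- A unit vector orthogonal to the `m`th one, with all its quasi-reflections (compensated at `m`) in `H`. -/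
def Axis (q : ℕ) (H : Subgroup (GL (Fin n) F)) (m : Fin n) (v : Vs) : Prop :=
  Cfsg.hermForm n F q v v = 1 ∧ v m = 0 ∧ ∀ ζ : F, ζ * ζ ^ q = 1 →
    ∃ g ∈ H, ∀ x : Vs, (g : Matrix (Fin n) (Fin n) F) *ᵥ x =
      x + ((ζ - 1) * Cfsg.hermForm n F q x v) • v + ((ζ ^ q - 1) * x m) • Pi.single m (1 : F)

variable (hF : Fintype.card F = q ^ 2) {H : Subgroup (GL (Fin n) F)}
include hF

/-- The norms along a translated circle take many values. -/
theorem card_circle_norm [DecidableEq F] {x y : F} (hx : x ≠ 0) (hy : y ≠ 0) :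
    q + 1 ≤ 2 * ((normOne q F).image fun c => (x + y * c) * (x + y * c) ^ q).card := by
  rw [← card_normOne hF]
  refine Finset.card_le_mul_card_image_of_maps_to (fun c hc => Finset.mem_image_of_mem _ hc) 2 fun K _ => ?_
  refine le_trans (Finset.card_le_card fun c hc => ?_) (card_quadratic_le (F := F) (a := x ^ q * y)
    (b := x * x ^ q + y * y ^ q - K) (c := x * y ^ q) (mul_ne_zero (pow_ne_zero _ hx) hy))
  simp only [Finset.mem_filter, mem_normOne, Finset.mem_univ, true_and] at hc ⊢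
  obtain ⟨hc1, hc2⟩ := hc
  rw [q_add hF, mul_pow] at hc2
  linear_combination c * hc2 + (-(x * y ^ q) - c * y * y ^ q) * hc1

/-- Three circles cover all nonzero elements. -/
theorem exists_three [DecidableEq F] {c₁ c₂ c₃ T : F} (h₁ : c₁ ≠ 0) (h₂ : c₂ ≠ 0) (h₃ : c₃ ≠ 0) (hT : T ≠ 0) :
    ∃ a ∈ normOne q F, ∃ b ∈ normOne q F, ∃ c ∈ normOne q F, c₁ * a + c₂ * b + c₃ * c = T := by
  have hA := card_circle_norm hF hT (neg_ne_zero.mpr h₃)
  have hB := card_circle_norm hF h₁ h₂
  have hfix : ∀ x : F, x * x ^ q ∈ fixedField q F := fun x => mem_fixedField.mpr (by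
    rw [mul_pow, pow_q_pow_q hF, mul_comm])
  obtain ⟨K, hKA, hKB⟩ : ∃ K ∈ (normOne q F).image fun c => (T + -c₃ * c) * (T + -c₃ * c) ^ q,
      K ∈ (normOne q F).image fun b => (c₁ + c₂ * b) * (c₁ + c₂ * b) ^ q := by
    by_contra hno
    push Not at hno
    have hd := Finset.card_union_of_disjoint (Finset.disjoint_left.mpr hno)
    have h1 := Finset.card_le_card (Finset.union_subset
      (Finset.image_subset_iff.mpr fun c (_ : c ∈ normOne q F) => hfix (T + -c₃ * c))
      (Finset.image_subset_iff.mpr fun b (_ : b ∈ normOne q F) => hfix (c₁ + c₂ * b)))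
    rw [hd, card_fixedField hF] at h1
    omega
  obtain ⟨c, hc, hcK⟩ := Finset.mem_image.mp hKA
  obtain ⟨b, hb, hbK⟩ := Finset.mem_image.mp hKB
  have hq0 := q_ne_zero hF
  by_cases h0 : c₁ + c₂ * b = 0
  · have h4 : T + -c₃ * c = 0 := by
      rw [h0, zero_mul] at hbK
      rw [← hbK] at hcK
      by_contra hne
      exact mul_ne_zero hne (pow_ne_zero _ hne) hcK
    exact ⟨1, one_mem_normOne hF, b, hb, c, hc, by linear_combination h0 - h4⟩
  · set a := (T + -c₃ * c) / (c₁ + c₂ * b) with ha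
    have hau : a ∈ normOne q F := mem_normOne.mpr (by
      rw [ha, div_pow, div_mul_div_comm, hcK, hbK, div_self]
      rw [← hbK]
      exact mul_ne_zero h0 (pow_ne_zero _ h0))
    have ha' : a * (c₁ + c₂ * b) = T + -c₃ * c := div_mul_cancel₀ _ h0
    exact ⟨a, hau, a * b, normOne_mul hF hau hb, c, hc, by linear_combination ha'⟩

theorem axis_single (hM : ContainsMono q H) {l m : Fin n} (hlm : l ≠ m) :
    Axis q H m (Pi.single l (1 : F)) := by
  have hq0 := q_ne_zero hF
  refine ⟨by rw [herm_single_left, Pi.single_eq_same, one_pow, one_mul], Pi.single_eq_of_ne hlm.symm _,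
    fun ζ hζ => ?_⟩
  obtain ⟨g, hg, -, -, hgl, hgm, hgo⟩ := exists_torus hF hM hlm hζ
  refine ⟨g, hg, fun x => funext fun a => ?_⟩
  rw [herm_single_right hq0, one_pow, mul_one]
  rcases eq_or_ne a l with rfl | hal
  · simp [hgl, Pi.single_eq_of_ne hlm]; ring
  rcases eq_or_ne a m with rfl | ham
  · simp [hgm, Pi.single_eq_of_ne hlm.symm]; ring
  · simp [hgo x a hal ham, hal, ham]

theorem Axis.map (hH : H ≤ suGL n F q) {m : Fin n} {v : Vs} (hv : Axis q H m v) {g : GL (Fin n) F}
    (hg : g ∈ H) {c : F} (hgm : (g : Matrix (Fin n) (Fin n) F) *ᵥ Pi.single m 1 = c • Pi.single m 1) :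
    Axis q H m ((g : Matrix (Fin n) (Fin n) F) *ᵥ v) := by
  have hq0 := q_ne_zero hF
  obtain ⟨hv1, hvm, hvR⟩ := hv
  have hc : c * c ^ q = 1 := by
    have h1 := apply_K (hH hg) (Pi.single m 1) (Pi.single m 1)
    rw [hgm, herm_smul_left hF, herm_smul_right hF, herm_single_left, Pi.single_eq_same, one_pow] at h1
    linear_combination h1
  have hinv : ∀ x : Vs, (((g⁻¹ : GL (Fin n) F) : Matrix (Fin n) (Fin n) F) *ᵥ x) m = c ^ q * x m := by
    intro x
    have h1 := apply_K (hH hg) (((g⁻¹ : GL (Fin n) F) : Matrix (Fin n) (Fin n) F) *ᵥ x) (Pi.single m 1)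
    rw [mulVec_inv_mulVec, hgm, herm_smul_right hF, herm_single_right hq0, herm_single_right hq0, one_pow,
      mul_one, mul_one] at h1
    exact h1.symm
  refine ⟨by rw [apply_K (hH hg), hv1], ?_, fun ζ hζ => ?_⟩
  · have h1 := hinv ((g : Matrix (Fin n) (Fin n) F) *ᵥ v)
    rw [inv_mulVec_mulVec, hvm] at h1
    exact (mul_eq_zero.mp h1.symm).resolve_left (pow_ne_zero _ (left_ne_zero_of_mul_eq_one hc))
  · obtain ⟨r, hr, hrv⟩ := hvR ζ hζ
    refine ⟨g * r * g⁻¹, H.mul_mem (H.mul_mem hg hr) (H.inv_mem hg), fun x => ?_⟩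
    rw [Units.val_mul, Units.val_mul, ← mulVec_mulVec, ← mulVec_mulVec, hrv, mulVec_add, mulVec_add,
      mulVec_smul, mulVec_smul, mulVec_inv_mulVec, hgm, hinv, smul_smul]
    have h1 := apply_K (hH hg) (((g⁻¹ : GL (Fin n) F) : Matrix (Fin n) (Fin n) F) *ᵥ x) v
    rw [mulVec_inv_mulVec] at h1
    rw [h1]
    congr 2
    linear_combination ((ζ ^ q - 1) * x m) * hc

/-- An element fixing one coordinate line, and not monomial, forces everything. -/
theorem eq_suGL_of_fix (hn : 6 ≤ n) (hH : H ≤ suGL n F q) (hM : ContainsMono q H) {z : GL (Fin n) F}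
    (hz : z ∈ H) (hzmono : ¬ IsMono z) {m : Fin n} {c : F}
    (hzm : (z : Matrix (Fin n) (Fin n) F) *ᵥ Pi.single m 1 = c • Pi.single m 1) : H = suGL n F q := by
  classical
  have hq0 := q_ne_zero hF
  let supp : Vs → Finset (Fin n) := fun v => Finset.univ.filter fun l => v l ≠ 0
  have hsupp : ∀ v l, l ∈ supp v ↔ v l ≠ 0 := fun v l => by simp [supp]
  -- a first axis of weight at least two
  obtain ⟨v₀, hv₀, hv₀2⟩ : ∃ v, Axis q H m v ∧ 2 ≤ (supp v).card := by
    obtain ⟨l, hl⟩ := not_forall.mp hzmono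
    have hlm : l ≠ m := fun e => hl ⟨m, c, e ▸ hzm⟩
    refine ⟨_, (axis_single hF hM hlm).map hF hH hz hzm, ?_⟩
    by_contra hlt
    obtain ⟨o, ho⟩ : ∃ o, supp ((z : Matrix (Fin n) (Fin n) F) *ᵥ Pi.single l 1) ⊆ {o} := by
      rcases Finset.eq_empty_or_nonempty (supp ((z : Matrix (Fin n) (Fin n) F) *ᵥ Pi.single l 1)) with e | ⟨o, ho⟩
      · exact ⟨l, by rw [e]; exact Finset.empty_subset _⟩
      · exact ⟨o, fun a ha => Finset.mem_singleton.mpr (Finset.card_le_one.mp (by omega) a ha o ho)⟩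
    refine hl ⟨o, ((z : Matrix (Fin n) (Fin n) F) *ᵥ Pi.single l 1) o, funext fun a => ?_⟩
    rcases eq_or_ne a o with rfl | hao
    · simp
    · rw [Pi.smul_apply, Pi.single_eq_of_ne hao, smul_zero]
      by_contra h0
      exact hao (Finset.mem_singleton.mp (ho ((hsupp _ a).mpr h0)))
  -- more weight
  have hgrow : ∀ v, Axis q H m v → 2 ≤ (supp v).card → (supp v).card ≤ 3 →
      ∃ v', Axis q H m v' ∧ 2 * (supp v).card ≤ (supp v').card + 1 := by
    intro v hv h2 h4
    obtain ⟨hv1, hvm, -⟩ := id hv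
    obtain ⟨l₀, hl₀⟩ := Finset.card_pos.mp (by omega : 0 < (supp v).card)
    set A := (supp v).erase l₀ with hA
    have hAc : A.card = (supp v).card - 1 := Finset.card_erase_of_mem hl₀
    have hmA : m ∉ A := fun e => (hsupp v m).mp (Finset.mem_of_mem_erase e) hvm
    obtain ⟨B, hB, hBc⟩ := Finset.exists_subset_card_eq (s := (insert m (supp v))ᶜ) (n := A.card) (by
      rw [Finset.card_compl, Fintype.card_fin]
      have := Finset.card_insert_le m (supp v)
      omega)
    have hBmem : ∀ b ∈ B, b ≠ m ∧ v b = 0 := fun b hb => by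
      have := hB hb
      simp only [Finset.mem_compl, Finset.mem_insert, hsupp, not_or, not_not] at this
      exact this
    have hAB : ∀ a ∈ A, a ∉ B := fun a ha hb =>
      (hsupp v a).mp (Finset.mem_of_mem_erase ha) (hBmem a hb).2
    let e := Finset.equivOfCardEq hBc.symm
    let f : Fin n → Fin n := fun l =>
      if hl : l ∈ A then (e ⟨l, hl⟩ : Fin n) else if hl' : l ∈ B then (e.symm ⟨l, hl'⟩ : Fin n) else l
    have hf : Function.Involutive f := by
      intro l
      by_cases hl : l ∈ A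
      · have h1 : (e ⟨l, hl⟩ : Fin n) ∈ B := (e ⟨l, hl⟩).2
        have h2 : (e ⟨l, hl⟩ : Fin n) ∉ A := fun ha => hAB _ ha h1
        simp [f, hl, h1, h2]
      · by_cases hl' : l ∈ B
        · have h1 : (e.symm ⟨l, hl'⟩ : Fin n) ∈ A := (e.symm ⟨l, hl'⟩).2
          simp [f, hl, hl', h1]
        · simp [f, hl, hl']
    set σ := hf.toPerm f with hσ
    have hσv : ∀ l, σ l = f l := fun l => rfl
    have hσm : σ m = m := by
      rw [hσv]
      have : m ∉ B := fun hb => (hBmem m hb).1 rfl
      simp [f, hmA, this]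
    obtain ⟨g, hg, -, -, hgx, c', -, hgm⟩ := exists_phased hF hM σ m (fun _ => (1 : F)) (fun _ _ => by simp)
    have hgem : (g : Matrix (Fin n) (Fin n) F) *ᵥ Pi.single m 1 = c' • Pi.single m 1 := by
      funext a
      rcases eq_or_ne a m with rfl | ham
      · simp [hgm, hσm]
      · rw [hgx _ _ ham, one_mul, Pi.smul_apply, Pi.single_eq_of_ne ham, smul_zero,
          Pi.single_eq_of_ne (fun e' => ham (σ.injective (e'.trans hσm.symm)))]
    set v' := (g : Matrix (Fin n) (Fin n) F) *ᵥ v with hv'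
    have hv'a := hv.map hF hH hg hgem
    rw [← hv'] at hv'a
    obtain ⟨-, hv'm, hR⟩ := id hv'a
    have hv'l : ∀ l, l ≠ m → v' l = v (σ l) := fun l hl => by rw [hv', hgx _ _ hl, one_mul]
    have hl₀m : l₀ ≠ m := fun e' => (hsupp v l₀).mp hl₀ (e' ▸ hvm)
    have hσl₀ : σ l₀ = l₀ := by
      rw [hσv]
      have h1 : l₀ ∉ B := fun hb => (hsupp v l₀).mp hl₀ (hBmem l₀ hb).2
      simp [f, hA, h1]
    have hv'l₀ : v' l₀ = v l₀ := by rw [hv'l l₀ hl₀m, hσl₀]
    have hv'A : ∀ a ∈ A, v' a = 0 := fun a ha => by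
      rw [hv'l a (fun e' => hmA (e' ▸ ha)), hσv]
      simp only [f, dif_pos ha]
      exact (hBmem _ (e ⟨a, ha⟩).2).2
    have hv'B : ∀ b ∈ B, v' b ≠ 0 := fun b hb => by
      rw [hv'l b (hBmem b hb).1, hσv]
      simp only [f, dif_neg (fun ha => hAB b ha hb), dif_pos hb]
      exact (hsupp v _).mp (Finset.mem_of_mem_erase (e.symm ⟨b, hb⟩).2)
    have hprod : h v v' = v l₀ * v l₀ ^ q := by
      rw [Cfsg.hermForm, Finset.sum_eq_single l₀ (fun a _ hal => ?_) (by simp), hv'l₀]
      by_cases ha : v a = 0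
      · rw [ha, zero_mul]
      · rw [hv'A a (Finset.mem_erase.mpr ⟨hal, (hsupp v a).mpr ha⟩), q_zero hF, mul_zero]
    have hv0 : v l₀ ≠ 0 := (hsupp v l₀).mp hl₀
    set N := v l₀ * v l₀ ^ q with hN
    have hN0 : N ≠ 0 := mul_ne_zero hv0 (pow_ne_zero _ hv0)
    obtain ⟨ζ, hζ, hζ1, hζN⟩ : ∃ ζ : F, ζ * ζ ^ q = 1 ∧ ζ ≠ 1 ∧ 1 + (ζ - 1) * N ≠ 0 := by
      obtain ⟨ζ, hζ, hζ'⟩ := Finset.exists_mem_notMem_of_card_lt_card (s := ({1, 1 - N⁻¹} : Finset F))
        (t := normOne q F) (by
          rw [card_normOne hF]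
          have := Finset.card_le_two (a := (1 : F)) (b := 1 - N⁻¹)
          have := two_le_of_card_sq hF
          omega)
      simp only [Finset.mem_insert, Finset.mem_singleton, not_or] at hζ'
      refine ⟨ζ, mem_normOne.mp hζ, hζ'.1, fun e' => hζ'.2 ?_⟩
      field_simp
      linear_combination e'
    obtain ⟨r, hr, hrx⟩ := hR ζ hζ
    have hrm : (r : Matrix (Fin n) (Fin n) F) *ᵥ Pi.single m 1 = ζ ^ q • Pi.single m 1 := by
      rw [hrx, herm_single_left, hv'm, q_zero hF, mul_zero, mul_zero, zero_smul, add_zero, Pi.single_eq_same,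
        mul_one, sub_smul, one_smul, add_sub_cancel]
    have hrv : (r : Matrix (Fin n) (Fin n) F) *ᵥ v = v + ((ζ - 1) * N) • v' := by
      rw [hrx, hprod, hvm, mul_zero, zero_smul, add_zero]
    refine ⟨_, hv.map hF hH hr hrm, ?_⟩
    rw [hrv]
    have hsub : supp v ∪ B ⊆ supp (v + ((ζ - 1) * N) • v') := by
      intro a ha
      rw [hsupp, Pi.add_apply, Pi.smul_apply, smul_eq_mul]
      rcases Finset.mem_union.mp ha with ha | ha
      · rcases eq_or_ne a l₀ with rfl | hal
        · rw [hv'l₀]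
          intro e'
          exact hζN ((mul_eq_zero.mp (show v a * (1 + (ζ - 1) * N) = 0 by linear_combination e')).resolve_left hv0)
        · rw [hv'A a (Finset.mem_erase.mpr ⟨hal, ha⟩), mul_zero, add_zero]
          exact (hsupp v a).mp ha
      · rw [(hBmem a ha).2, zero_add]
        exact mul_ne_zero (mul_ne_zero (sub_ne_zero.mpr hζ1) hN0) (hv'B a ha)
    have h1 := Finset.card_le_card hsub
    rw [Finset.card_union_of_disjoint (Finset.disjoint_left.mpr fun a ha hb =>
      (hsupp v a).mp ha (hBmem a hb).2)] at h1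
    omega
  obtain ⟨v, hv, hv4⟩ : ∃ v, Axis q H m v ∧ 4 ≤ (supp v).card := by
    by_cases h4 : 4 ≤ (supp v₀).card
    · exact ⟨v₀, hv₀, h4⟩
    obtain ⟨v₁, hv₁, hc₁⟩ := hgrow v₀ hv₀ hv₀2 (by omega)
    by_cases h4' : 4 ≤ (supp v₁).card
    · exact ⟨v₁, hv₁, h4'⟩
    obtain ⟨v₂, hv₂, hc₂⟩ := hgrow v₁ hv₁ (by omega) (by omega)
    exact ⟨v₂, hv₂, by omega⟩
  obtain ⟨hv1, hvm, hvR⟩ := id hv
  -- singular differences of axes
  have hmake : ∀ e : Vs, (∀ l, e l * e l ^ q = 1) → e m = 1 → ∑ l, (e l - 1) * (v l * v l ^ q) = 0 →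
      (fun l => (e l - 1) * v l) ∈ root q H := by
    intro e he hem hsum
    set w : Vs := fun l => (e l - 1) * v l with hw
    obtain ⟨g, hg, hgK, -, hgx, c', -, hgm⟩ := exists_phased hF hM (1 : Equiv.Perm (Fin n)) m e (fun l _ => he l)
    have hgem : (g : Matrix (Fin n) (Fin n) F) *ᵥ Pi.single m 1 = c' • Pi.single m 1 := by
      funext a
      rcases eq_or_ne a m with rfl | ham
      · simp [hgm]
      · simp [hgx _ _ ham, ham]
    have hgv : (g : Matrix (Fin n) (Fin n) F) *ᵥ v = v + w := by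
      funext a
      rcases eq_or_ne a m with rfl | ham
      · simp [hgm, hw, hvm, hem]
      · simp [hgx _ _ ham, hw]; ring
    have hwv : h w v = 0 := by
      rw [← hsum, Cfsg.hermForm]
      exact Finset.sum_congr rfl fun l _ => by rw [hw]; ring
    have hvw : h v w = 0 := h_symm hF hwv
    have hww : h w w = 0 := by
      have h1 := apply_K hgK v v
      rw [hgv, herm_add_left hF, herm_add_right hF, herm_add_right hF, hvw, hwv] at h1
      linear_combination h1
    have hwm : w m = 0 := by simp [hw, hvm]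
    have hvw' := hv.map hF hH hg hgem
    rw [hgv] at hvw'
    -- Eichler elements
    have hA : ∀ α : F, α * α ^ q = 1 → ∃ A ∈ H, ∀ x : Vs, (A : Matrix (Fin n) (Fin n) F) *ᵥ x =
        x + (-(h x w) * (α - 1)) • v + ((α ^ q - 1) * h x v + (α ^ q - 1) * h x w) • w := by
      intro α hα
      obtain ⟨r₁, hr₁, hr₁x⟩ := hvR α hα
      obtain ⟨r₂, hr₂, hr₂x⟩ := hvw'.2.2 (α ^ q) (by rw [pow_q_pow_q hF, mul_comm]; exact hα)
      refine ⟨r₁ * r₂, H.mul_mem hr₁ hr₂, fun x => ?_⟩
      rw [Units.val_mul, ← mulVec_mulVec, hr₂x, hr₁x, pow_q_pow_q hF]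
      simp only [herm_add_left hF, herm_smul_left hF, herm_add_right hF, hv1, hwv,
        herm_single_left, Pi.add_apply, Pi.smul_apply, Pi.single_eq_same, hvm, hwm, q_zero hF, smul_eq_mul]
      match_scalars
      · ring
      · linear_combination (h x v + h x w) * hα
      · ring
      · linear_combination (x m) * hα
    have hP : ∀ α β : F, α * α ^ q = 1 → β * β ^ q = 1 →
        T w ((α - 1) * (β ^ q - 1) - ((α - 1) * (β ^ q - 1)) ^ q) hww ∈ H := by
      intro α β hα hβ
      obtain ⟨A, hAH, hAx⟩ := hA α hα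
      obtain ⟨B, hBH, hBx⟩ := hA β hβ
      have e' : A * B = T w ((α - 1) * (β ^ q - 1) - ((α - 1) * (β ^ q - 1)) ^ q) hww * (B * A) := by
        refine gl_ext fun x => ?_
        simp only [Units.val_mul, ← mulVec_mulVec, T_mulVec, hAx, hBx, herm_add_left hF, herm_smul_left hF,
          hww, hwv, hvw, hv1, mul_pow, q_sub hF, one_pow, pow_q_pow_q hF]
        match_scalars <;> ring
      have h1 := H.mul_mem (H.mul_mem hAH hBH) (H.inv_mem (H.mul_mem hBH hAH))
      rwa [e', mul_inv_cancel_right] at h1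
    let G : AddSubgroup F :=
      { carrier := {P | T w (P - P ^ q) hww ∈ H}
        zero_mem' := by
          show T w (0 - 0 ^ q) hww ∈ H
          have : T w ((0 : F) - 0 ^ q) hww = 1 := gl_ext fun x => by
            rw [T_mulVec, q_zero hF, sub_zero, zero_mul, zero_smul, add_zero, Units.val_one, one_mulVec]
          rw [this]; exact H.one_mem
        add_mem' := by
          intro a b ha hb
          show T w (a + b - (a + b) ^ q) hww ∈ H
          have : T w (a + b - (a + b) ^ q) hww = T w (a - a ^ q) hww * T w (b - b ^ q) hww := gl_ext fun x => by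
            rw [Units.val_mul, ← mulVec_mulVec, T_mulVec, T_mulVec, T_mulVec, herm_add_left hF,
              herm_smul_left hF, hww, q_add hF]
            module
          rw [this]; exact H.mul_mem ha hb
        neg_mem' := by
          intro a ha
          show T w (-a - (-a) ^ q) hww ∈ H
          have : T w (-a - (-a) ^ q) hww = (T w (a - a ^ q) hww)⁻¹ := eq_inv_of_mul_eq_one_left (gl_ext fun x => by
            rw [Units.val_mul, ← mulVec_mulVec, T_mulVec, T_mulVec, herm_add_left hF,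
              herm_smul_left hF, hww, q_neg hF, Units.val_one, one_mulVec]
            module)
          rw [this]; exact H.inv_mem ha }
    have hgen : ∀ α β : F, α ∈ normOne q F → β ∈ normOne q F → (α - 1) * (β - 1) ∈ G := by
      intro α β hα hβ
      have h1 := hP α (β ^ q) (mem_normOne.mp hα) (mem_normOne.mp (normOne_conj hF hβ))
      rw [pow_q_pow_q hF] at h1
      exact h1
    obtain ⟨ω, hω, hω1, -, -⟩ := exists_omega hF
    have hscale : ∀ γ ∈ normOne q F, γ * ((ω - 1) * (ω - 1)) ∈ G := by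
      intro γ hγ
      have h1 := G.sub_mem (hgen (γ * ω) ω (normOne_mul hF hγ hω) hω) (hgen γ ω hγ hω)
      rwa [show (γ * ω - 1) * (ω - 1) - (γ - 1) * (ω - 1) = γ * ((ω - 1) * (ω - 1)) by ring] at h1
    have hall : ∀ P : F, P ∈ G := by
      intro P
      set p₀ := (ω - 1) * (ω - 1) with hp₀
      have hp0 : p₀ ≠ 0 := mul_ne_zero (sub_ne_zero.mpr hω1) (sub_ne_zero.mpr hω1)
      obtain ⟨a, ha, b, hb, a', ha', b', hb', hsum'⟩ := exists_four hF (one_ne_zero (α := F)) (one_ne_zero (α := F))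
        (one_ne_zero (α := F)) (one_ne_zero (α := F)) (P / p₀)
      have h1 := G.add_mem (G.add_mem (hscale a ha) (hscale b hb)) (G.add_mem (hscale a' ha') (hscale b' hb'))
      have e' : P = a * p₀ + b * p₀ + (a' * p₀ + b' * p₀) := by
        rw [← div_mul_cancel₀ P hp0, ← hsum']; ring
      rw [e']; exact h1
    obtain ⟨τ, hτ⟩ := exists_trace_one hF
    refine ⟨hww, fun c'' hc'' => ?_⟩
    have h1 : T w (τ * c'' - (τ * c'') ^ q) hww ∈ H := hall (τ * c'')
    rwa [show τ * c'' - (τ * c'') ^ q = c'' by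
      rw [mul_pow, eq_neg_of_add_eq_zero_right hc'']; linear_combination c'' * hτ] at h1
  by_cases hq2 : q = 2
  · -- weight four over four elements
    have hcard4 : Fintype.card F = 4 := by rw [hF, hq2]; norm_num
    have h2 : (2 : F) = 0 := by
      have := FiniteField.cast_card_eq_zero F
      rw [hcard4] at this
      push_cast at this
      exact mul_self_eq_zero.mp (show (2 : F) * 2 = 0 by linear_combination this)
    obtain ⟨s, hs, hs4⟩ := Finset.exists_subset_card_eq (show 4 ≤ (supp v).card by omega)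
    obtain ⟨ω, hω, hω1, hω0⟩ := exists_norm_one hF
    have hN : ∀ a : F, a ≠ 0 → a * a ^ q = 1 := fun a ha => by
      have := FiniteField.pow_card_sub_one_eq_one a ha
      rw [hcard4] at this
      rw [hq2]; linear_combination this
    set e : Vs := fun l => if l ∈ s then ω else 1 with he
    have hms : m ∉ s := fun hm => (hsupp v m).mp (hs hm) hvm
    have hw := hmake e (fun l => by simp only [he]; split_ifs <;> simp [hω]) (by simp [he, hms]) (by
      rw [← Finset.sum_subset (Finset.subset_univ s) (fun l _ hl => by simp [he, hl]),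
        Finset.sum_congr rfl (g := fun _ => ω - 1) (fun l hl => by simp [he, hl, hN _ ((hsupp v l).mp (hs hl))]),
        Finset.sum_const, hs4, nsmul_eq_mul]
      push_cast
      linear_combination (2 * (ω - 1)) * h2)
    obtain ⟨k, hk⟩ := Finset.card_pos.mp (by omega : 0 < s.card)
    have hsw : ∀ l, l ∈ s ↔ (e l - 1) * v l ≠ 0 := fun l => by
      by_cases hl : l ∈ s
      · simp [he, hl, sub_ne_zero.mpr hω1, (hsupp v l).mp (hs hl)]
      · simp [he, hl]
    exact eq_suGL_of_root hF (by omega) (fun _ => hn) hH hM hw ((hsw k).mp hk) (o := m) (by simp [hvm])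
      fun _ => ⟨_, hw, s, hs4, hsw⟩
  · obtain ⟨s, hs, hs4⟩ := Finset.exists_subset_card_eq hv4
    set f := s.orderEmbOfFin hs4 with hf
    have hfv : ∀ i, v (f i) ≠ 0 := fun i => (hsupp v _).mp (hs (Finset.orderEmbOfFin_mem s hs4 i))
    have hfm : ∀ i, f i ≠ m := fun i e' => hfv i (e' ▸ hvm)
    have hr : ∀ i, v (f i) * v (f i) ^ q ≠ 0 := fun i => mul_ne_zero (hfv i) (pow_ne_zero _ (hfv i))
    set r : Fin 4 → F := fun i => v (f i) * v (f i) ^ q with hrdef
    obtain ⟨ω, hω, hω1, hT⟩ : ∃ ω ∈ normOne q F, ω ≠ 1 ∧ r 0 + r 1 + r 2 + r 3 - r 3 * ω ≠ 0 := by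
      obtain ⟨ω, hω, hω'⟩ := Finset.exists_mem_notMem_of_card_lt_card
        (s := ({1, (r 0 + r 1 + r 2 + r 3) / r 3} : Finset F)) (t := normOne q F) (by
          rw [card_normOne hF]
          have := Finset.card_le_two (a := (1 : F)) (b := (r 0 + r 1 + r 2 + r 3) / r 3)
          have := two_le_of_card_sq hF
          omega)
      simp only [Finset.mem_insert, Finset.mem_singleton, not_or] at hω'
      refine ⟨ω, hω, hω'.1, fun e => hω'.2 ?_⟩
      rw [eq_div_iff (show r 3 ≠ 0 from hr 3)]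
      linear_combination -e
    obtain ⟨a, ha, b, hb, c', hc', hsum⟩ := exists_three hF (show r 0 ≠ 0 from hr 0) (show r 1 ≠ 0 from hr 1)
      (show r 2 ≠ 0 from hr 2) hT
    set ε : Fin 4 → F := ![a, b, c', ω] with hε
    set e : Vs := Function.extend f ε 1 with he
    have hef : ∀ i, e (f i) = ε i := fun i => f.injective.extend_apply ε 1 i
    have heo : ∀ l, (∀ i, f i ≠ l) → e l = 1 := fun l hl =>
      Function.extend_apply' ε (1 : Vs) l fun ⟨i, hi⟩ => hl i hi
    have hw := hmake e (fun l => by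
        by_cases hl : ∃ i, f i = l
        · obtain ⟨i, rfl⟩ := hl
          rw [hef]
          fin_cases i <;> simp [hε, mem_normOne.mp ha, mem_normOne.mp hb, mem_normOne.mp hc', mem_normOne.mp hω]
        · push Not at hl
          rw [heo l hl]; simp) (heo m hfm) (by
      rw [← Finset.sum_subset (Finset.subset_univ (Finset.univ.map f.toEmbedding)) (fun l _ hl => by
        rw [heo l (fun i e' => hl (by simp [← e']))]; ring), Finset.sum_map]
      simp only [RelEmbedding.coe_toEmbedding, hef, Fin.sum_univ_four]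
      simp only [hrdef] at hsum
      simp [hε]
      linear_combination hsum)
    refine eq_suGL_of_root hF (by omega) (fun _ => hn) hH hM hw (k := f 3) (o := m) ?_ (by simp [hvm]) fun e' => absurd e' hq2
    simp [hef, hε, sub_ne_zero.mpr hω1, hfv 3]

end Cfsg.Agent.Lib.UnitaryMax
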