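import Cfsg.Agent.Lib.UnitaryMax.FrameFix
import Cfsg.Agent.Lib.UnitaryMax.CircleSum

/-!
Overgroups of the monomial subgroup of the special unitary group.
-/

set_option autoImplicit false
set_option linter.unusedSectionVars false

namespace Cfsg.Agent.Lib.UnitaryMax

open Matrix Cfsg.Agent.Lib.Forms Cfsg.Agent.Lib.FormMax

variable {F : Type*} [Field F] [Fintype F] {n q : ℕ}

local notation "Vs" => (Fin n → F)
local notation "h" => Cfsg.hermForm n F q

theorem IsMono.exists_map {g : GL (Fin n) F} (hg : IsMono g) :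
    ∃ (π : Fin n → Fin n) (c : Vs), Function.Injective π ∧ (∀ l, c l ≠ 0) ∧
      ∀ l, (g : Matrix (Fin n) (Fin n) F) *ᵥ Pi.single l 1 = c l • Pi.single (π l) 1 := by
  choose π c hc using hg
  have hc0 : ∀ l, c l ≠ 0 := fun l e => single_ne_zero' (F := F) l (by
    rw [← inv_mulVec_mulVec g (Pi.single l 1), hc, e, zero_smul, mulVec_zero])
  refine ⟨π, c, fun a b e => ?_, hc0, hc⟩
  by_contra hne
  have h1 : (g : Matrix (Fin n) (Fin n) F) *ᵥ (c b • Pi.single a 1 - c a • Pi.single b 1) = 0 := by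
    rw [mulVec_sub, mulVec_smul, mulVec_smul, hc, hc, e, smul_smul, smul_smul, mul_comm (c b), sub_self]
  have h2 := congrArg (((g⁻¹ : GL (Fin n) F) : Matrix (Fin n) (Fin n) F) *ᵥ ·) h1
  simp only [inv_mulVec_mulVec, mulVec_zero] at h2
  have h3 := congrFun h2 a
  simp [Pi.single_eq_of_ne hne] at h3
  exact hc0 b h3

/-- An entry as a sum over the columns. -/
theorem mulVec_eq_sum_col (g : GL (Fin n) F) (x : Vs) (k : Fin n) :
    ((g : Matrix (Fin n) (Fin n) F) *ᵥ x) k =
      ∑ l, x l * ((g : Matrix (Fin n) (Fin n) F) *ᵥ Pi.single l 1) k := by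
  conv_lhs => rw [sum_single x, mulVec_sum, Finset.sum_apply]
  exact Finset.sum_congr rfl fun l _ => by rw [mulVec_smul, Pi.smul_apply, smul_eq_mul]

theorem exists_col_ne (g : GL (Fin n) F) (k : Fin n) :
    ∃ l, ((g : Matrix (Fin n) (Fin n) F) *ᵥ Pi.single l 1) k ≠ 0 := by
  by_contra hno
  push Not at hno
  have h1 := congrFun (mulVec_inv_mulVec g (Pi.single k 1)) k
  rw [mulVec_eq_sum_col, Pi.single_eq_same, Finset.sum_eq_zero fun l _ => by rw [hno l, mul_zero]] at h1
  exact zero_ne_one h1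

/-- Two disjoint pairs of equal values. -/
theorem exists_two_pairs {κ R : Type*} [DecidableEq κ] [DecidableEq R] (A : Finset κ) (r : κ → R)
    (hA : (A.image r).card + 3 ≤ A.card) :
    ∃ a b c d, a ∈ A ∧ b ∈ A ∧ c ∈ A ∧ d ∈ A ∧ a ≠ b ∧ c ≠ d ∧ a ≠ c ∧ a ≠ d ∧ b ≠ c ∧ b ≠ d ∧
      r a = r b ∧ r c = r d := by
  obtain ⟨a, ha, b, hb, hab, hr⟩ := Finset.exists_ne_map_eq_of_card_lt_of_maps_to
    (by omega : (A.image r).card < A.card) (fun x hx => Finset.mem_image_of_mem r hx)
  set A' := (A.erase a).erase b with hA'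
  have hc : A'.card + 2 = A.card := by
    have hb' : b ∈ A.erase a := Finset.mem_erase.mpr ⟨hab.symm, hb⟩
    rw [hA', Finset.card_erase_of_mem hb', Finset.card_erase_of_mem ha]
    omega
  obtain ⟨c, hc', d, hd', hcd, hr'⟩ := Finset.exists_ne_map_eq_of_card_lt_of_maps_to
    (by omega : (A.image r).card < A'.card)
    (fun x hx => Finset.mem_image_of_mem r (Finset.mem_of_mem_erase (Finset.mem_of_mem_erase hx)))
  simp only [hA', Finset.mem_erase] at hc' hd'
  exact ⟨a, b, c, d, ha, hb, hc'.2.2, hd'.2.2, hab, hcd, hc'.2.1.symm, hd'.2.1.symm, hc'.1.symm, hd'.1.symm,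
    hr, hr'⟩

/-- Extending phases from a set of coordinates by one. -/
theorem exists_extend {N : ℕ} {f : Fin N → Fin n} (hf : Function.Injective f) (φ : Fin N → F)
    (hφ : ∀ i, φ i * φ i ^ q = 1) :
    ∃ e : Vs, (∀ i, e (f i) = φ i) ∧ (∀ l, (∀ i, f i ≠ l) → e l = 1) ∧ (∀ l, e l * e l ^ q = 1) ∧
      (∏ l, e l = ∏ i, φ i) ∧ ∀ r : Vs, ∑ l, (e l - 1) * r l = ∑ i, (φ i - 1) * r (f i) := by
  classical
  refine ⟨Function.extend f φ 1, fun i => hf.extend_apply φ 1 i,
    fun l hl => Function.extend_apply' φ (1 : Vs) l fun ⟨i, hi⟩ => hl i hi, fun l => ?_, ?_, fun r => ?_⟩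
  · by_cases hl : ∃ i, f i = l
    · obtain ⟨i, rfl⟩ := hl; rw [hf.extend_apply]; exact hφ i
    · rw [Function.extend_apply' φ (1 : Vs) l hl]; simp
  · rw [← Finset.prod_subset (Finset.subset_univ (Finset.univ.image f)) (fun l _ hl =>
      Function.extend_apply' φ (1 : Vs) l fun ⟨i, hi⟩ => hl (by simp [← hi])), Finset.prod_image hf.injOn]
    exact Finset.prod_congr rfl fun i _ => hf.extend_apply φ 1 i
  · rw [← Finset.sum_subset (Finset.subset_univ (Finset.univ.image f)) (fun l _ hl => by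
      rw [Function.extend_apply' φ (1 : Vs) l fun ⟨i, hi⟩ => hl (by simp [← hi])]; simp),
      Finset.sum_image hf.injOn]
    exact Finset.sum_congr rfl fun i _ => by rw [hf.extend_apply]

variable (hF : Fintype.card F = q ^ 2) {H : Subgroup (GL (Fin n) F)}
include hF

/-- Phases on two pairs. -/
theorem exists_pair_phases [DecidableEq F] {r : Vs} {a b c d : Fin n} (hab : a ≠ b) (hcd : c ≠ d) (hac : a ≠ c)
    (had : a ≠ d) (hbc : b ≠ c) (hbd : b ≠ d) (hr : r a ^ q = r a) (hr' : r c ^ q = r c) (ha : r a ≠ 0)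
    (hc : r c ≠ 0) (hrab : r a = r b) (hrcd : r c = r d) :
    ∃ e : Vs, (∀ l, e l * e l ^ q = 1) ∧ ∏ l, e l = 1 ∧ ∑ l, (e l - 1) * r l = 0 ∧
      (∀ l, l ∉ ({a, b, c, d} : Finset (Fin n)) → e l = 1) ∧ e a ≠ 1 := by
  obtain ⟨x, hx, y, hy, hx1, hxy⟩ := exists_pairs_nontrivial hF hr hr' ha hc
  have hinj : Function.Injective ![a, b, c, d] := by
    intro i j e
    fin_cases i <;> fin_cases j <;> simp_all
  obtain ⟨e, he, heo, hen, hep, hes⟩ := exists_extend (q := q) hinj ![x, x ^ q, y, y ^ q] (fun i => by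
    fin_cases i <;> simp [mem_normOne.mp hx, mem_normOne.mp hy, mem_normOne.mp (normOne_conj hF hx),
      mem_normOne.mp (normOne_conj hF hy)])
  refine ⟨e, hen, ?_, ?_, fun l hl => heo l fun i e' => hl ?_, ?_⟩
  · rw [hep, Fin.prod_univ_four]
    simp
    linear_combination mem_normOne.mp hx * (y * y ^ q) + mem_normOne.mp hy
  · rw [hes, Fin.sum_univ_four]
    simp
    rw [← hrab, ← hrcd]
    linear_combination hxy
  · subst e'; fin_cases i <;> simp
  · have h1 := he 0
    simp at h1
    rw [h1]; exact hx1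

theorem eq_suGL_of_weight_one (hn : 6 ≤ n) (hH : H ≤ suGL n F q) (hM : ContainsMono q H) {g : GL (Fin n) F}
    (hg : g ∈ H) (hgm : ¬ IsMono g) {l o : Fin n} {c : F}
    (he : (g : Matrix (Fin n) (Fin n) F) *ᵥ Pi.single l 1 = c • Pi.single o 1) : H = suGL n F q := by
  classical
  obtain ⟨p, hp, -, hpm, hpx, c', -, hpl⟩ :=
    exists_phased hF hM (Equiv.swap l o) l (fun _ => (1 : F)) (fun _ _ => by simp)
  refine eq_suGL_of_fix hF (by omega) hH hM (H.mul_mem hp hg) (fun hmono => hgm ?_) (m := l) (c := c * c') ?_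
  · have := hpm.inv.mul hmono
    rwa [inv_mul_cancel_left] at this
  · rw [Units.val_mul, ← mulVec_mulVec, he, mulVec_smul, mul_smul]
    congr 1
    funext a
    rcases eq_or_ne a l with rfl | hal
    · simp [hpl]
    · rw [hpx _ _ hal, one_mul, Pi.smul_apply, Pi.single_eq_of_ne hal, smul_zero, Pi.single_eq_of_ne]
      intro e'
      exact hal ((Equiv.swap l o).injective (e'.trans (Equiv.swap_apply_left l o).symm))

/-- Two zeros in one column suffice. -/
theorem eq_suGL_of_two_zeros [DecidableEq F] (hn : 6 ≤ n) (hq : 3 ≤ q) (hH : H ≤ suGL n F q)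
    (hM : ContainsMono q H) {g : GL (Fin n) F} (hg : g ∈ H) (hgm : ¬ IsMono g) {j c₀ c₁ : Fin n}
    (hne : c₀ ≠ c₁) (h₀ : ((g : Matrix (Fin n) (Fin n) F) *ᵥ Pi.single j 1) c₀ = 0)
    (h₁ : ((g : Matrix (Fin n) (Fin n) F) *ᵥ Pi.single j 1) c₁ = 0) : H = suGL n F q := by
  classical
  by_contra hK
  set col : Fin n → Vs := fun l => (g : Matrix (Fin n) (Fin n) F) *ᵥ Pi.single l 1 with hcol
  obtain ⟨ω, hω, hω1, hω2, hω3⟩ : ∃ ω : F, ω * ω ^ q = 1 ∧ ω ≠ 1 ∧ ω ≠ -1 ∧ ω * ω + ω + 1 ≠ 0 := by
    set R := Finset.univ.filter fun x : F => (1 : F) * x * x + 1 * x + 1 = 0 with hR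
    obtain ⟨ω, hω, hω'⟩ : ∃ ω ∈ normOne q F, ω ∉ ({1, -1} : Finset F) ∪ R := by
      by_contra hno
      push Not at hno
      have h1 := Finset.card_le_card hno
      have h2 : R.card ≤ 2 := card_quadratic_le one_ne_zero
      have h3 := Finset.card_le_two (a := (1 : F)) (b := -1)
      have h4 := Finset.card_union_le ({1, -1} : Finset F) R
      rw [card_normOne hF] at h1
      rcases Nat.lt_or_ge 3 q with h5 | h5
      · omega
      have hq3 : q = 3 := by omega
      have hR1 : (1 : F) ∈ R := by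
        have h0 := FiniteField.cast_card_eq_zero F
        rw [hF, hq3] at h0
        push_cast at h0
        have h30 : (3 : F) = 0 := mul_self_eq_zero.mp (show (3 : F) * 3 = 0 by linear_combination h0)
        simp only [hR, Finset.mem_filter, Finset.mem_univ, true_and]
        linear_combination h30
      have hsub : ({1, -1} : Finset F) ∪ R ⊆ {1, -1} := by
        refine Finset.union_subset (subset_refl _) fun x hx => ?_
        simp only [hR, Finset.mem_filter, Finset.mem_univ, true_and] at hx hR1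
        have : (x - 1) * (x - 1) = 0 := by linear_combination hx - x * hR1
        simp [sub_eq_zero.mp (mul_self_eq_zero.mp this)]
      have h6 := Finset.card_le_card hsub
      omega
    simp only [Finset.mem_union, Finset.mem_insert, Finset.mem_singleton, hR, Finset.mem_filter,
      Finset.mem_univ, true_and, not_or] at hω'
    exact ⟨ω, mem_normOne.mp hω, hω'.1.1, hω'.1.2, by simpa using hω'.2⟩
  -- one pair of zeros confines the columns
  have hpair : ∀ j c₀ c₁, c₀ ≠ c₁ → col j c₀ = 0 → col j c₁ = 0 →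
      ∀ l, col l c₀ ≠ 0 → ∀ a, a ≠ c₀ → a ≠ c₁ → col l a = 0 := by
    intro j c₀ c₁ hne e₀ e₁ l hl a ha₀ ha₁
    obtain ⟨D, hD, -, -, hD₀, hD₁, hDo⟩ := exists_torus hF hM hne hω
    set y := g⁻¹ * D * g with hy
    have hyH : y ∈ H := H.mul_mem (H.mul_mem (H.inv_mem hg) hD) hg
    have hgy : ∀ x : Vs, (g : Matrix (Fin n) (Fin n) F) *ᵥ ((y : Matrix (Fin n) (Fin n) F) *ᵥ x) =
        (D : Matrix (Fin n) (Fin n) F) *ᵥ ((g : Matrix (Fin n) (Fin n) F) *ᵥ x) := fun x => by
      rw [hy, Units.val_mul, Units.val_mul, ← mulVec_mulVec, ← mulVec_mulVec, mulVec_inv_mulVec]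
    have hyj : (y : Matrix (Fin n) (Fin n) F) *ᵥ Pi.single j 1 = (1 : F) • Pi.single j 1 := by
      rw [one_smul, hy, Units.val_mul, Units.val_mul, ← mulVec_mulVec, ← mulVec_mulVec]
      have : (D : Matrix (Fin n) (Fin n) F) *ᵥ col j = col j := by
        funext b
        rcases eq_or_ne b c₀ with rfl | hb₀
        · rw [hD₀, e₀, mul_zero]
        rcases eq_or_ne b c₁ with rfl | hb₁
        · rw [hD₁, e₁, mul_zero]
        · exact hDo _ b hb₀ hb₁
      rw [show (g : Matrix (Fin n) (Fin n) F) *ᵥ Pi.single j 1 = col j from rfl, this, hcol, inv_mulVec_mulVec]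
    have hymono : IsMono y := by
      by_contra hn'
      exact hK (eq_suGL_of_fix hF (by omega) hH hM hyH hn' hyj)
    obtain ⟨π, k, hπ, hk, hyk⟩ := hymono.exists_map
    have hsq : π (π l) = l := by
      by_contra hne2
      have h12 : π l ≠ l := fun e' => hne2 (by rw [e', e'])
      have h23 : π (π l) ≠ π l := fun e' => h12 (hπ e')
      have h34 : π (π (π l)) ≠ π (π l) := fun e' => h23 (hπ e')
      set S := 1 + ω + ω ^ q with hS
      have hcub : ∀ x : Vs, (D : Matrix (Fin n) (Fin n) F) *ᵥ ((D : Matrix (Fin n) (Fin n) F) *ᵥ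
          ((D : Matrix (Fin n) (Fin n) F) *ᵥ x)) - S • ((D : Matrix (Fin n) (Fin n) F) *ᵥ
          ((D : Matrix (Fin n) (Fin n) F) *ᵥ x)) + S • ((D : Matrix (Fin n) (Fin n) F) *ᵥ x) - x = 0 := by
        intro x
        funext b
        simp only [Pi.add_apply, Pi.sub_apply, Pi.smul_apply, smul_eq_mul, Pi.zero_apply]
        rcases eq_or_ne b c₀ with rfl | hb₀
        · simp only [hD₀, hS]; linear_combination ((1 - ω) * x b) * hω
        rcases eq_or_ne b c₁ with rfl | hb₁
        · simp only [hD₁, hS]; linear_combination ((1 - ω ^ q) * x b) * hω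
        · simp only [hDo _ b hb₀ hb₁]; ring
      have h1 := hcub ((g : Matrix (Fin n) (Fin n) F) *ᵥ Pi.single l 1)
      simp only [← hgy, hyk, mulVec_smul, smul_smul] at h1
      have h2 := congrArg (((g⁻¹ : GL (Fin n) F) : Matrix (Fin n) (Fin n) F) *ᵥ ·) h1
      simp only [mulVec_add, mulVec_sub, mulVec_smul, inv_mulVec_mulVec, mulVec_zero] at h2
      have h3 := congrFun h2 (π (π l))
      simp [Pi.single_eq_of_ne h34.symm, Pi.single_eq_of_ne h23, Pi.single_eq_of_ne hne2] at h3
      rcases h3 with h3 | h3 | h3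
      · refine hω3 ?_
        linear_combination ω * h3 - hω
      all_goals exact hk _ h3
    have h2 : (D : Matrix (Fin n) (Fin n) F) *ᵥ ((D : Matrix (Fin n) (Fin n) F) *ᵥ col l) =
        (k l * k (π l)) • col l := by
      rw [hcol]
      simp only [← hgy, hyk, mulVec_smul, smul_smul, hsq]
    have e₀' := congrFun h2 c₀
    rw [hD₀, hD₀, Pi.smul_apply, smul_eq_mul, ← mul_assoc] at e₀'
    have hκ := mul_right_cancel₀ hl e₀'
    have ea := congrFun h2 a
    rw [hDo _ a ha₀ ha₁, hDo _ a ha₀ ha₁, Pi.smul_apply, smul_eq_mul, ← hκ] at ea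
    have hω11 : ω * ω ≠ 1 := fun e' => by
      rcases mul_self_eq_one_iff.mp e' with e'' | e''
      · exact hω1 e''
      · exact hω2 e''
    by_contra h0
    exact hω11 (mul_right_cancel₀ h0 (by linear_combination -ea))
  -- three zeros
  have hthree : ∀ j c₀ c₁ c₂, c₀ ≠ c₁ → c₀ ≠ c₂ → c₁ ≠ c₂ → col j c₀ = 0 → col j c₁ = 0 → col j c₂ = 0 →
      False := by
    intro j c₀ c₁ c₂ h01 h02 h12 e₀ e₁ e₂
    obtain ⟨l, hl⟩ := exists_col_ne g c₀
    refine hK (eq_suGL_of_weight_one hF hn hH hM hg hgm (l := l) (o := c₀) (c := col l c₀) (funext fun a => ?_))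
    rcases eq_or_ne a c₀ with rfl | ha₀
    · simp [hcol]
    rw [Pi.smul_apply, Pi.single_eq_of_ne ha₀, smul_zero]
    rcases eq_or_ne a c₁ with rfl | ha₁
    · exact hpair j c₀ c₂ h02 e₀ e₂ l hl a ha₀ h12
    · exact hpair j c₀ c₁ h01 e₀ e₁ l hl a ha₀ ha₁
  obtain ⟨l, hl⟩ := exists_col_ne g c₀
  obtain ⟨s, hs, hs3⟩ := Finset.exists_subset_card_eq (s := ({c₀, c₁} : Finset (Fin n))ᶜ) (n := 3) (by
    rw [Finset.card_compl, Fintype.card_fin, Finset.card_pair hne]; omega)
  obtain ⟨a, b, d, hab, had, hbd, rfl⟩ := Finset.card_eq_three.mp hs3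
  have hz : ∀ x ∈ ({a, b, d} : Finset (Fin n)), col l x = 0 := fun x hx => by
    have hx' := hs hx
    simp only [Finset.mem_compl, Finset.mem_insert, Finset.mem_singleton, not_or] at hx'
    exact hpair j c₀ c₁ hne h₀ h₁ l hl x hx'.1 hx'.2
  exact hthree l a b d hab had hbd (hz a (by simp)) (hz b (by simp)) (hz d (by simp))

/-- An element moving basis vectors along a short singular vector. -/
theorem eq_suGL_of_short (hn : 6 ≤ n) (hH : H ≤ suGL n F q) (hM : ContainsMono q H) {z : GL (Fin n) F}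
    (hz : z ∈ H) {a : Vs} (ha : a ≠ 0) (hza : (z : Matrix (Fin n) (Fin n) F) *ᵥ a = a)
    (hzk : ∀ k, a k = 0 → ∃ γ : F, (z : Matrix (Fin n) (Fin n) F) *ᵥ Pi.single k 1 = Pi.single k 1 + γ • a)
    {k₁ : Fin n} (hk₁ : a k₁ = 0) (hk₁m : (z : Matrix (Fin n) (Fin n) F) *ᵥ Pi.single k₁ 1 ≠ Pi.single k₁ 1)
    {L : Finset (Fin n)} (hL : ∀ l, l ∉ L → a l = 0) (hLc : L.card + 3 ≤ n) : H = suGL n F q := by
  classical
  obtain ⟨s, hs, hs2⟩ := Finset.exists_subset_card_eq (s := (insert k₁ L)ᶜ) (n := 2) (by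
    rw [Finset.card_compl, Fintype.card_fin]
    have := Finset.card_insert_le k₁ L
    omega)
  obtain ⟨k₂, k₃, h23, rfl⟩ := Finset.card_eq_two.mp hs2
  have h2 := hs (Finset.mem_insert_self k₂ _)
  have h3 := hs (Finset.mem_insert_of_mem (Finset.mem_singleton_self k₃))
  simp only [Finset.mem_compl, Finset.mem_insert, not_or] at h2 h3
  have hk₂ := hL k₂ h2.2
  have hk₃ := hL k₃ h3.2
  obtain ⟨γ₁, hγ₁⟩ := hzk k₁ hk₁
  obtain ⟨γ₃, hγ₃⟩ := hzk k₃ hk₃
  have hγ₁0 : γ₁ ≠ 0 := fun e => hk₁m (by rw [hγ₁, e, zero_smul, add_zero])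
  obtain ⟨ω, hω, hω1, -⟩ := exists_norm_one hF
  obtain ⟨D, hD, -, -, hD₁, hD₂, hDo⟩ := exists_torus hF hM (k := k₁) (o := k₂) (Ne.symm h2.1) hω
  obtain ⟨D', hD', -, -, hD'₁, hD'₂, hD'o⟩ := exists_torus hF hM (k := k₁) (o := k₂) (Ne.symm h2.1) (ω := ω ^ q)
    (by rw [pow_q_pow_q hF, mul_comm]; exact hω)
  have hinv : ∀ (k : Fin n) (γ : F), (z : Matrix (Fin n) (Fin n) F) *ᵥ Pi.single k 1 = Pi.single k 1 + γ • a →
      ((z⁻¹ : GL (Fin n) F) : Matrix (Fin n) (Fin n) F) *ᵥ Pi.single k 1 = Pi.single k 1 - γ • a := by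
    intro k γ e
    conv_lhs => rw [show (Pi.single k 1 : Vs) = (z : Matrix (Fin n) (Fin n) F) *ᵥ (Pi.single k 1 - γ • a) by
      rw [mulVec_sub, mulVec_smul, hza, e, add_sub_cancel_right]]
    rw [inv_mulVec_mulVec]
  have hD'e₁ : (D' : Matrix (Fin n) (Fin n) F) *ᵥ Pi.single k₁ 1 = ω ^ q • Pi.single k₁ 1 := by
    funext b
    rcases eq_or_ne b k₁ with rfl | hb
    · simp [hD'₁]
    rcases eq_or_ne b k₂ with rfl | hb'
    · simp [hD'₂, hb]
    · simp [hD'o _ b hb hb', hb]
  have hD'e₃ : (D' : Matrix (Fin n) (Fin n) F) *ᵥ Pi.single k₃ 1 = Pi.single k₃ 1 := by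
    funext b
    rcases eq_or_ne b k₁ with rfl | hb
    · simp [hD'₁, Ne.symm h3.1]
    rcases eq_or_ne b k₂ with rfl | hb'
    · simp [hD'₂, h23]
    · simp [hD'o _ b hb hb']
  have hDa : (D : Matrix (Fin n) (Fin n) F) *ᵥ a = a := by
    funext b
    rcases eq_or_ne b k₁ with rfl | hb
    · simp [hD₁, hk₁]
    rcases eq_or_ne b k₂ with rfl | hb'
    · simp [hD₂, hk₂]
    · exact hDo _ b hb hb'
  have hDe₁ : (D : Matrix (Fin n) (Fin n) F) *ᵥ Pi.single k₁ 1 = ω • Pi.single k₁ 1 := by
    funext b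
    rcases eq_or_ne b k₁ with rfl | hb
    · simp [hD₁]
    rcases eq_or_ne b k₂ with rfl | hb'
    · simp [hD₂, hb]
    · simp [hDo _ b hb hb', hb]
  have hDe₃ : (D : Matrix (Fin n) (Fin n) F) *ᵥ Pi.single k₃ 1 = Pi.single k₃ 1 := by
    funext b
    rcases eq_or_ne b k₁ with rfl | hb
    · simp [hD₁, Ne.symm h3.1]
    rcases eq_or_ne b k₂ with rfl | hb'
    · simp [hD₂, h23]
    · simp [hDo _ b hb hb']
  set z₁ := z * D * z⁻¹ * D' with hz₁
  have hz₁e₃ : (z₁ : Matrix (Fin n) (Fin n) F) *ᵥ Pi.single k₃ 1 = (1 : F) • Pi.single k₃ 1 := by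
    rw [hz₁, Units.val_mul, Units.val_mul, Units.val_mul, ← mulVec_mulVec, ← mulVec_mulVec, ← mulVec_mulVec,
      hD'e₃, hinv _ _ hγ₃, mulVec_sub, mulVec_smul, hDa, hDe₃, mulVec_sub, mulVec_smul, hza, hγ₃, one_smul,
      add_sub_cancel_right]
  refine eq_suGL_of_fix hF (by omega) hH hM (H.mul_mem (H.mul_mem (H.mul_mem hz hD) (H.inv_mem hz)) hD') ?_ hz₁e₃
  intro hmono
  obtain ⟨o, c, hc⟩ := hmono k₁
  have e₁eq : (z₁ : Matrix (Fin n) (Fin n) F) *ᵥ Pi.single k₁ 1 = Pi.single k₁ 1 + (γ₁ * (1 - ω ^ q)) • a := by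
    rw [hz₁, Units.val_mul, Units.val_mul, Units.val_mul, ← mulVec_mulVec, ← mulVec_mulVec, ← mulVec_mulVec, hD'e₁]
    simp only [mulVec_smul, mulVec_sub, hinv _ _ hγ₁, hDe₁, hDa, hza, hγ₁]
    match_scalars
    · linear_combination hω
    · linear_combination γ₁ * hω
  rw [← hz₁, e₁eq] at hc
  obtain ⟨l, hl⟩ := Function.ne_iff.mp ha
  have hlk : l ≠ k₁ := fun e => hl (e ▸ hk₁)
  have e₁ := congrFun hc k₁
  have el := congrFun hc l
  simp only [Pi.add_apply, Pi.smul_apply, smul_eq_mul, Pi.single_eq_same, hk₁, mul_zero, add_zero] at e₁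
  simp only [Pi.add_apply, Pi.smul_apply, smul_eq_mul, Pi.single_eq_of_ne hlk, zero_add] at el
  rcases eq_or_ne o k₁ with rfl | ho
  · rw [Pi.single_eq_of_ne hlk, mul_zero] at el
    exact mul_ne_zero (mul_ne_zero hγ₁0 (sub_ne_zero.mpr fun e => hω1 (q_inj hF (by rw [one_pow, ← e])))) hl el
  · rw [Pi.single_eq_of_ne ho.symm, mul_zero] at e₁
    exact one_ne_zero e₁

/-- The case `n ≤ q`. -/
theorem eq_suGL_of_small [DecidableEq F] (hn : 10 ≤ n) (hnq : n ≤ q) (hH : H ≤ suGL n F q)
    (hM : ContainsMono q H) {g : GL (Fin n) F} (hg : g ∈ H) (hgm : ¬ IsMono g) : H = suGL n F q := by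
  classical
  -- a zero entry
  obtain ⟨g, hg, hgm, i, k, hik⟩ : ∃ g ∈ H, ¬ IsMono g ∧
      ∃ i k, ((g : Matrix (Fin n) (Fin n) F) *ᵥ Pi.single i 1) k = 0 := by
    by_cases hzero : ∃ i k, ((g : Matrix (Fin n) (Fin n) F) *ᵥ Pi.single i 1) k = 0
    · exact ⟨g, hg, hgm, hzero⟩
    push Not at hzero
    set i : Fin n := ⟨0, by omega⟩
    set u := (g : Matrix (Fin n) (Fin n) F) *ᵥ Pi.single i 1 with hu
    set w : Vs := fun l => ((g : Matrix (Fin n) (Fin n) F) *ᵥ Pi.single l 1) i * u l with hw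
    set f : Fin 10 → Fin n := Fin.castLE hn with hf
    have hfi : Function.Injective f := Fin.castLE_injective hn
    letI := Fintype.ofFinite (normOneGroup q F)
    have hmany := card_ten_phases hF (hn.trans hnq) (fun a => w (f a)) (fun a => mul_ne_zero (hzero _ _) (hzero _ _))
      (∑ a, w (f a) - ∑ l, w l)
    set S := (Finset.univ : Finset (Fin 10 → normOneGroup q F)).filter fun Φ =>
      (∏ a, Φ a) = 1 ∧ ∑ a, w (f a) * ((Φ a : Fˣ) : F) = ∑ a, w (f a) - ∑ l, w l with hSdef
    have hS : ∀ Φ : {x // x ∈ S}, (∏ a, Φ.1 a) = 1 ∧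
        ∑ a, w (f a) * ((Φ.1 a : Fˣ) : F) = ∑ a, w (f a) - ∑ l, w l := fun Φ => (Finset.mem_filter.mp Φ.2).2
    choose e he heo hen hep hes using fun Φ : {x // x ∈ S} =>
      exists_extend (q := q) hfi (fun a => ((Φ.1 a : Fˣ) : F)) (fun a => mul_pow_normOneGroup _)
    choose D hD hDK hDm hDx using fun Φ => exists_diagElt hM (e Φ) (hen Φ) (by
      rw [hep, ← Units.coe_prod, ← SubmonoidClass.coe_finsetProd, (hS Φ).1, OneMemClass.coe_one, Units.val_one])
    have hzero' : ∀ Φ, (((g * D Φ * g : GL (Fin n) F) : Matrix (Fin n) (Fin n) F) *ᵥ Pi.single i 1) i = 0 := by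
      intro Φ
      rw [Units.val_mul, Units.val_mul, ← mulVec_mulVec, ← mulVec_mulVec, ← hu, mulVec_eq_sum_col]
      have h1 := hes Φ w
      have h2 : ∑ a, (((Φ.1 a : Fˣ) : F) - 1) * w (f a) =
          ∑ a, w (f a) * ((Φ.1 a : Fˣ) : F) - ∑ a, w (f a) := by
        rw [← Finset.sum_sub_distrib]; exact Finset.sum_congr rfl fun a _ => by ring
      rw [h2, (hS Φ).2] at h1
      calc _ = ∑ l, ((e Φ l - 1) * w l + w l) := Finset.sum_congr rfl fun l _ => by rw [hDx, hw]; ring
        _ = 0 := by rw [Finset.sum_add_distrib, h1]; ring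
    by_contra hno
    push Not at hno
    have hmono : ∀ Φ, IsMono (g * D Φ * g) := fun Φ => by
      by_contra hm
      exact hno _ (H.mul_mem (H.mul_mem hg (hD Φ)) hg) hm i i (hzero' Φ)
    choose π c hc using fun Φ => hmono Φ i
    obtain ⟨Φ, Φ', hne, heq⟩ := Fintype.exists_ne_map_eq_of_card_lt (fun Φ => (π Φ, Φ.1 0)) (by
      rw [Fintype.card_prod, Fintype.card_fin, Fintype.card_coe, card_normOneGroup hF]
      exact lt_of_le_of_lt (Nat.mul_le_mul_right _ hnq) hmany)
    obtain ⟨heq, heq0⟩ := Prod.mk.injEq .. ▸ heq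
    have hDu : ∀ Φ, (D Φ : Matrix (Fin n) (Fin n) F) *ᵥ u =
        c Φ • (((g⁻¹ : GL (Fin n) F) : Matrix (Fin n) (Fin n) F) *ᵥ Pi.single (π Φ) 1) := fun Φ => by
      have h1 := congrArg (((g⁻¹ : GL (Fin n) F) : Matrix (Fin n) (Fin n) F) *ᵥ ·) (hc Φ)
      simp only [Units.val_mul, ← mulVec_mulVec, inv_mulVec_mulVec, mulVec_smul, ← hu] at h1
      exact h1
    have hc0 : c Φ' ≠ 0 := fun e' => mul_ne_zero (Units.ne_zero (Φ'.1 0 : Fˣ)) (hzero i (f 0)) (by
      have h1 := congrFun (hDu Φ') (f 0)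
      rw [hDx, he, e', zero_smul] at h1
      exact h1)
    set κ := c Φ / c Φ' with hκ
    have hrel : ∀ l, e Φ l * u l = κ * (e Φ' l * u l) := fun l => by
      rw [← hDx, ← hDx, hDu, hDu, heq, Pi.smul_apply, Pi.smul_apply, smul_eq_mul, smul_eq_mul, hκ,
        ← mul_assoc, div_mul_cancel₀ _ hc0]
    have h1 := hrel (f 0)
    rw [he, he, heq0] at h1
    have hκ1 : κ = 1 := mul_right_cancel₀ (mul_ne_zero (Units.ne_zero (Φ'.1 0 : Fˣ)) (hzero i (f 0)))
      (h1.symm.trans (one_mul _).symm)
    refine hne (Subtype.ext (funext fun a => Subtype.ext (Units.ext ?_)))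
    have h2 := hrel (f a)
    rw [he, he, hκ1, one_mul] at h2
    exact mul_right_cancel₀ (hzero i (f a)) h2
  -- a short column in the inverse
  obtain ⟨μ, hμ, hμn⟩ : ∃ μ ∈ normOne q F, μ ^ n ≠ 1 := by
    by_contra hno
    push Not at hno
    have h1 := Finset.card_le_card (show normOne q F ⊆ (Polynomial.nthRoots n (1 : F)).toFinset from fun x hx => by
      rw [Multiset.mem_toFinset, Polynomial.mem_nthRoots (by omega)]; exact hno x hx)
    have h2 := Multiset.toFinset_card_le (Polynomial.nthRoots n (1 : F))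
    have h3 := Polynomial.card_nthRoots n (1 : F)
    rw [card_normOne hF] at h1
    omega
  have hμ' := mem_normOne.mp hμ
  set ν := (μ ^ (n - 1)) ^ q with hν
  have hν1 : μ ^ (n - 1) * ν = 1 := by rw [hν, pow_right_comm, ← mul_pow, hμ', one_pow]
  have hνn : ν * ν ^ q = 1 := by rw [hν, pow_q_pow_q hF, mul_comm]; exact hν1
  have hνμ : ν - μ ≠ 0 := sub_ne_zero.mpr fun e => hμn (by
    rw [show n = n - 1 + 1 by omega, pow_succ]; nth_rewrite 2 [← e]; exact hν1)
  set d : Vs := Function.update (fun _ => μ) k ν with hd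
  obtain ⟨D, hD, -, -, hDx⟩ := exists_diagElt hM d (fun l => by
      rcases eq_or_ne l k with rfl | hl
      · simp [hd, hνn]
      · simp [hd, hl, hμ']) (by
      rw [← Finset.mul_prod_erase Finset.univ d (Finset.mem_univ k),
        Finset.prod_congr rfl (fun l hl => show d l = μ from Function.update_of_ne (Finset.ne_of_mem_erase hl) _ _),
        Finset.prod_const, Finset.card_erase_of_mem (Finset.mem_univ k), Finset.card_univ, Fintype.card_fin,
        show d k = ν from Function.update_self _ _ _, mul_comm]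
      exact hν1)
  set p := ((g⁻¹ : GL (Fin n) F) : Matrix (Fin n) (Fin n) F) *ᵥ Pi.single k 1 with hp
  set y := g⁻¹ * D * g with hy
  have hyl : ∀ l, (y : Matrix (Fin n) (Fin n) F) *ᵥ Pi.single l 1 = μ • Pi.single l 1 +
      ((ν - μ) * ((g : Matrix (Fin n) (Fin n) F) *ᵥ Pi.single l 1) k) • p := by
    intro l
    rw [hy, Units.val_mul, Units.val_mul, ← mulVec_mulVec, ← mulVec_mulVec]
    have : (D : Matrix (Fin n) (Fin n) F) *ᵥ ((g : Matrix (Fin n) (Fin n) F) *ᵥ Pi.single l 1) =
        μ • ((g : Matrix (Fin n) (Fin n) F) *ᵥ Pi.single l 1) +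
          ((ν - μ) * ((g : Matrix (Fin n) (Fin n) F) *ᵥ Pi.single l 1) k) • Pi.single k 1 := by
      funext b
      rw [hDx]
      rcases eq_or_ne b k with rfl | hb
      · simp [hd]; ring
      · simp [hd, hb]
    rw [this, mulVec_add, mulVec_smul, mulVec_smul, inv_mulVec_mulVec, hp]
  by_cases hym : IsMono y
  · obtain ⟨l, hl⟩ := exists_col_ne g k
    obtain ⟨o, c, hc⟩ := hym l
    rw [hyl] at hc
    obtain ⟨s, hs, hs2⟩ := Finset.exists_subset_card_eq (s := ({l, o} : Finset (Fin n))ᶜ) (n := 2) (by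
      rw [Finset.card_compl, Fintype.card_fin]
      have := Finset.card_le_two (a := l) (b := o)
      omega)
    obtain ⟨a, b, hab, rfl⟩ := Finset.card_eq_two.mp hs2
    have hz : ∀ x ∈ ({a, b} : Finset (Fin n)), p x = 0 := fun x hx => by
      have hx' := hs hx
      simp only [Finset.mem_compl, Finset.mem_insert, Finset.mem_singleton, not_or] at hx'
      have h1 := congrFun hc x
      simp only [Pi.add_apply, Pi.smul_apply, smul_eq_mul, Pi.single_eq_of_ne hx'.1, Pi.single_eq_of_ne hx'.2,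
        mul_zero, zero_add, mul_eq_zero] at h1
      exact h1.resolve_left (not_or.mpr ⟨hνμ, hl⟩)
    exact eq_suGL_of_two_zeros hF (by omega) (by omega) hH hM (H.inv_mem hg)
      (fun hm => hgm (by simpa using hm.inv)) hab (j := k) (hz a (by simp)) (hz b (by simp))
  · refine eq_suGL_of_fix hF (by omega) hH hM (H.mul_mem (H.mul_mem (H.inv_mem hg) hD) hg) hym (m := i) (c := μ) ?_
    rw [← hy, hyl, hik, mul_zero, zero_smul, add_zero]

/-- The case of characteristic two. -/
theorem eq_suGL_of_even [DecidableEq F] (hn : 8 ≤ n) (hn9 : n ≠ 9) (hnq : q < n) (h2 : (2 : F) = 0) (hH : H ≤ suGL n F q)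
    (hM : ContainsMono q H) {g : GL (Fin n) F} (hg : g ∈ H) (hgm : ¬ IsMono g) : H = suGL n F q := by
  classical
  have hq0 := q_ne_zero hF
  set col : Fin n → Vs := fun l => (g : Matrix (Fin n) (Fin n) F) *ᵥ Pi.single l 1 with hcol
  let supp : Vs → Finset (Fin n) := fun v => Finset.univ.filter fun l => v l ≠ 0
  have hsupp : ∀ v l, l ∈ supp v ↔ v l ≠ 0 := fun v l => by simp [supp]
  -- a transvection of weight at least three
  obtain ⟨i, j, hij, μ, hμ, hw3⟩ : ∃ i j, i ≠ j ∧ ∃ μ ∈ normOne q F, 3 ≤ (supp (col i + μ • col j)).card := by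
    by_contra hno
    push Not at hno
    have hU : ∀ i j, i ≠ j → (supp (col i) ∪ supp (col j)).card ≤ 3 := by
      intro i j hij
      set U := supp (col i) ∪ supp (col j) with hU
      set Z : F → Finset (Fin n) := fun μ => U.filter fun l => col i l + μ * col j l = 0 with hZ
      have hdisj : ((normOne q F : Finset F) : Set F).PairwiseDisjoint Z := by
        intro a _ b _ hab
        refine Finset.disjoint_left.mpr fun l hla hlb => ?_
        simp only [hZ, Finset.mem_filter] at hla hlb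
        have hj : col j l = 0 := by
          by_contra h0
          exact hab (mul_right_cancel₀ h0 (by linear_combination hla.2 - hlb.2))
        have hi : col i l = 0 := by have := hla.2; rwa [hj, mul_zero, add_zero] at this
        rcases Finset.mem_union.mp hla.1 with h' | h'
        · exact (hsupp _ l).mp h' hi
        · exact (hsupp _ l).mp h' hj
      have h1 : (normOne q F).card * (U.card - 2) ≤ U.card := by
        calc (normOne q F).card * (U.card - 2) = ∑ _μ ∈ normOne q F, (U.card - 2) := by rw [Finset.sum_const, smul_eq_mul]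
          _ ≤ ∑ μ ∈ normOne q F, (Z μ).card := Finset.sum_le_sum fun μ hμ => by
              have h3 := hno i j hij μ hμ
              have h4 : U ⊆ Z μ ∪ supp (col i + μ • col j) := fun l hl => by
                by_cases h0 : col i l + μ * col j l = 0
                · exact Finset.mem_union_left _ (Finset.mem_filter.mpr ⟨hl, h0⟩)
                · exact Finset.mem_union_right _ ((hsupp _ l).mpr (by simpa using h0))
              have h5 := (Finset.card_le_card h4).trans (Finset.card_union_le _ _)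
              omega
          _ = ((normOne q F).biUnion Z).card := (Finset.card_biUnion hdisj).symm
          _ ≤ U.card := Finset.card_le_card fun l hl => by
              obtain ⟨μ, -, hl⟩ := Finset.mem_biUnion.mp hl
              exact (Finset.mem_filter.mp hl).1
      rw [card_normOne hF] at h1
      have := two_le_of_card_sq hF
      by_contra hgt
      push Not at hgt
      have : 3 * (U.card - 2) ≤ (q + 1) * (U.card - 2) := Nat.mul_le_mul_right _ (by omega)
      omega
    have hnew : ∀ i, ∃ j, j ≠ i ∧ ∀ l ∈ supp (col i), supp (col i) ≠ Finset.univ →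
        (supp (col i)).card + 1 ≤ (supp (col i) ∪ supp (col j)).card ∧ ∃ a, a ∉ supp (col i) ∧ col j a ≠ 0 := by
      intro i
      by_cases hfull : supp (col i) = Finset.univ
      · obtain ⟨j, hj⟩ := Finset.exists_mem_ne (show 1 < (Finset.univ : Finset (Fin n)).card by simp; omega) i
        exact ⟨j, hj.2, fun l _ h' => absurd hfull h'⟩
      obtain ⟨a, ha⟩ : ∃ a, a ∉ supp (col i) := by
        by_contra hall; push Not at hall; exact hfull (Finset.eq_univ_iff_forall.mpr hall)
      obtain ⟨j, hj⟩ := exists_col_ne g a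
      refine ⟨j, fun e => ha ((hsupp _ a).mpr (e ▸ hj)), fun l _ _ => ⟨?_, a, ha, hj⟩⟩
      rw [← Finset.card_insert_of_notMem ha]
      refine Finset.card_le_card (Finset.insert_subset (Finset.mem_union_right _ ((hsupp _ a).mpr hj))
        Finset.subset_union_left)
    have hle2 : ∀ i, (supp (col i)).card ≤ 2 := by
      intro i
      obtain ⟨j, hj, hj'⟩ := hnew i
      by_contra hgt
      obtain ⟨l, hl⟩ := Finset.card_pos.mp (by omega : 0 < (supp (col i)).card)
      by_cases hfull : supp (col i) = Finset.univ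
      · have := (Finset.card_le_card (Finset.subset_union_left (s₂ := supp (col j)))).trans (hU i j hj.symm)
        rw [hfull, Finset.card_univ, Fintype.card_fin] at this
        omega
      · have := (hj' l hl hfull).1.trans (hU i j hj.symm)
        omega
    refine hgm fun i => ?_
    obtain ⟨l, hl⟩ : (supp (col i)).Nonempty := by
      rw [Finset.nonempty_iff_ne_empty]
      intro e
      have : col i = 0 := funext fun a => by
        by_contra h0
        have := (hsupp (col i) a).mpr h0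
        simp [e] at this
      exact single_ne_zero' (F := F) i (by
        rw [← inv_mulVec_mulVec g (Pi.single i 1), show (g : Matrix (Fin n) (Fin n) F) *ᵥ Pi.single i 1 = 0 from this,
          mulVec_zero])
    by_cases h1 : (supp (col i)).card ≤ 1
    · refine ⟨l, col i l, funext fun a => ?_⟩
      rcases eq_or_ne a l with rfl | hal
      · simp [hcol]
      · rw [Pi.smul_apply, Pi.single_eq_of_ne hal, smul_zero]
        by_contra h0
        exact hal (Finset.card_le_one.mp h1 a ((hsupp _ a).mpr h0) l hl)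
    exfalso
    have hnf : supp (col i) ≠ Finset.univ := fun e => by
      have := hle2 i
      rw [e, Finset.card_univ, Fintype.card_fin] at this
      omega
    obtain ⟨j, hji, hj'⟩ := hnew i
    obtain ⟨hc, a, ha, hja⟩ := hj' l hl hnf
    have h3 := hle2 j
    have hone : (supp (col i) ∩ supp (col j)).card ≤ 1 := by
      have := Finset.card_union_add_card_inter (supp (col i)) (supp (col j))
      omega
    by_cases hint : (supp (col i) ∩ supp (col j)).Nonempty
    · obtain ⟨b, hb⟩ := hint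
      have h0 : h (col i) (col j) = 0 := by
        rw [hcol, apply_K (hH hg), herm_single_left, Pi.single_eq_of_ne hji.symm, q_zero hF, mul_zero]
      rw [Cfsg.hermForm, Finset.sum_eq_single b (fun x _ hxb => ?_) (by simp)] at h0
      · simp only [Finset.mem_inter, hsupp] at hb
        exact mul_ne_zero hb.1 (pow_ne_zero _ hb.2) h0
      · by_contra hne
        obtain ⟨h4, h5⟩ := mul_ne_zero_iff.mp hne
        exact hxb (Finset.card_le_one.mp hone x
          (Finset.mem_inter.mpr ⟨(hsupp _ x).mpr h4, (hsupp _ x).mpr fun e => h5 (by rw [e, q_zero hF])⟩) b hb)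
    · have h4 := hno i j hji.symm 1 (one_mem_normOne hF)
      have h5 : supp (col i) ∪ supp (col j) ⊆ supp (col i + (1 : F) • col j) := fun x hx => by
        rw [hsupp, Pi.add_apply, Pi.smul_apply, one_smul]
        rcases Finset.mem_union.mp hx with hx | hx
        · have : col j x = 0 := by
            by_contra h0; exact hint ⟨x, Finset.mem_inter.mpr ⟨hx, (hsupp _ x).mpr h0⟩⟩
          rw [this, add_zero]; exact (hsupp _ x).mp hx
        · have : col i x = 0 := by
            by_contra h0; exact hint ⟨x, Finset.mem_inter.mpr ⟨(hsupp _ x).mpr h0, hx⟩⟩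
          rw [this, zero_add]; exact (hsupp _ x).mp hx
      have := Finset.card_le_card h5
      omega
  have hμ' := mem_normOne.mp hμ
  set x : Vs := Pi.single i 1 + Pi.single j μ with hx
  have hxx : h x x = 0 := by
    rw [hx, herm_add_left hF, herm_single_left, herm_single_left]
    simp [hij, hij.symm]
    linear_combination hμ' + h2
  have hT : T x 1 hxx ∈ H := hM _ (T_mem hF x hxx (by rw [one_pow]; linear_combination h2)) fun l => by
    have hxl : h (Pi.single l 1 : Vs) x = x l ^ q := by rw [herm_single_left, one_mul]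
    rcases eq_or_ne l i with rfl | hli
    · refine ⟨j, μ, ?_⟩
      rw [T_mulVec, hxl, hx]
      simp [hij]
      funext a
      rcases eq_or_ne a l with rfl | hal
      · simp [hij]; linear_combination h2
      · simp [hal, Pi.single_apply]
    rcases eq_or_ne l j with rfl | hlj
    · refine ⟨i, μ ^ q, ?_⟩
      rw [T_mulVec, hxl, hx]
      simp [hij.symm]
      funext a
      rcases eq_or_ne a l with rfl | hal
      · simp [hij.symm]; linear_combination hμ' + h2
      · simp [hal, Pi.single_apply]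
    · exact ⟨l, 1, by rw [T_mulVec, hxl, hx]; simp [hli, hlj, hq0]⟩
  set p := (g : Matrix (Fin n) (Fin n) F) *ᵥ x with hp
  have hpc : p = col i + μ • col j := by
    rw [hp, hx, mulVec_add, hcol]
    congr 1
    rw [← mulVec_smul, ← Pi.single_smul, smul_eq_mul, mul_one]
  have hpp : h p p = 0 := by rw [hp, apply_K (hH hg), hxx]
  have hTp : T p 1 hpp ∈ H := by
    have := H.mul_mem (H.mul_mem hg hT) (H.inv_mem hg)
    rwa [conj_T (hH hg) x 1 hxx] at this
  have hTk : ∀ k, (T p 1 hpp : Matrix (Fin n) (Fin n) F) *ᵥ Pi.single k 1 = Pi.single k 1 + p k ^ q • p := fun k => by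
    rw [T_mulVec, herm_single_left, one_mul, one_mul]
  have hpsupp : 3 ≤ (supp p).card := by rw [hpc]; exact hw3
  by_cases hzero : ∃ k, p k = 0
  · obtain ⟨k, hk⟩ := hzero
    refine eq_suGL_of_fix hF (by omega) hH hM hTp (fun hm => ?_) (m := k) (c := 1)
      (by rw [hTk, hk, q_zero hF, zero_smul, add_zero, one_smul])
    obtain ⟨l, hl⟩ := Finset.card_pos.mp (by omega : 0 < (supp p).card)
    obtain ⟨o, c, hc⟩ := hm l
    rw [hTk] at hc
    obtain ⟨a, ha, hal, hao⟩ : ∃ a ∈ supp p, a ≠ l ∧ a ≠ o := by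
      obtain ⟨a, ha, ha'⟩ := Finset.exists_mem_notMem_of_card_lt_card (s := ({l, o} : Finset (Fin n))) (t := supp p)
        (by have := Finset.card_le_two (a := l) (b := o); omega)
      simp only [Finset.mem_insert, Finset.mem_singleton, not_or] at ha'
      exact ⟨a, ha, ha'.1, ha'.2⟩
    have h1 := congrFun hc a
    simp [hal, hao, hq0] at h1
    rcases h1 with h1 | h1
    · exact (hsupp p l).mp hl h1
    · exact (hsupp p a).mp ha h1
  push Not at hzero
  -- phases
  set r : Vs := fun l => p l * p l ^ q with hr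
  have hr0 : ∀ l, r l ≠ 0 := fun l => mul_ne_zero (hzero l) (pow_ne_zero _ (hzero l))
  have hrq : ∀ l, r l ^ q = r l := fun l => by rw [hr, mul_pow, pow_q_pow_q hF, mul_comm]
  obtain ⟨e, L, hen, hep, hes, heL, hLc, b, hb⟩ : ∃ (e : Vs) (L : Finset (Fin n)), (∀ l, e l * e l ^ q = 1) ∧
      ∏ l, e l = 1 ∧ ∑ l, (e l - 1) * r l = 0 ∧ (∀ l, l ∉ L → e l = 1) ∧ L.card + 3 ≤ n ∧ ∃ b, e b ≠ 1 := by
    by_cases hbig : q + 2 ≤ n
    · have himg : (Finset.univ.image r).card + 1 ≤ q := by
        calc (Finset.univ.image r).card + 1 ≤ ((fixedField q F).erase 0).card + 1 :=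
              Nat.add_le_add_right (Finset.card_le_card fun s hs => by
                obtain ⟨l, -, rfl⟩ := Finset.mem_image.mp hs
                exact Finset.mem_erase.mpr ⟨hr0 l, mem_fixedField.mpr (hrq l)⟩) 1
          _ = q := by
              rw [Finset.card_erase_of_mem (mem_fixedField.mpr (q_zero hF)), card_fixedField hF]
              have := two_le_of_card_sq hF; omega
      obtain ⟨a, b, c, d, -, -, -, -, hab, hcd, hac, had, hbc, hbd, e1, e2⟩ :=
        exists_two_pairs (Finset.univ : Finset (Fin n)) r (by rw [Finset.card_univ, Fintype.card_fin]; omega)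
      obtain ⟨e, h1, h3, h4, h5, h6⟩ :=
        exists_pair_phases hF hab hcd hac had hbc hbd (hrq a) (hrq c) (hr0 a) (hr0 c) e1 e2
      refine ⟨e, _, h1, h3, h4, h5, ?_, a, h6⟩
      have := Finset.card_le_four (a := a) (b := b) (c := c) (d := d)
      omega
    · have hn16 : 16 ≤ n := by
        haveI : CharP F 2 := CharTwo.of_one_ne_zero_of_two_eq_zero one_ne_zero h2
        obtain ⟨N, hp2, hcard⟩ := FiniteField.card F 2
        rw [hF] at hcard
        obtain ⟨j, -, hj⟩ := (Nat.dvd_prime_pow Nat.prime_two).mp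
          (hcard ▸ dvd_pow_self q (two_ne_zero : (2 : ℕ) ≠ 0))
        have h16 : 4 ≤ j := by
          by_contra hlt
          have hj3 : j ≤ 3 := by omega
          have hq8 : q ≤ 8 := hj ▸ (Nat.pow_le_pow_right (by norm_num) hj3 : 2 ^ j ≤ 2 ^ 3)
          interval_cases j <;> simp at hj <;> omega
        have : 2 ^ 4 ≤ 2 ^ j := Nat.pow_le_pow_right (by norm_num) h16
        omega
      set f : Fin 13 → Fin n := Fin.castLE (show 13 ≤ n by omega) with hf
      have hfi : Function.Injective f := Fin.castLE_injective _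
      obtain ⟨o, Φ, hΦ⟩ := exists_thirteen hF (fun a => r (f a)) (fun a => hr0 _) (∑ a, r (f a))
      obtain ⟨ω, hω, hω1, -, -⟩ := exists_omega hF
      obtain ⟨ρ, hρ⟩ : ∃ ρ, Φ ρ ≠ fun _ => 1 := by
        by_contra hall
        push Not at hall
        have h1 := (hΦ fun _ => ⟨1, one_mem_normOne hF⟩).2.2.2.2 (fun _ => ⟨ω, hω⟩) (by rw [hall, hall])
        exact hω1 (congrArg Subtype.val (congrFun h1 0))
      obtain ⟨h1, h3, h4, -, -⟩ := hΦ ρ
      obtain ⟨e, he, heo, hen, hep, hes⟩ := exists_extend (q := q) hfi (Φ ρ) (fun a => mem_normOne.mp (h1 a))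
      refine ⟨e, Finset.univ.image f, hen, by rw [hep, h3], ?_, fun l hl => heo l fun a e' => hl (by simp [← e']),
        ?_, ?_⟩
      · rw [hes]
        calc _ = ∑ a, (r (f a) * Φ ρ a - r (f a)) := Finset.sum_congr rfl fun a _ => by ring
          _ = 0 := by rw [Finset.sum_sub_distrib, h4, sub_self]
      · rw [Finset.card_image_of_injective _ hfi, Finset.card_univ, Fintype.card_fin]; omega
      · obtain ⟨a, ha⟩ := Function.ne_iff.mp hρ
        exact ⟨f a, by rw [he]; exact ha⟩
  obtain ⟨E, hE, hEK, -, hEx⟩ := exists_diagElt hM e hen hep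
  set a : Vs := fun l => (e l - 1) * p l with ha
  have hEp : (E : Matrix (Fin n) (Fin n) F) *ᵥ p = p + a := by
    funext l; rw [hEx, Pi.add_apply, ha]; ring
  have hap : h a p = 0 := by
    rw [← hes, Cfsg.hermForm]; exact Finset.sum_congr rfl fun l _ => by rw [ha, hr]; ring
  have hpa : h p a = 0 := h_symm hF hap
  have hqq : h (p + a) (p + a) = 0 := by rw [← hEp, apply_K hEK, hpp]
  have haa : h a a = 0 := by
    rw [herm_add_left hF, herm_add_right hF, herm_add_right hF, hpp, hap, hpa] at hqq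
    linear_combination hqq
  have hTq : T (p + a) 1 hqq ∈ H := by
    have h1 := H.mul_mem (H.mul_mem hE hTp) (H.inv_mem hE)
    rw [conj_T (hH hE) p 1 hpp] at h1
    convert h1 using 2
    exact hEp.symm
  obtain ⟨k₁, hk₁⟩ : ∃ k, k ∉ L := by
    by_contra hall; push Not at hall
    have := Finset.card_le_card (show (Finset.univ : Finset (Fin n)) ⊆ L from fun l _ => hall l)
    rw [Finset.card_univ, Fintype.card_fin] at this
    omega
  have haL : ∀ l, l ∉ L → a l = 0 := fun l hl => by rw [ha]; simp [heL l hl]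
  have hzk : ∀ k, a k = 0 → ((T p 1 hpp * T (p + a) 1 hqq : GL (Fin n) F) : Matrix (Fin n) (Fin n) F) *ᵥ
      Pi.single k 1 = Pi.single k 1 + p k ^ q • a := fun k hk => by
    rw [Units.val_mul, ← mulVec_mulVec, T_mulVec, T_mulVec, herm_add_left hF, herm_smul_left hF,
      herm_add_left hF, hpp, hap, herm_single_left, herm_single_left, Pi.add_apply, hk]
    funext b
    simp
    linear_combination (p k ^ q * p b) * h2
  refine eq_suGL_of_short hF (by omega) hH hM (H.mul_mem hTp hTq) (a := a) (Function.ne_iff.mpr ⟨b, ?_⟩) ?_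
    (fun k hk => ⟨_, hzk k hk⟩) (haL k₁ hk₁) ?_ haL hLc
  · simp [ha, sub_ne_zero.mpr hb, hzero b]
  · rw [Units.val_mul, ← mulVec_mulVec, T_mulVec, T_mulVec, herm_add_right hF, haa, hap]
    simp [hap]
  · rw [hzk _ (haL k₁ hk₁)]
    intro e'
    have h1 := congrFun e' b
    simp [ha, sub_ne_zero.mpr hb, hzero b, hzero k₁, hq0] at h1

/-- Over nine elements two of three distinct weights balance a pair. -/
theorem exists_nine_phase [DecidableEq F] (hq : q = 9) {r s₁ s₂ s₃ : F} (hr : r ^ q = r) (hr0 : r ≠ 0)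
    (h12 : s₁ ≠ s₂) (h13 : s₁ ≠ s₃) (h23 : s₂ ≠ s₃) (hs : ∀ x ∈ ({s₁, s₂, s₃} : Finset F), x ^ q = x ∧ x ≠ r) :
    ∃ x ∈ ({s₁, s₂, s₃} : Finset F), ∃ y ∈ ({s₁, s₂, s₃} : Finset F), x ≠ y ∧
      ∃ ρ ∈ normOne q F, r * ((ρ + ρ ^ q) - 2) + (x + y) * (-2) = 0 := by
  by_contra hno
  push Not at hno
  have h3 : (3 : F) = 0 := by
    have h0 := FiniteField.cast_card_eq_zero F
    rw [hF, hq] at h0
    push_cast at h0
    exact pow_eq_zero_iff (four_ne_zero) |>.mp (show (3 : F) ^ 4 = 0 by linear_combination h0)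
  have h2 : (2 : F) ≠ 0 := fun e => one_ne_zero (by linear_combination h3 - e)
  set f : F → F → F := fun x y => -1 - (x + y) / r with hf
  set C := fixedField q F \ traceSet q F with hC
  have hCc : C.card ≤ 3 := by
    have h1 := card_traceSet hF
    rw [hC, Finset.card_sdiff_of_subset (traceSet_subset hF), card_fixedField hF]
    omega
  have hCneg : ∀ t ∈ C, -t ∈ C := by
    intro t ht
    rw [hC, Finset.mem_sdiff, mem_fixedField] at ht ⊢
    refine ⟨by rw [q_neg hF, ht.1], fun hn' => ht.2 ?_⟩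
    obtain ⟨x, hx, hxt⟩ := Finset.mem_image.mp hn'
    refine Finset.mem_image.mpr ⟨-x, ?_, by rw [q_neg hF]; linear_combination -hxt⟩
    rw [mem_normOne, q_neg hF]; linear_combination mem_normOne.mp hx
  have hfC : ∀ x ∈ ({s₁, s₂, s₃} : Finset F), ∀ y ∈ ({s₁, s₂, s₃} : Finset F), x ≠ y → f x y ∈ C := by
    intro x hx y hy hxy
    rw [hC, Finset.mem_sdiff, mem_fixedField]
    refine ⟨by rw [hf, q_sub hF, q_neg hF, one_pow, div_pow, q_add hF, (hs x hx).1, (hs y hy).1, hr], fun hn' => ?_⟩
    obtain ⟨ρ, hρ, hρt⟩ := Finset.mem_image.mp hn'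
    refine hno x hx y hy hxy ρ hρ ?_
    rw [hρt, hf]
    field_simp
    linear_combination -(r + x + y) * h3
  have m1 : s₁ ∈ ({s₁, s₂, s₃} : Finset F) := by simp
  have m2 : s₂ ∈ ({s₁, s₂, s₃} : Finset F) := by simp
  have m3 : s₃ ∈ ({s₁, s₂, s₃} : Finset F) := by simp
  set t₁ := f s₁ s₂ with ht₁
  set t₂ := f s₁ s₃ with ht₂
  set t₃ := f s₂ s₃ with ht₃
  have hinj : ∀ {a b c d : F}, f a b = f c d → a + b = c + d := fun {a b c d} e => by
    rw [hf] at e; field_simp at e; linear_combination -e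
  have e12 : t₁ ≠ t₂ := fun e => h23 (by linear_combination hinj e)
  have e13 : t₁ ≠ t₃ := fun e => h13 (by linear_combination hinj e)
  have e23 : t₂ ≠ t₃ := fun e => h12 (by linear_combination hinj e)
  have hCeq : ({t₁, t₂, t₃} : Finset F) = C := Finset.eq_of_subset_of_card_le (by
    intro t ht
    simp only [Finset.mem_insert, Finset.mem_singleton] at ht
    rcases ht with rfl | rfl | rfl
    · exact hfC _ m1 _ m2 h12
    · exact hfC _ m1 _ m3 h13
    · exact hfC _ m2 _ m3 h23) (by rw [Finset.card_eq_three.mpr ⟨_, _, _, e12, e13, e23, rfl⟩]; exact hCc)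
  have hself : ∀ t : F, -t = t → t = 0 := fun t e =>
    (mul_eq_zero.mp (show (2 : F) * t = 0 by linear_combination -e)).resolve_left h2
  have hn : ∀ t ∈ ({t₁, t₂, t₃} : Finset F), -t = t₁ ∨ -t = t₂ ∨ -t = t₃ := fun t ht => by
    have := hCeq.ge (hCneg t (hCeq.le ht))
    simpa using this
  have hsum0 : t₁ + t₂ + t₃ = 0 := by
    have key : ∑ t ∈ C, t = -∑ t ∈ C, t := by
      rw [← Finset.sum_neg_distrib]
      exact Finset.sum_nbij' (fun t => -t) (fun t => -t) hCneg hCneg (fun t _ => neg_neg t) (fun t _ => neg_neg t)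
        (fun t _ => (neg_neg t).symm)
    have := hself _ key.symm
    rw [← hCeq, Finset.sum_insert (by simp [e12, e13]), Finset.sum_insert (by simp [e23]),
      Finset.sum_singleton] at this
    linear_combination this
  have hzero : t₁ = 0 ∨ t₂ = 0 ∨ t₃ = 0 := by
    rcases hn t₁ (by simp) with e | e | e
    · exact Or.inl (hself _ e)
    · exact Or.inr (Or.inr (by linear_combination hsum0 + e))
    · exact Or.inr (Or.inl (by linear_combination hsum0 + e))
  have hss : s₁ + s₂ + s₃ = 0 := by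
    rw [ht₁, ht₂, ht₃, hf] at hsum0
    field_simp at hsum0
    linear_combination hsum0 + (r + s₁ + s₂ + s₃) * h3
  rcases hzero with e | e | e
  · rw [ht₁, hf] at e; field_simp at e
    exact (hs _ m3).2 (by linear_combination hss + e)
  · rw [ht₂, hf] at e; field_simp at e
    exact (hs _ m2).2 (by linear_combination hss + e)
  · rw [ht₃, hf] at e; field_simp at e
    exact (hs _ m1).2 (by linear_combination hss + e)

/-- The case of odd characteristic. -/
theorem eq_suGL_of_odd [DecidableEq F] (hn : 10 ≤ n) (hnq : q < n) (h2 : (2 : F) ≠ 0) (hH : H ≤ suGL n F q)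
    (hM : ContainsMono q H) {g : GL (Fin n) F} (hg : g ∈ H) (hgm : ¬ IsMono g) : H = suGL n F q := by
  classical
  have hq0 := q_ne_zero hF
  have hq3 : 3 ≤ q := by
    have h2q := two_le_of_card_sq hF
    by_contra hlt
    have := FiniteField.cast_card_eq_zero F
    rw [hF, show q = 2 by omega] at this
    push_cast at this
    exact h2 (mul_self_eq_zero.mp (show (2 : F) * 2 = 0 by linear_combination this))
  by_contra hK
  set col : Fin n → Vs := fun l => (g : Matrix (Fin n) (Fin n) F) *ᵥ Pi.single l 1 with hcol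
  set N : Vs → Fin n → F := fun v l => v l * v l ^ q with hN
  have honezero : ∀ l a b, col l a = 0 → col l b = 0 → a = b := fun l a b ha hb => by
    by_contra hab
    exact hK (eq_suGL_of_two_zeros hF (by omega) hq3 hH hM hg hgm hab ha hb)
  have hNq : ∀ v l, N v l ^ q = N v l := fun v l => by rw [hN, mul_pow, pow_q_pow_q hF, mul_comm]
  have hcount : ∀ (v : Vs) (A : Finset (Fin n)), (∀ a ∈ A, v a ≠ 0) → (A.image (N v)).card + 1 ≤ q := by
    intro v A hA
    calc (A.image (N v)).card + 1 ≤ ((fixedField q F).erase 0).card + 1 :=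
          Nat.add_le_add_right (Finset.card_le_card fun s hs => by
            obtain ⟨l, hl, rfl⟩ := Finset.mem_image.mp hs
            exact Finset.mem_erase.mpr ⟨mul_ne_zero (hA l hl) (pow_ne_zero _ (hA l hl)), mem_fixedField.mpr (hNq v l)⟩) 1
      _ = q := by rw [Finset.card_erase_of_mem (mem_fixedField.mpr (q_zero hF)), card_fixedField hF]; omega
  -- a monomial element fixing a column, with a zero if any column has one
  obtain ⟨j, hjz⟩ : ∃ j, (∃ k, col j k = 0) ∨ ∀ l a, col l a ≠ 0 := by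
    by_cases hex : ∃ l a, col l a = 0
    · obtain ⟨l, a, h0⟩ := hex; exact ⟨l, Or.inl ⟨a, h0⟩⟩
    · push Not at hex; exact ⟨⟨0, by omega⟩, Or.inr hex⟩
  set v := col j with hv
  obtain ⟨m, hm, hmK, hmv, S, hS, hS', hmS, hmne⟩ : ∃ m ∈ H, m ∈ suGL n F q ∧
      (m : Matrix (Fin n) (Fin n) F) *ᵥ v = v ∧ ∃ S : Finset (Fin n), S.card ≤ 4 ∧
      (S.card ≤ 3 ∨ ∀ l a, col l a ≠ 0) ∧
      (∀ x l, l ∉ S → ((m : Matrix (Fin n) (Fin n) F) *ᵥ x) l = x l) ∧
      ∃ x, (m : Matrix (Fin n) (Fin n) F) *ᵥ x ≠ x := by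
    have hswap : ∀ {a b : Fin n}, N v a = N v b → ∀ l, N v (Equiv.swap a b l) = N v l := fun {a b} e l => by
      rcases eq_or_ne l a with rfl | hla
      · rw [Equiv.swap_apply_left, e]
      rcases eq_or_ne l b with rfl | hlb
      · rw [Equiv.swap_apply_right, e]
      · rw [Equiv.swap_apply_of_ne_of_ne hla hlb]
    have hratio : ∀ {l l' : Fin n}, v l ≠ 0 → v l' ≠ 0 → N v l = N v l' →
        v l / v l' * (v l / v l') ^ q = 1 := fun {l l'} hl hl' e => by
      rw [div_pow, div_mul_div_comm, show v l * v l ^ q = v l' * v l' ^ q from e, div_self]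
      exact mul_ne_zero hl' (pow_ne_zero _ hl')
    by_cases hz : ∃ k, v k = 0
    · obtain ⟨k, hk⟩ := hz
      have hnz : ∀ l, l ≠ k → v l ≠ 0 := fun l hl e => hl (honezero j l k e hk)
      set A := (Finset.univ : Finset (Fin n)).erase k with hA
      obtain ⟨a, ha, b, hb, hab, hr⟩ := Finset.exists_ne_map_eq_of_card_lt_of_maps_to
        (show (A.image (N v)).card < A.card by
          have := hcount v A fun l hl => hnz l (Finset.ne_of_mem_erase hl)
          rw [hA, Finset.card_erase_of_mem (Finset.mem_univ k), Finset.card_univ, Fintype.card_fin]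
          rw [hA] at this
          omega) (fun l hl => Finset.mem_image_of_mem (N v) hl)
      have hak := Finset.ne_of_mem_erase ha
      have hbk := Finset.ne_of_mem_erase hb
      set σ := Equiv.swap a b with hσ
      have hσk : σ k = k := Equiv.swap_apply_of_ne_of_ne hak.symm hbk.symm
      have hσne : ∀ l, l ≠ k → σ l ≠ k := fun l hl e => hl (σ.injective (e.trans hσk.symm))
      obtain ⟨m, hm, hmK, -, hmx, c, -, hmk⟩ := exists_phased hF hM σ k (fun l => v l / v (σ l))
        (fun l hl => hratio (hnz l hl) (hnz _ (hσne l hl)) (hswap hr l).symm)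
      refine ⟨m, hm, hmK, ?_, {a, b, k}, Finset.card_le_three.trans (by norm_num), Or.inl Finset.card_le_three,
        fun x l hl => ?_,
        Pi.single a 1, ?_⟩
      · funext l
        rcases eq_or_ne l k with rfl | hl
        · rw [hmk, hσk, hk, mul_zero]
        · rw [hmx _ _ hl, div_mul_cancel₀ _ (hnz _ (hσne l hl))]
      · simp only [Finset.mem_insert, Finset.mem_singleton, not_or] at hl
        rw [hmx _ _ hl.2.2, hσ, Equiv.swap_apply_of_ne_of_ne hl.1 hl.2.1, div_self (hnz l hl.2.2), one_mul]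
      · intro e
        have := congrFun e b
        rw [hmx _ _ hbk, hσ, Equiv.swap_apply_right, Pi.single_eq_same, Pi.single_eq_of_ne hab.symm, mul_one] at this
        exact div_ne_zero (hnz b hbk) (hnz a hak) this
    · push Not at hz
      obtain ⟨a, -, b, -, hab, hr⟩ := Finset.exists_ne_map_eq_of_card_lt_of_maps_to
        (show ((Finset.univ : Finset (Fin n)).image (N v)).card < (Finset.univ : Finset (Fin n)).card by
          have := hcount v Finset.univ fun l _ => hz l
          rw [Finset.card_univ, Fintype.card_fin]; omega) (fun l hl => Finset.mem_image_of_mem (N v) hl)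
      obtain ⟨c, hc, d, hd, hcd, hr'⟩ := Finset.exists_ne_map_eq_of_card_lt_of_maps_to
        (show (((Finset.univ : Finset (Fin n)).erase b).image (N v)).card < ((Finset.univ : Finset (Fin n)).erase b).card by
          have := hcount v ((Finset.univ : Finset (Fin n)).erase b) fun l _ => hz l
          rw [Finset.card_erase_of_mem (Finset.mem_univ b), Finset.card_univ, Fintype.card_fin]; omega)
        (fun l hl => Finset.mem_image_of_mem (N v) hl)
      set σ := Equiv.swap a b * Equiv.swap c d with hσ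
      have hσr : ∀ l, N v (σ l) = N v l := fun l => by
        rw [hσ, Equiv.Perm.mul_apply, hswap hr, hswap hr']
      have hσb : σ b = a := by
        rw [hσ, Equiv.Perm.mul_apply, Equiv.swap_apply_of_ne_of_ne (Finset.ne_of_mem_erase hc).symm
          (Finset.ne_of_mem_erase hd).symm, Equiv.swap_apply_right]
      obtain ⟨m, hm, hmK, -, hmx⟩ := exists_monoElt hM σ (fun l => v l / v (σ l))
        (fun l => hratio (hz l) (hz _) (hσr l).symm) (by
          rw [Finset.prod_div_distrib, Equiv.prod_comp σ v, div_self (Finset.prod_ne_zero_iff.mpr fun l _ => hz l),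
            one_mul, hσ, map_mul, Equiv.Perm.sign_swap hab, Equiv.Perm.sign_swap hcd]
          simp)
      refine ⟨m, hm, hmK, funext fun l => by rw [hmx, div_mul_cancel₀ _ (hz _)], {a, b, c, d},
        Finset.card_le_four, Or.inr (hjz.resolve_left fun ⟨k, hk⟩ => hz k hk), fun x l hl => ?_,
        Pi.single a 1, ?_⟩
      · simp only [Finset.mem_insert, Finset.mem_singleton, not_or] at hl
        have : σ l = l := by
          rw [hσ, Equiv.Perm.mul_apply, Equiv.swap_apply_of_ne_of_ne hl.2.2.1 hl.2.2.2,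
            Equiv.swap_apply_of_ne_of_ne hl.1 hl.2.1]
        rw [hmx, this, div_self (hz l), one_mul]
      · intro e
        have := congrFun e b
        rw [hmx, hσb, Pi.single_eq_same, Pi.single_eq_of_ne hab.symm, mul_one] at this
        exact div_ne_zero (hz b) (hz a) this
  -- a column which is no eigenvector
  have hzcard : ∀ l, (Finset.univ.filter fun a => col l a = 0).card ≤ 1 := fun l =>
    Finset.card_le_one.mpr fun a ha b hb => honezero l a b (Finset.mem_filter.mp ha).2 (Finset.mem_filter.mp hb).2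
  obtain ⟨i, hi⟩ : ∃ i, ∀ κ : F, (m : Matrix (Fin n) (Fin n) F) *ᵥ col i ≠ κ • col i := by
    by_contra hno
    push Not at hno
    obtain ⟨x, hx⟩ := hmne
    refine hx ?_
    have hfixcol : ∀ l, (m : Matrix (Fin n) (Fin n) F) *ᵥ col l = col l := fun l => by
      obtain ⟨κ, hκ⟩ := hno l
      by_cases hκ1 : κ = 1
      · rwa [hκ1, one_smul] at hκ
      exfalso
      have h1 : Sᶜ ⊆ Finset.univ.filter fun a => col l a = 0 := fun a ha => by
        have h3 := congrFun hκ a
        rw [hmS _ a (Finset.mem_compl.mp ha), Pi.smul_apply, smul_eq_mul] at h3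
        refine Finset.mem_filter.mpr ⟨Finset.mem_univ a, ?_⟩
        exact (mul_eq_zero.mp (show (κ - 1) * col l a = 0 by linear_combination -h3)).resolve_left (sub_ne_zero.mpr hκ1)
      have h3 := (Finset.card_le_card h1).trans (hzcard l)
      rw [Finset.card_compl, Fintype.card_fin] at h3
      omega
    have hy := sum_single (((g⁻¹ : GL (Fin n) F) : Matrix (Fin n) (Fin n) F) *ᵥ x)
    have hxg := mulVec_inv_mulVec g x
    rw [hy, mulVec_sum] at hxg
    rw [← hxg, mulVec_sum]
    refine Finset.sum_congr rfl fun l _ => ?_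
    rw [mulVec_smul, mulVec_smul]
    exact congrArg _ (hfixcol l)
  set u := col i with hu
  have hij : i ≠ j := fun e => hi 1 (by rw [hu, e, ← hv, hmv, one_smul])
  set mu := (m : Matrix (Fin n) (Fin n) F) *ᵥ u with hmu
  have huu : h u u = 1 := by
    rw [hu, hcol, apply_K (hH hg), herm_single_left, Pi.single_eq_same, one_pow, one_mul]
  have huv : h u v = 0 := by
    rw [hu, hv, hcol, apply_K (hH hg), herm_single_left, Pi.single_eq_of_ne hij, q_zero hF, mul_zero]
  have hvv : h v v = 1 := by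
    rw [hv, hcol, apply_K (hH hg), herm_single_left, Pi.single_eq_same, one_pow, one_mul]
  have hvu : h v u = 0 := h_symm hF huv
  have hvmu : h v mu = 0 := by
    rw [show v = (m : Matrix (Fin n) (Fin n) F) *ᵥ v from hmv.symm, hmu, apply_K hmK, hvu]
  have hmuv : h mu v = 0 := h_symm hF hvmu
  have hmumu : h mu mu = 1 := by rw [hmu, apply_K hmK, huu]
  set K := h u mu with hKdef
  have hmuu : h mu u = K ^ q := by rw [hKdef, herm_conj hF]
  obtain ⟨ω, hω', hω1, -, -⟩ := exists_omega hF
  have hω := mem_normOne.mp hω'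
  have hconjR : ∀ ζ : F, ζ * ζ ^ q = 1 → ∃ y ∈ H, ∀ x : Vs, (y : Matrix (Fin n) (Fin n) F) *ᵥ x =
      x + ((ζ - 1) * h x u) • u + ((ζ ^ q - 1) * h x v) • v := by
    intro ζ hζ
    obtain ⟨D, hD, -, -, hDi, hDj, hDo⟩ := exists_torus hF hM hij hζ
    refine ⟨g * D * g⁻¹, H.mul_mem (H.mul_mem hg hD) (H.inv_mem hg), fun x => ?_⟩
    rw [Units.val_mul, Units.val_mul, ← mulVec_mulVec, ← mulVec_mulVec]
    set x' := ((g⁻¹ : GL (Fin n) F) : Matrix (Fin n) (Fin n) F) *ᵥ x with hx'
    have hxg : x = (g : Matrix (Fin n) (Fin n) F) *ᵥ x' := (mulVec_inv_mulVec g x).symm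
    have e : (D : Matrix (Fin n) (Fin n) F) *ᵥ x' =
        x' + ((ζ - 1) * x' i) • Pi.single i 1 + ((ζ ^ q - 1) * x' j) • Pi.single j 1 := by
      funext a
      rcases eq_or_ne a i with rfl | hai
      · simp [hDi, hij]; ring
      rcases eq_or_ne a j with rfl | haj
      · simp [hDj, hai]; ring
      · simp [hDo _ a hai haj, hai, haj]
    rw [e, mulVec_add, mulVec_add, mulVec_smul, mulVec_smul, ← hxg]
    have hi' : h x u = x' i := by
      rw [hxg, hu, hcol, apply_K (hH hg), herm_single_right hq0, one_pow, mul_one]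
    have hj' : h x v = x' j := by
      rw [hxg, hv, hcol, apply_K (hH hg), herm_single_right hq0, one_pow, mul_one]
    rw [hi', hj', hu, hv]
  obtain ⟨y, hy, hyx⟩ := hconjR ω hω
  obtain ⟨y', hy', hy'x⟩ := hconjR (ω ^ q) (by rw [pow_q_pow_q hF, mul_comm]; exact hω)
  set z := m * y * m⁻¹ * y' with hz
  have hzH : z ∈ H := H.mul_mem (H.mul_mem (H.mul_mem hm hy) (H.inv_mem hm)) hy'
  have hzx : ∀ x : Vs, (z : Matrix (Fin n) (Fin n) F) *ᵥ x = x + ((ω ^ q - 1) * h x u) • u +
      ((ω - 1) * (h x mu + (ω ^ q - 1) * h x u * K)) • mu := by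
    intro x
    rw [hz, Units.val_mul, Units.val_mul, Units.val_mul, ← mulVec_mulVec, ← mulVec_mulVec, ← mulVec_mulVec,
      hyx, mulVec_add, mulVec_add, mulVec_smul, mulVec_smul, mulVec_inv_mulVec, hmv, ← hmu]
    have hinv : ∀ x' w : Vs, h (((m⁻¹ : GL (Fin n) F) : Matrix (Fin n) (Fin n) F) *ᵥ x') w =
        h x' ((m : Matrix (Fin n) (Fin n) F) *ᵥ w) := fun x' w => by
      conv_rhs => rw [← mulVec_inv_mulVec m x', apply_K hmK]
    rw [hinv, hinv, hmv, ← hmu, hy'x, pow_q_pow_q hF]
    simp only [herm_add_left hF, herm_smul_left hF, hvmu, huv, hvv, ← hKdef]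
    match_scalars <;> first | ring1 | linear_combination (h x v) * hω
  -- the coordinates used
  set A := (Finset.univ.filter fun a => u a ≠ 0) \ S with hA
  have hAmem : ∀ a ∈ A, u a ≠ 0 ∧ a ∉ S := fun a ha => by
    simp only [hA, Finset.mem_sdiff, Finset.mem_filter, Finset.mem_univ, true_and] at ha; exact ha
  have hAmu : ∀ a ∈ A, mu a = u a := fun a ha => hmS u a (hAmem a ha).2
  have hAc : n ≤ A.card + 4 := by
    have h1 := Finset.card_filter_add_card_filter_not (s := (Finset.univ : Finset (Fin n))) (fun a => u a ≠ 0)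
    have h3 : (Finset.univ.filter fun a => ¬ u a ≠ 0).card ≤ 1 := by simpa using hzcard i
    have h4 := Finset.le_card_sdiff S (Finset.univ.filter fun a => u a ≠ 0)
    rw [Finset.card_univ, Fintype.card_fin] at h1
    rw [← hA] at h4
    rcases hS' with h5 | h5
    · omega
    · have h6 : (Finset.univ.filter fun a => ¬ u a ≠ 0).card = 0 :=
        Finset.card_eq_zero.mpr (Finset.filter_eq_empty_iff.mpr fun a _ h0 => h0 (h5 i a))
      omega
  have hωq1 : ω ^ q ≠ 1 := fun e => hω1 (q_inj hF (by rw [one_pow, e]))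
  by_cases hK1 : K = 1
  · -- a singular difference supported on `S`
    set w := mu - u with hw
    have hwu : h w u = 0 := by rw [hw, h_sub_left hF, hmuu, hK1, one_pow, huu, sub_self]
    have hwmu : h w mu = 0 := by rw [hw, h_sub_left hF, hmumu, ← hKdef, hK1, sub_self]
    have hwS : ∀ l, l ∉ S → w l = 0 := fun l hl => by rw [hw, Pi.sub_apply, hmu, hmS u l hl, sub_self]
    obtain ⟨k₁, hk₁⟩ := Finset.card_pos.mp (by omega : 0 < A.card)
    have hzk : ∀ k, w k = 0 → (z : Matrix (Fin n) (Fin n) F) *ᵥ Pi.single k 1 =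
        Pi.single k 1 + ((1 - ω ^ q) * u k ^ q) • w := fun k hk => by
      have hmk : mu k = u k := sub_eq_zero.mp hk
      rw [hzx, herm_single_left, herm_single_left, hmk, hK1, hw]
      match_scalars
      · ring
      · ring
      · linear_combination (u k ^ q) * hω
    refine hK (eq_suGL_of_short hF (by omega) hH hM hzH (a := w) (fun e => hi 1 ?_) (by rw [hzx, hwu, hwmu]; simp)
      (fun k hk => ⟨_, hzk k hk⟩) (hwS k₁ (hAmem k₁ hk₁).2) ?_ hwS (by omega))
    · rw [one_smul]; exact sub_eq_zero.mp e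
    · rw [hzk _ (hwS k₁ (hAmem k₁ hk₁).2)]
      intro e
      obtain ⟨l, hl⟩ := Function.ne_iff.mp (show w ≠ 0 from fun e' => hi 1 (by rw [one_smul]; exact sub_eq_zero.mp e'))
      have h1 := congrFun e l
      simp [hq0, sub_ne_zero.mpr (Ne.symm hωq1), (hAmem k₁ hk₁).1] at h1
      exact hl h1
  -- phases
  obtain ⟨e, L, hen, hep, hes, heL, hLA, hLc, b, hb⟩ : ∃ (e : Vs) (L : Finset (Fin n)),
      (∀ l, e l * e l ^ q = 1) ∧ ∏ l, e l = 1 ∧ ∑ l, (e l - 1) * N u l = 0 ∧ (∀ l, l ∉ L → e l = 1) ∧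
      L ⊆ A ∧ L.card ≤ 4 ∧ ∃ b, e b ≠ 1 := by
    by_cases hopp : ∃ a ∈ A, ∃ b ∈ A, N u a + N u b = 0
    · obtain ⟨a, ha, b, hb, hab'⟩ := hopp
      have hab : a ≠ b := fun e => by
        subst e
        exact mul_ne_zero h2 (mul_ne_zero (hAmem a ha).1 (pow_ne_zero _ (hAmem a ha).1)) (by
          rw [hN] at hab'; linear_combination hab')
      have hinj : Function.Injective ![a, b] := by
        intro x y e
        fin_cases x <;> fin_cases y <;> simp_all
      obtain ⟨e, he, heo, hen, hep, hes⟩ := exists_extend (q := q) hinj (fun _ => (-1 : F)) (fun _ => by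
        rw [q_neg hF, one_pow]; ring)
      refine ⟨e, {a, b}, hen, by rw [hep]; simp, ?_, fun l hl => heo l fun x e' => hl ?_, ?_, ?_, a, ?_⟩
      · rw [hes, Fin.sum_univ_two]
        simp
        linear_combination -2 * hab'
      · subst e'; fin_cases x <;> simp
      · exact Finset.insert_subset ha (Finset.singleton_subset_iff.mpr hb)
      · exact Finset.card_le_two.trans (by norm_num)
      · have h1 := he 0
        simp at h1
        rw [h1]
        exact fun e' => h2 (by linear_combination -e')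
    · push Not at hopp
      have hneg : Disjoint (A.image (N u)) ((A.image (N u)).image fun s => -s) := by
        refine Finset.disjoint_left.mpr fun s hs hs' => ?_
        obtain ⟨a, ha, rfl⟩ := Finset.mem_image.mp hs
        obtain ⟨t, ht, hts⟩ := Finset.mem_image.mp hs'
        obtain ⟨b, hb, rfl⟩ := Finset.mem_image.mp ht
        exact hopp a ha b hb (by rw [← hts]; ring)
      have hsub : A.image (N u) ∪ (A.image (N u)).image (fun s => -s) ⊆ (fixedField q F).erase 0 := by
        refine Finset.union_subset (fun s hs => ?_) fun s hs => ?_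
        · obtain ⟨a, ha, rfl⟩ := Finset.mem_image.mp hs
          exact Finset.mem_erase.mpr ⟨mul_ne_zero (hAmem a ha).1 (pow_ne_zero _ (hAmem a ha).1),
            mem_fixedField.mpr (hNq u a)⟩
        · obtain ⟨t, ht, rfl⟩ := Finset.mem_image.mp hs
          obtain ⟨a, ha, rfl⟩ := Finset.mem_image.mp ht
          exact Finset.mem_erase.mpr ⟨neg_ne_zero.mpr (mul_ne_zero (hAmem a ha).1 (pow_ne_zero _ (hAmem a ha).1)),
            mem_fixedField.mpr (by rw [q_neg hF, hNq])⟩
      have himg := Finset.card_le_card hsub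
      rw [Finset.card_union_of_disjoint hneg, Finset.card_image_of_injective _ neg_injective,
        Finset.card_erase_of_mem (mem_fixedField.mpr (q_zero hF)), card_fixedField hF] at himg
      by_cases hpairs : (A.image (N u)).card + 3 ≤ A.card
      · obtain ⟨a, b, c, d, ha, hb, hc, hd, hab, hcd, hac, had, hbc, hbd, e1, e2⟩ :=
          exists_two_pairs A (N u) hpairs
        obtain ⟨e, h1, h3, h4, h5, h6⟩ := exists_pair_phases hF hab hcd hac had hbc hbd (hNq u a) (hNq u c)
          (mul_ne_zero (hAmem a ha).1 (pow_ne_zero _ (hAmem a ha).1))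
          (mul_ne_zero (hAmem c hc).1 (pow_ne_zero _ (hAmem c hc).1)) e1 e2
        refine ⟨e, _, h1, h3, h4, h5, ?_, Finset.card_le_four, a, h6⟩
        intro x hx
        simp only [Finset.mem_insert, Finset.mem_singleton] at hx
        rcases hx with rfl | rfl | rfl | rfl <;> assumption
      · -- nine elements, six weights in four classes
        have hq9 : q = 9 := by
          have : q % 2 = 1 := by
            obtain ⟨p, hp⟩ := CharP.exists F
            obtain ⟨N', hpp, hcard⟩ := FiniteField.card F p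
            rcases hpp.eq_two_or_odd with rfl | hodd
            · exact absurd (CharTwo.two_eq_zero (R := F)) h2
            · have hsq : (q ^ 2) % 2 = 1 := by rw [← hF, hcard, Nat.pow_mod, hodd, one_pow, Nat.one_mod]
              rw [Nat.pow_mod] at hsq
              rcases Nat.mod_two_eq_zero_or_one q with h' | h'
              · rw [h'] at hsq; norm_num at hsq
              · exact h'
          omega
        obtain ⟨a, ha, b, hb, hab, hr⟩ := Finset.exists_ne_map_eq_of_card_lt_of_maps_to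
          (show (A.image (N u)).card < A.card by omega) (fun x hx => Finset.mem_image_of_mem (N u) hx)
        obtain ⟨T, hT, hTc⟩ := Finset.exists_subset_card_eq (s := (A.image (N u)).erase (N u a)) (n := 3) (by
          rw [Finset.card_erase_of_mem (Finset.mem_image_of_mem _ ha)]; omega)
        obtain ⟨s₁, s₂, s₃, h12, h13, h23, rfl⟩ := Finset.card_eq_three.mp hTc
        have hmem : ∀ x ∈ ({s₁, s₂, s₃} : Finset F), ∃ c ∈ A, N u c = x ∧ x ≠ N u a := fun x hx => by
          obtain ⟨h1, h2⟩ := Finset.mem_erase.mp (hT hx)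
          obtain ⟨c, hc, hcx⟩ := Finset.mem_image.mp h2
          exact ⟨c, hc, hcx, h1⟩
        obtain ⟨x, hx, y, hy, hxy, ρ, hρ, hρs⟩ := exists_nine_phase hF hq9 (hNq u a)
          (mul_ne_zero (hAmem a ha).1 (pow_ne_zero _ (hAmem a ha).1)) h12 h13 h23
          (fun x hx => by obtain ⟨c, -, rfl, hne'⟩ := hmem x hx; exact ⟨hNq u c, hne'⟩)
        obtain ⟨c, hc, rfl, hca⟩ := hmem x hx
        obtain ⟨d, hd, rfl, hda⟩ := hmem y hy
        have hcd : c ≠ d := fun e => hxy (e ▸ rfl)
        have hac : a ≠ c := fun e => hca (e ▸ rfl)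
        have had : a ≠ d := fun e => hda (e ▸ rfl)
        have hbc : b ≠ c := fun e => hca (by rw [← e]; exact hr.symm)
        have hbd : b ≠ d := fun e => hda (by rw [← e]; exact hr.symm)
        have hinj : Function.Injective ![a, b, c, d] := by
          intro i j e
          fin_cases i <;> fin_cases j <;> simp_all
        obtain ⟨e, he, heo, hen, hep, hes⟩ := exists_extend (q := q) hinj ![ρ, ρ ^ q, -1, -1] (fun i => by
          fin_cases i <;> simp [mem_normOne.mp hρ, mem_normOne.mp (normOne_conj hF hρ), q_neg hF])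
        refine ⟨e, {a, b, c, d}, hen, ?_, ?_, fun l hl => heo l fun i e' => hl ?_, ?_, Finset.card_le_four, c, ?_⟩
        · rw [hep, Fin.prod_univ_four]; simp [mem_normOne.mp hρ]
        · rw [hes, Fin.sum_univ_four]
          simp
          rw [← hr]
          linear_combination hρs
        · subst e'; fin_cases i <;> simp
        · intro x hx
          simp only [Finset.mem_insert, Finset.mem_singleton] at hx
          rcases hx with rfl | rfl | rfl | rfl <;> assumption
        · have h1 := he 2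
          simp at h1
          rw [h1]
          exact fun e' => h2 (by linear_combination -e')
  obtain ⟨E, hE, hEK, -, hEx⟩ := exists_diagElt hM e hen hep
  set a : Vs := fun l => (e l - 1) * u l with ha
  have haL : ∀ l, l ∉ L → a l = 0 := fun l hl => by rw [ha]; simp [heL l hl]
  have hEu : (E : Matrix (Fin n) (Fin n) F) *ᵥ u = u + a := by
    funext l; rw [hEx, Pi.add_apply, ha]; ring
  have hEmu : (E : Matrix (Fin n) (Fin n) F) *ᵥ mu = mu + a := by
    funext l
    rw [hEx, Pi.add_apply, ha]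
    by_cases hl : l ∈ L
    · rw [hAmu l (hLA hl)]; ring
    · simp [heL l hl]
  have hau : h a u = 0 := by
    rw [← hes, Cfsg.hermForm]; exact Finset.sum_congr rfl fun l _ => by rw [ha, hN]; ring
  have hamu : h a mu = 0 := by
    rw [← hes, Cfsg.hermForm]
    refine Finset.sum_congr rfl fun l _ => ?_
    rw [ha, hN]
    by_cases hl : l ∈ L
    · rw [hAmu l (hLA hl)]; ring
    · simp [heL l hl]
  have haa : h a a = 0 := by
    have h1 := apply_K hEK u u
    rw [hEu, herm_add_left hF, herm_add_right hF, herm_add_right hF, hau, h_symm hF hau] at h1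
    linear_combination h1
  set γ : Vs → F := fun x => (ω ^ q - 1) * h x u + (ω - 1) * (h x mu + (ω ^ q - 1) * h x u * K) with hγ
  set z' := z⁻¹ * (E * z * E⁻¹) with hz'
  have hza : (z : Matrix (Fin n) (Fin n) F) *ᵥ a = a := by rw [hzx, hau, hamu]; simp
  have hz'x : ∀ x : Vs, h x a = 0 → (z' : Matrix (Fin n) (Fin n) F) *ᵥ x = x + γ x • a := by
    intro x hxa
    have h1 : ((E * z * E⁻¹ : GL (Fin n) F) : Matrix (Fin n) (Fin n) F) *ᵥ x =
        (z : Matrix (Fin n) (Fin n) F) *ᵥ (x + γ x • a) := by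
      rw [Units.val_mul, Units.val_mul, ← mulVec_mulVec, ← mulVec_mulVec, mulVec_add _ x, mulVec_smul, hza, hzx x,
        hzx (((E⁻¹ : GL (Fin n) F) : Matrix (Fin n) (Fin n) F) *ᵥ x), mulVec_add, mulVec_add, mulVec_smul,
        mulVec_smul, mulVec_inv_mulVec, hEu, hEmu]
      have hinv : ∀ w : Vs, h (((E⁻¹ : GL (Fin n) F) : Matrix (Fin n) (Fin n) F) *ᵥ x) w =
          h x ((E : Matrix (Fin n) (Fin n) F) *ᵥ w) := fun w => by
        conv_rhs => rw [← mulVec_inv_mulVec E x, apply_K hEK]
      rw [hinv, hinv, hEu, hEmu, herm_add_right hF, herm_add_right hF, hxa, add_zero, add_zero, hγ]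
      module
    rw [hz', Units.val_mul, ← mulVec_mulVec, h1, inv_mulVec_mulVec]
  have hzk : ∀ k, a k = 0 → (z' : Matrix (Fin n) (Fin n) F) *ᵥ Pi.single k 1 =
      Pi.single k 1 + γ (Pi.single k 1) • a := fun k hk =>
    hz'x _ (by rw [herm_single_left, hk, q_zero hF, mul_zero])
  obtain ⟨k₁, hk₁, hk₁L⟩ := Finset.exists_mem_notMem_of_card_lt_card (s := L) (t := A) (by omega)
  refine hK (eq_suGL_of_short hF (by omega) hH hM (H.mul_mem (H.inv_mem hzH) (H.mul_mem (H.mul_mem hE hzH) (H.inv_mem hE)))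
    (a := a) (Function.ne_iff.mpr ⟨b, ?_⟩) ?_ (fun k hk => ⟨_, hzk k hk⟩) (haL k₁ hk₁L) ?_ haL (by omega))
  · have hbL : b ∈ L := by by_contra hbn; exact hb (heL b hbn)
    simp [ha, sub_ne_zero.mpr hb, (hAmem b (hLA hbL)).1]
  · rw [← hz', hz'x a haa]
    simp [hγ, hau, hamu]
  · rw [← hz', hzk _ (haL k₁ hk₁L)]
    intro e'
    have hbL : b ∈ L := by by_contra hbn; exact hb (heL b hbn)
    have h1 := congrFun e' b
    simp [ha, sub_ne_zero.mpr hb, (hAmem b (hLA hbL)).1] at h1
    simp only [hγ, herm_single_left, one_mul, hAmu k₁ hk₁] at h1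
    have h3 : (ω + ω ^ q - 2) * (u k₁ ^ q * (1 - K)) = 0 := by linear_combination h1 - (u k₁ ^ q * K) * hω
    rcases mul_eq_zero.mp h3 with h4 | h4
    · exact hω1 (sub_eq_zero.mp (mul_self_eq_zero.mp (show (ω - 1) * (ω - 1) = 0 by linear_combination ω * h4 - hω)))
    · exact mul_ne_zero (pow_ne_zero _ (hAmem k₁ hk₁).1) (sub_ne_zero.mpr (Ne.symm hK1)) h4

/-- The monomial subgroup is maximal among its proper overgroups. -/
theorem eq_suGL_of_nonmono (hn : 10 ≤ n) (hH : H ≤ suGL n F q) (hM : ContainsMono q H) {g : GL (Fin n) F}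
    (hg : g ∈ H) (hgm : ¬ IsMono g) : H = suGL n F q := by
  classical
  rcases Nat.lt_or_ge q n with hnq | hnq
  · by_cases h2 : (2 : F) = 0
    · exact eq_suGL_of_even hF (by omega) (by omega) hnq h2 hH hM hg hgm
    · exact eq_suGL_of_odd hF hn hnq h2 hH hM hg hgm
  · exact eq_suGL_of_small hF hn hnq hH hM hg hgm

end Cfsg.Agent.Lib.UnitaryMax
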