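import Cfsg.Agent.Lib.UnitaryMax.FrameMain

/-!
Overgroups of the monomial subgroup of the special unitary group in dimension six.

For a column `u` with no zero entry a monomial element built on three transpositions maps `u` to a
vector orthogonal to it, so some non-monomial element of the overgroup has a zero entry.
-/

set_option autoImplicit false
set_option linter.unusedSectionVars false

namespace Cfsg.Agent.Lib.UnitaryMax

open Matrix Cfsg.Agent.Lib.Forms Cfsg.Agent.Lib.FormMax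

variable {F : Type*} [Field F] [Fintype F] {n q : ℕ}

local notation "Vs" => (Fin n → F)
local notation "h" => Cfsg.hermForm n F q

/-- Two rows with almost orthogonal columns are proportional. -/
theorem exists_ratio_of_gram (hn : 6 ≤ n) (v₁ v₂ : Fin n → F) (π : Fin n → Fin n) {c : F} (hc : c ≠ 0)
    (hone : ∀ p p', v₁ p = 0 → v₁ p' = 0 → p = p')
    (hrel : ∀ l p, p ≠ l → p ≠ π l → c * (v₁ l * v₁ p ^ q) + v₂ l * v₂ p ^ q = 0) :
    ∃ κ : F, ∀ l, v₂ l = κ * v₁ l := by
  classical
  set Z := Finset.univ.filter fun l : Fin n => v₁ l = 0 with hZ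
  have hZc : Z.card ≤ 1 := Finset.card_le_one.mpr fun p hp p' hp' =>
    hone p p' (Finset.mem_filter.mp hp).2 (Finset.mem_filter.mp hp').2
  obtain ⟨l₀, -, hl₀⟩ := Finset.exists_mem_notMem_of_card_lt_card (s := Z) (t := (Finset.univ : Finset (Fin n)))
    (by rw [Finset.card_univ, Fintype.card_fin]; omega)
  set S := (Z ∪ {l₀, π l₀})ᶜ with hS
  have hSc : 3 ≤ S.card := by
    have h1 := Finset.card_union_le Z {l₀, π l₀}
    have h2 := Finset.card_le_two (a := l₀) (b := π l₀)
    rw [hS, Finset.card_compl, Fintype.card_fin]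
    omega
  have hSmem : ∀ p ∈ S, v₁ p ≠ 0 ∧ p ≠ l₀ ∧ p ≠ π l₀ := fun p hp => by
    simp only [hS, hZ, Finset.mem_compl, Finset.mem_union, Finset.mem_filter, Finset.mem_univ, true_and,
      Finset.mem_insert, Finset.mem_singleton, not_or] at hp
    exact hp
  have hout : ∀ l, ∃ p ∈ S, p ≠ l ∧ p ≠ π l := fun l => by
    obtain ⟨p, hp, hp'⟩ := Finset.exists_mem_notMem_of_card_lt_card (s := ({l, π l} : Finset (Fin n))) (t := S)
      (by have := Finset.card_le_two (a := l) (b := π l); omega)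
    simp only [Finset.mem_insert, Finset.mem_singleton, not_or] at hp'
    exact ⟨p, hp, hp'⟩
  set κ : Fin n → F := fun l => v₂ l / v₁ l with hκ
  have hv0 : v₁ l₀ ≠ 0 := fun e => hl₀ (by simp [hZ, e])
  have hrelκ : ∀ l p, v₁ l ≠ 0 → v₁ p ≠ 0 → p ≠ l → p ≠ π l → κ l * κ p ^ q = -c := fun l p h1 h2 h3 h4 => by
    have := hrel l p h3 h4
    simp only [hκ, div_pow, div_mul_div_comm]
    rw [div_eq_iff (mul_ne_zero h1 (pow_ne_zero _ h2))]
    linear_combination this
  obtain ⟨p₀, hp₀⟩ := Finset.card_pos.mp (by omega : 0 < S.card)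
  obtain ⟨hp₀0, hp₀l, hp₀π⟩ := hSmem p₀ hp₀
  set κ₀ := κ p₀ with hκ₀
  have h00 := hrelκ l₀ p₀ hv0 hp₀0 hp₀l hp₀π
  rw [← hκ₀] at h00
  have hκ0 : κ₀ ^ q ≠ 0 := fun e => hc (by rw [e, mul_zero] at h00; exact neg_eq_zero.mp h00.symm)
  have hl0 : κ l₀ ≠ 0 := fun e => hc (by rw [e, zero_mul] at h00; exact neg_eq_zero.mp h00.symm)
  have hSq : ∀ p ∈ S, κ p ^ q = κ₀ ^ q := fun p hp => by
    obtain ⟨h1, h2, h3⟩ := hSmem p hp
    exact mul_left_cancel₀ hl0 ((hrelκ l₀ p hv0 h1 h2 h3).trans h00.symm)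
  obtain ⟨p₁, hp₁, hp₁0, hp₁π⟩ := hout p₀
  have hiso : κ₀ * κ₀ ^ q = -c := by
    have := hrelκ p₀ p₁ hp₀0 (hSmem p₁ hp₁).1 hp₁0 hp₁π
    rwa [hSq p₁ hp₁, ← hκ₀] at this
  refine ⟨κ₀, fun l => ?_⟩
  obtain ⟨p, hp, hpl, hpπ⟩ := hout l
  by_cases hl : v₁ l = 0
  · have hpp : v₂ p ^ q ≠ 0 := by
      have hp1 := hSq p hp
      intro e
      exact hκ0 (by rw [← hp1]; simp [hκ, div_pow, e])
    have := hrel l p hpl hpπ
    rw [hl, zero_mul, mul_zero, zero_add] at this
    rw [hl, mul_zero, (mul_eq_zero.mp this).resolve_right hpp]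
  · have := hrelκ l p hl (hSmem p hp).1 hpl hpπ
    rw [hSq p hp, ← hiso] at this
    rw [← mul_right_cancel₀ hκ0 this, hκ, div_mul_cancel₀ _ hl]

variable (hF : Fintype.card F = q ^ 2) {H : Subgroup (GL (Fin n) F)}
include hF

/-- Among three nonzero fixed elements two have a square product. -/
theorem exists_square_pair [DecidableEq F] {x y z : F} (hx : x ^ q = x) (hy : y ^ q = y) (hz : z ^ q = z)
    (hx0 : x ≠ 0) (hy0 : y ≠ 0) (hz0 : z ≠ 0) :
    ∃ s : F, s ^ q = s ∧ (s * s = x * y ∨ s * s = x * z ∨ s * s = y * z) := by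
  set Y := (fixedField q F).erase 0 with hY
  set X : F → Finset F := fun a => Y.image fun s => a * s * s with hX
  have hYc : Y.card + 1 = q := by
    rw [hY, Finset.card_erase_of_mem (mem_fixedField.mpr (q_zero hF)), card_fixedField hF]
    have := two_le_of_card_sq hF
    omega
  have hXc : ∀ a : F, a ≠ 0 → Y.card ≤ 2 * (X a).card := fun a ha =>
    Finset.card_le_mul_card_image_of_maps_to (fun s hs => Finset.mem_image_of_mem _ hs) 2 fun K _ =>
      le_trans (Finset.card_le_card fun s hs => by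
        simp only [Finset.mem_filter, Finset.mem_univ, true_and] at hs ⊢
        linear_combination hs.2) (card_quadratic_le (F := F) (a := a) (b := 0) (c := -K) ha)
  have hXs : ∀ a : F, a ^ q = a → a ≠ 0 → X a ⊆ Y := fun a ha ha0 w hw => by
    obtain ⟨s, hs, rfl⟩ := Finset.mem_image.mp hw
    obtain ⟨hs0, hs⟩ := Finset.mem_erase.mp hs
    exact Finset.mem_erase.mpr ⟨mul_ne_zero (mul_ne_zero ha0 hs0) hs0,
      mem_fixedField.mpr (by rw [mul_pow, mul_pow, ha, mem_fixedField.mp hs])⟩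
  have key : ∀ a b : F, a ^ q = a → b ^ q = b → ¬ Disjoint (X a) (X b) → ∃ s, s ^ q = s ∧ s * s = a * b := by
    intro a b ha hb hd
    obtain ⟨w, hwa, hwb⟩ := Finset.not_disjoint_iff.mp hd
    obtain ⟨s, hs, rfl⟩ := Finset.mem_image.mp hwa
    obtain ⟨t, ht, hts⟩ := Finset.mem_image.mp hwb
    obtain ⟨hs0, hs⟩ := Finset.mem_erase.mp hs
    obtain ⟨-, ht⟩ := Finset.mem_erase.mp ht
    refine ⟨b * t / s, by rw [div_pow, mul_pow, hb, mem_fixedField.mp ht, mem_fixedField.mp hs], ?_⟩
    field_simp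
    linear_combination b * hts
  by_contra hno
  have h12 : Disjoint (X x) (X y) := by
    by_contra hd; obtain ⟨s, hs, e⟩ := key x y hx hy hd; exact hno ⟨s, hs, Or.inl e⟩
  have h13 : Disjoint (X x) (X z) := by
    by_contra hd; obtain ⟨s, hs, e⟩ := key x z hx hz hd; exact hno ⟨s, hs, Or.inr (Or.inl e)⟩
  have h23 : Disjoint (X y) (X z) := by
    by_contra hd; obtain ⟨s, hs, e⟩ := key y z hy hz hd; exact hno ⟨s, hs, Or.inr (Or.inr e)⟩
  have h1 := Finset.card_le_card (Finset.union_subset (Finset.union_subset (hXs x hx hx0) (hXs y hy hy0))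
    (hXs z hz hz0))
  rw [Finset.card_union_of_disjoint (Finset.disjoint_union_left.mpr ⟨h13, h23⟩),
    Finset.card_union_of_disjoint h12] at h1
  have := hXc x hx0
  have := hXc y hy0
  have := hXc z hz0
  have := two_le_of_card_sq hF
  omega

/-- Elements of trace one with norms in a prescribed ratio. -/
theorem exists_common_trace_norm [DecidableEq F] {k k' : F} (hk : k ^ q = k) (hk' : k' ^ q = k') (hk0 : k ≠ 0)
    (hk'0 : k' ≠ 0) :
    ∃ x v v' : F, x ≠ 0 ∧ x ^ q = x ∧ v + v ^ q = 1 ∧ v' + v' ^ q = 1 ∧ v * v ^ q = k * x ∧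
      v' * v' ^ q = k' * x := by
  obtain ⟨τ, hτ⟩ := exists_trace_one hF
  obtain ⟨δ, hδ, hδ0⟩ := exists_skew_ne hF
  set N : F → F := fun s => (τ + δ * s) * (τ + δ * s) ^ q with hN
  have htr : ∀ s ∈ fixedField q F, (τ + δ * s) + (τ + δ * s) ^ q = 1 := fun s hs => by
    rw [q_add hF, mul_pow, mem_fixedField.mp hs]
    linear_combination hτ + s * hδ
  have hne : ∀ s ∈ fixedField q F, N s ≠ 0 := fun s hs e => by
    have h1 := htr s hs
    have h0 : τ + δ * s = 0 := by
      by_contra hne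
      exact mul_ne_zero hne (pow_ne_zero _ hne) e
    rw [h0, q_zero hF, add_zero] at h1
    exact zero_ne_one h1
  have hNc : q ≤ 2 * ((fixedField q F).image N).card := by
    calc q = (fixedField q F).card := (card_fixedField hF).symm
      _ ≤ _ := Finset.card_le_mul_card_image_of_maps_to (fun s hs => Finset.mem_image_of_mem _ hs) 2
          fun K _ => le_trans (Finset.card_le_card fun s hs => by
            simp only [Finset.mem_filter, mem_fixedField, Finset.mem_univ, true_and] at hs ⊢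
            obtain ⟨hs, hK⟩ := hs
            simp only [hN, q_add hF, mul_pow, hs] at hK
            linear_combination hK)
          (card_quadratic_le (F := F) (a := δ * δ ^ q) (b := τ * δ ^ q + δ * τ ^ q) (c := τ * τ ^ q - K)
            (mul_ne_zero hδ0 (pow_ne_zero _ hδ0)))
  set X : F → Finset F := fun a => ((fixedField q F).image N).image fun w => w / a with hX
  have hXc : ∀ a : F, a ≠ 0 → (X a).card = ((fixedField q F).image N).card := fun a ha =>
    Finset.card_image_of_injective _ fun w w' e => (div_left_inj' ha).mp e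
  have hXs : ∀ a : F, a ^ q = a → a ≠ 0 → X a ⊆ (fixedField q F).erase 0 := fun a ha ha0 w hw => by
    obtain ⟨w', hw', rfl⟩ := Finset.mem_image.mp hw
    obtain ⟨s, hs, rfl⟩ := Finset.mem_image.mp hw'
    exact Finset.mem_erase.mpr ⟨div_ne_zero (hne s hs) ha0,
      mem_fixedField.mpr (by rw [hN, div_pow, ha, mul_pow, pow_q_pow_q hF, mul_comm])⟩
  obtain ⟨x, hx, hx'⟩ : ∃ x, x ∈ X k ∧ x ∈ X k' := by
    by_contra hno
    push Not at hno
    have h1 := Finset.card_le_card (Finset.union_subset (hXs k hk hk0) (hXs k' hk' hk'0))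
    rw [Finset.card_union_of_disjoint (Finset.disjoint_left.mpr hno), hXc k hk0, hXc k' hk'0,
      Finset.card_erase_of_mem (mem_fixedField.mpr (q_zero hF)), card_fixedField hF] at h1
    have := two_le_of_card_sq hF
    omega
  obtain ⟨hx0, hxq⟩ := Finset.mem_erase.mp (hXs k hk hk0 hx)
  obtain ⟨w, hw, rfl⟩ := Finset.mem_image.mp hx
  obtain ⟨w', hw', hww⟩ := Finset.mem_image.mp hx'
  obtain ⟨s, hs, rfl⟩ := Finset.mem_image.mp hw
  obtain ⟨s', hs', rfl⟩ := Finset.mem_image.mp hw'
  exact ⟨N s / k, τ + δ * s, τ + δ * s', hx0, mem_fixedField.mp hxq, htr s hs, htr s' hs',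
    (mul_div_cancel₀ _ hk0).symm, by rw [← hww, mul_div_cancel₀ _ hk'0]⟩

/-- The entries of the inverse are the conjugate transposed ones. -/
theorem inv_entry {g : GL (Fin n) F} (hg : g ∈ suGL n F q) (k l : Fin n) :
    (((g⁻¹ : GL (Fin n) F) : Matrix (Fin n) (Fin n) F) *ᵥ Pi.single k 1) l =
      ((g : Matrix (Fin n) (Fin n) F) *ᵥ Pi.single l 1) k ^ q := by
  have hq0 := q_ne_zero hF
  have h1 := apply_K hg (Pi.single l 1) (((g⁻¹ : GL (Fin n) F) : Matrix (Fin n) (Fin n) F) *ᵥ Pi.single k 1)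
  rw [mulVec_inv_mulVec, herm_single_right hq0, herm_single_left, one_pow, mul_one, one_mul] at h1
  rw [h1, pow_q_pow_q hF]

/-- A diagonal element with two eigenvalues on a pair and its complement does not stay monomial. -/
theorem not_isMono_pair_conj (hn : 6 ≤ n) {g : GL (Fin n) F} (hg : g ∈ suGL n F q)
    (hfull : ∀ l k, ((g : Matrix (Fin n) (Fin n) F) *ᵥ Pi.single l 1) k ≠ 0) {a b : Fin n} (hab : a ≠ b)
    {μ ν : F} (hμν : μ ≠ ν) {D : GL (Fin n) F}
    (hD : ∀ x l, ((D : Matrix (Fin n) (Fin n) F) *ᵥ x) l = (if l = a ∨ l = b then μ else ν) * x l) :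
    ¬ IsMono (g⁻¹ * D * g) := by
  classical
  intro hy
  have hq0 := q_ne_zero hF
  obtain ⟨π, c, -, -, hπ⟩ := hy.exists_map
  have hgy : ∀ x : Vs, (g : Matrix (Fin n) (Fin n) F) *ᵥ (((g⁻¹ * D * g : GL (Fin n) F) : Matrix (Fin n) (Fin n) F) *ᵥ x) =
      (D : Matrix (Fin n) (Fin n) F) *ᵥ ((g : Matrix (Fin n) (Fin n) F) *ᵥ x) := fun x => by
    rw [Units.val_mul, Units.val_mul, ← mulVec_mulVec, ← mulVec_mulVec, mulVec_inv_mulVec]
  have hh : ∀ x z : Vs, h ((D : Matrix (Fin n) (Fin n) F) *ᵥ x) z =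
      ν * h x z + (μ - ν) * (x a * z a ^ q + x b * z b ^ q) := fun x z => by
    simp only [Cfsg.hermForm, hD]
    rw [show x a * z a ^ q + x b * z b ^ q = ∑ l ∈ ({a, b} : Finset (Fin n)), x l * z l ^ q from
      (Finset.sum_pair (f := fun l => x l * z l ^ q) hab).symm, ← Finset.sum_filter_add_sum_filter_not Finset.univ (fun l => l = a ∨ l = b),
      ← Finset.sum_filter_add_sum_filter_not Finset.univ (fun l => l = a ∨ l = b) (fun l => x l * z l ^ q),
      show (Finset.univ.filter fun l => l = a ∨ l = b) = {a, b} by ext l; simp,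
      Finset.sum_congr rfl (g := fun l => μ * (x l * z l ^ q)) (fun l hl => by
        simp only [Finset.mem_insert, Finset.mem_singleton] at hl
        rw [if_pos hl]; ring),
      Finset.sum_congr (rfl : (Finset.univ.filter fun l => ¬ (l = a ∨ l = b)) = _)
        (g := fun l => ν * (x l * z l ^ q)) (fun l hl => by
        rw [if_neg (Finset.mem_filter.mp hl).2]; ring), ← Finset.mul_sum, ← Finset.mul_sum]
    ring
  set col : Fin n → Vs := fun l => (g : Matrix (Fin n) (Fin n) F) *ᵥ Pi.single l 1 with hcol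
  have hrel : ∀ l p, p ≠ l → p ≠ π l → col l a * col p a ^ q + col l b * col p b ^ q = 0 := fun l p hpl hpπ => by
    have h1 : h ((D : Matrix (Fin n) (Fin n) F) *ᵥ col l) (col p) = 0 := by
      rw [hcol, ← hgy, apply_K hg, herm_single_right hq0, hπ, Pi.smul_apply, Pi.single_eq_of_ne hpπ, smul_zero,
        zero_mul]
    have h2 : h (col l) (col p) = 0 := by
      rw [hcol, apply_K hg, herm_single_right hq0, Pi.single_eq_of_ne hpl, zero_mul]
    rw [hh, h2, mul_zero, zero_add] at h1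
    exact (mul_eq_zero.mp h1).resolve_left (sub_ne_zero.mpr hμν)
  obtain ⟨κ, hκ⟩ := exists_ratio_of_gram (q := q) hn (fun l => col l a) (fun l => col l b) π one_ne_zero
    (fun p _ e => absurd e (hfull p a)) fun l p h1 h2 => by rw [one_mul]; exact hrel l p h1 h2
  have hlin : ∀ x : Vs, ((g : Matrix (Fin n) (Fin n) F) *ᵥ x) b = κ * ((g : Matrix (Fin n) (Fin n) F) *ᵥ x) a :=
    fun x => by
      rw [mulVec_eq_sum_col, mulVec_eq_sum_col, Finset.mul_sum]
      exact Finset.sum_congr rfl fun l _ => by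
        have := hκ l
        simp only [hcol] at this
        rw [this]; ring
  have := hlin (((g⁻¹ : GL (Fin n) F) : Matrix (Fin n) (Fin n) F) *ᵥ Pi.single b 1)
  rw [mulVec_inv_mulVec, Pi.single_eq_same, Pi.single_eq_of_ne hab, mul_zero] at this
  exact one_ne_zero this

/-- An element with a zero entry. -/
theorem eq_suGL_of_entry_zero [DecidableEq F] (hn : n = 6) (hq : 3 ≤ q) (hH : H ≤ suGL n F q)
    (hM : ContainsMono q H) {g : GL (Fin n) F} (hg : g ∈ H) (hgm : ¬ IsMono g) {i k : Fin n}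
    (hik : ((g : Matrix (Fin n) (Fin n) F) *ᵥ Pi.single i 1) k = 0) : H = suGL n F q := by
  classical
  by_contra hK
  have hn6 : 6 ≤ n := by omega
  have hq0 := q_ne_zero hF
  set col : Fin n → Vs := fun l => (g : Matrix (Fin n) (Fin n) F) *ᵥ Pi.single l 1 with hcol
  have hcolz : ∀ p, p ≠ k → col i p ≠ 0 := fun p hp e =>
    hK (eq_suGL_of_two_zeros hF hn6 hq hH hM hg hgm hp e hik)
  have hrowz : ∀ l, l ≠ i → col l k ≠ 0 := fun l hl e =>
    hK (eq_suGL_of_two_zeros hF hn6 hq hH hM (H.inv_mem hg) (fun hm => hgm (by simpa using hm.inv)) hl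
      (j := k) (by rw [inv_entry hF (hH hg)]; exact by rw [show (g : Matrix (Fin n) (Fin n) F) *ᵥ Pi.single l 1 = col l from rfl, e, q_zero hF])
      (by rw [inv_entry hF (hH hg), hik, q_zero hF]))
  -- it suffices to give a monomial element scaling the column
  have hfin : ∀ D ∈ H, ∀ μ : F, (D : Matrix (Fin n) (Fin n) F) *ᵥ col i = μ • col i →
      ¬ IsMono (g⁻¹ * D * g) → False := fun D hD μ hDi hym => hK (eq_suGL_of_fix hF hn6 hH hM
      (H.mul_mem (H.mul_mem (H.inv_mem hg) hD) hg) hym (m := i) (c := μ) (by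
        rw [Units.val_mul, Units.val_mul, ← mulVec_mulVec, ← mulVec_mulVec,
          show (g : Matrix (Fin n) (Fin n) F) *ᵥ Pi.single i 1 = col i from rfl, hDi, mulVec_smul, hcol,
          inv_mulVec_mulVec]))
  by_cases hμ6 : ∃ μ ∈ normOne q F, μ ^ n ≠ 1
  · obtain ⟨μ, hμ, hμn⟩ := hμ6
    have hμ' := mem_normOne.mp hμ
    set ν := (μ ^ (n - 1)) ^ q with hν
    have hν1 : μ ^ (n - 1) * ν = 1 := by rw [hν, pow_right_comm, ← mul_pow, hμ', one_pow]
    have hνn : ν * ν ^ q = 1 := by rw [hν, pow_q_pow_q hF, mul_comm]; exact hν1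
    have hνμ : ν - μ ≠ 0 := sub_ne_zero.mpr fun e => hμn (by
      rw [show n = n - 1 + 1 by omega, pow_succ]; nth_rewrite 2 [← e]; exact hν1)
    set d : Vs := Function.update (fun _ => μ) k ν with hd
    obtain ⟨D, hD, -, -, hDx⟩ := exists_diagElt hM d (fun l => by
        rcases eq_or_ne l k with rfl | hl
        · simp [hd, hνn]
        · simp [hd, hl, hμ']) (by
        rw [← Finset.mul_prod_erase Finset.univ d (Finset.mem_univ k),
          Finset.prod_congr rfl (fun l hl => show d l = μ from Function.update_of_ne (Finset.ne_of_mem_erase hl) _ _),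
          Finset.prod_const, Finset.card_erase_of_mem (Finset.mem_univ k), Finset.card_univ, Fintype.card_fin,
          show d k = ν from Function.update_self _ _ _, mul_comm]
        exact hν1)
    refine hfin D hD μ (funext fun p => ?_) fun hy => ?_
    · rw [hDx, Pi.smul_apply, smul_eq_mul]
      rcases eq_or_ne p k with rfl | hp
      · rw [show col i p = 0 from hik, mul_zero, mul_zero]
      · simp [hd, hp]
    obtain ⟨π, c, -, -, hπ⟩ := hy.exists_map
    obtain ⟨l, hl⟩ := exists_col_ne g k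
    obtain ⟨p, -, hp⟩ := Finset.exists_mem_notMem_of_card_lt_card (s := ({l, π l, i} : Finset (Fin n)))
      (t := (Finset.univ : Finset (Fin n))) (by
        rw [Finset.card_univ, Fintype.card_fin]
        have := Finset.card_le_three (a := l) (b := π l) (c := i)
        omega)
    simp only [Finset.mem_insert, Finset.mem_singleton, not_or] at hp
    have h2 : h (col l) (col p) = 0 := by
      rw [hcol, apply_K (hH hg), herm_single_right hq0, Pi.single_eq_of_ne hp.1, zero_mul]
    have h1 : h ((D : Matrix (Fin n) (Fin n) F) *ᵥ col l) (col p) = 0 := by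
      have e : (D : Matrix (Fin n) (Fin n) F) *ᵥ col l = (g : Matrix (Fin n) (Fin n) F) *ᵥ
          (((g⁻¹ * D * g : GL (Fin n) F) : Matrix (Fin n) (Fin n) F) *ᵥ Pi.single l 1) := by
        rw [Units.val_mul, Units.val_mul, ← mulVec_mulVec, ← mulVec_mulVec, mulVec_inv_mulVec]
      rw [e, hπ, hcol, apply_K (hH hg), herm_single_right hq0, Pi.smul_apply, Pi.single_eq_of_ne hp.2.1, smul_zero,
        zero_mul]
    have h3 : (D : Matrix (Fin n) (Fin n) F) *ᵥ col l = μ • col l + ((ν - μ) * col l k) • Pi.single k 1 := by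
      funext o
      rw [hDx]
      rcases eq_or_ne o k with rfl | ho
      · simp [hd]; ring
      · simp [hd, ho]
    rw [h3, herm_add_left hF, herm_smul_left hF, herm_smul_left hF, h2, mul_zero, zero_add, herm_single_left,
      one_mul] at h1
    exact mul_ne_zero (mul_ne_zero hνμ hl) (pow_ne_zero _ (hrowz p hp.2.2)) h1
  -- only five elements: a transposition
  push Not at hμ6
  have hq5 : q = 5 := by
    obtain ⟨ω, hω, hω1, hω2, -⟩ := exists_omega hF
    have hω6 : ω ^ 6 = 1 := hn ▸ hμ6 ω hω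
    have hsub : normOne q F ⊆ (Polynomial.nthRoots 6 (1 : F)).toFinset := fun x hx => by
      rw [Multiset.mem_toFinset, Polynomial.mem_nthRoots (by norm_num)]; exact hn ▸ hμ6 x hx
    have h1 := Finset.card_le_card hsub
    have h2 := Multiset.toFinset_card_le (Polynomial.nthRoots 6 (1 : F))
    have h3 := Polynomial.card_nthRoots 6 (1 : F)
    rw [card_normOne hF] at h1
    have hωq : ω ^ (q + 1) = 1 := by rw [pow_succ']; exact mem_normOne.mp hω
    by_contra hne
    have hq34 : q = 3 ∨ q = 4 := by omega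
    rcases hq34 with e | e <;> subst e
    · rcases mul_self_eq_one_iff.mp (show ω * ω = 1 by linear_combination hω6 - (ω ^ 2) * hωq) with e' | e'
      · exact hω1 e'
      · exact hω2 e'
    · exact hω1 (by linear_combination hω6 - ω * hωq)
  have h2 : (2 : F) ≠ 0 := fun e => by
    have h25 := FiniteField.cast_card_eq_zero F
    rw [hF, hq5] at h25
    push_cast at h25
    exact one_ne_zero (show (1 : F) = 0 by linear_combination h25 - 12 * e)
  set N : Fin n → F := fun l => col i l * col i l ^ q with hN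
  set A := (Finset.univ : Finset (Fin n)).erase k with hA
  obtain ⟨a, ha, b, hb, hab, hr⟩ := Finset.exists_ne_map_eq_of_card_lt_of_maps_to
    (show ((fixedField q F).erase 0).card < A.card by
      rw [hA, Finset.card_erase_of_mem (Finset.mem_univ k), Finset.card_univ, Fintype.card_fin,
        Finset.card_erase_of_mem (mem_fixedField.mpr (q_zero hF)), card_fixedField hF]
      omega) (f := N) (fun l hl => Finset.mem_coe.mpr (Finset.mem_erase.mpr
        ⟨mul_ne_zero (hcolz l (Finset.ne_of_mem_erase hl)) (pow_ne_zero _ (hcolz l (Finset.ne_of_mem_erase hl))),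
          mem_fixedField.mpr (by rw [hN, mul_pow, pow_q_pow_q hF, mul_comm])⟩))
  have hak := Finset.ne_of_mem_erase ha
  have hbk := Finset.ne_of_mem_erase hb
  set θ := col i a / col i b with hθ
  have hua := hcolz a hak
  have hub := hcolz b hbk
  have hθ1 : θ * θ ^ q = 1 := by
    rw [hθ, div_pow, div_mul_div_comm, show col i a * col i a ^ q = col i b * col i b ^ q from hr, div_self]
    exact mul_ne_zero hub (pow_ne_zero _ hub)
  set d : Vs := fun l => if l = a then θ else if l = b then θ ^ q else if l = k then -1 else 1 with hd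
  have hda : d a = θ := by simp [hd]
  have hdb : d b = θ ^ q := by simp [hd, hab.symm]
  have hdk : d k = -1 := by simp [hd, hak.symm, hbk.symm]
  have hdo : ∀ l, l ≠ a → l ≠ b → l ≠ k → d l = 1 := fun l h1 h2 h3 => by simp [hd, h1, h2, h3]
  obtain ⟨D, hD, -, -, hDx⟩ := exists_monoElt hM (Equiv.swap a b) d (fun l => by
      simp only [hd]
      split_ifs
      · exact hθ1
      · rw [pow_q_pow_q hF, mul_comm, hθ1]
      · rw [q_neg hF, one_pow, neg_mul_neg, one_mul]
      · rw [one_pow, one_mul]) (by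
      rw [← Finset.prod_subset (Finset.subset_univ {a, b, k}) (fun l _ hl => by
        simp only [Finset.mem_insert, Finset.mem_singleton, not_or] at hl
        exact hdo l hl.1 hl.2.1 hl.2.2), Finset.prod_insert (by simp [hab, hak]), Finset.prod_pair hbk, hda, hdb, hdk,
        Equiv.Perm.sign_swap hab]
      push_cast
      linear_combination hθ1)
  have hDa : ∀ x : Vs, ((D : Matrix (Fin n) (Fin n) F) *ᵥ x) a = θ * x b := fun x => by
    rw [hDx, hda, Equiv.swap_apply_left]
  have hDb : ∀ x : Vs, ((D : Matrix (Fin n) (Fin n) F) *ᵥ x) b = θ ^ q * x a := fun x => by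
    rw [hDx, hdb, Equiv.swap_apply_right]
  have hDk : ∀ x : Vs, ((D : Matrix (Fin n) (Fin n) F) *ᵥ x) k = -x k := fun x => by
    rw [hDx, hdk, Equiv.swap_apply_of_ne_of_ne hak.symm hbk.symm, neg_one_mul]
  have hDo : ∀ (x : Vs) l, l ≠ a → l ≠ b → l ≠ k → ((D : Matrix (Fin n) (Fin n) F) *ᵥ x) l = x l :=
    fun x l h1 h2 h3 => by rw [hDx, hdo l h1 h2 h3, Equiv.swap_apply_of_ne_of_ne h1 h2, one_mul]
  refine hfin D hD 1 (funext fun p => ?_) fun hy => ?_
  · rw [one_smul]
    rcases eq_or_ne p a with rfl | hpa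
    · rw [hDa, hθ, div_mul_cancel₀ _ hub]
    rcases eq_or_ne p b with rfl | hpb
    · rw [hDb]
      have : θ * col i p = col i a := by rw [hθ, div_mul_cancel₀ _ hub]
      linear_combination -(θ ^ q) * this + (col i p) * hθ1
    rcases eq_or_ne p k with rfl | hpk
    · rw [hDk, show col i p = 0 from hik, neg_zero]
    · exact hDo _ p hpa hpb hpk
  obtain ⟨π, c, -, -, hπ⟩ := hy.exists_map
  set L : Vs → F := fun x => x a - θ * x b with hL
  have hh : ∀ x z : Vs, h x z - h ((D : Matrix (Fin n) (Fin n) F) *ᵥ x) z =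
      2 * (x k * z k ^ q) + L x * L z ^ q := fun x z => by
    simp only [Cfsg.hermForm]
    rw [← Finset.sum_sub_distrib, ← Finset.sum_subset (Finset.subset_univ {a, b, k}) (fun l _ hl => by
      simp only [Finset.mem_insert, Finset.mem_singleton, not_or] at hl
      rw [hDo x l hl.1 hl.2.1 hl.2.2, sub_self]), Finset.sum_insert (by simp [hab, hak]), Finset.sum_pair hbk,
      hDa, hDb, hDk, hL, q_sub hF, mul_pow]
    linear_combination -(x b * z b ^ q) * hθ1
  obtain ⟨κ, hκ⟩ := exists_ratio_of_gram (q := q) hn6 (fun l => col l k) (fun l => L (col l)) π h2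
    (fun p p' e e' => by
      have h1 : p = i := by by_contra hp; exact hrowz p hp e
      have h2 : p' = i := by by_contra hp; exact hrowz p' hp e'
      rw [h1, h2])
    (fun l p hpl hpπ => by
      rw [← hh]
      have e : (D : Matrix (Fin n) (Fin n) F) *ᵥ col l = (g : Matrix (Fin n) (Fin n) F) *ᵥ
          (((g⁻¹ * D * g : GL (Fin n) F) : Matrix (Fin n) (Fin n) F) *ᵥ Pi.single l 1) := by
        rw [Units.val_mul, Units.val_mul, ← mulVec_mulVec, ← mulVec_mulVec, mulVec_inv_mulVec]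
      rw [e, hπ, hcol, apply_K (hH hg), apply_K (hH hg), herm_single_right hq0, herm_single_right hq0,
        Pi.smul_apply, Pi.single_eq_of_ne hpπ, Pi.single_eq_of_ne hpl, smul_zero, zero_mul, sub_self])
  have hlin : ∀ x : Vs, L ((g : Matrix (Fin n) (Fin n) F) *ᵥ x) = κ * ((g : Matrix (Fin n) (Fin n) F) *ᵥ x) k :=
    fun x => by
      simp only [hL]
      rw [mulVec_eq_sum_col g x a, mulVec_eq_sum_col g x b, mulVec_eq_sum_col g x k, Finset.mul_sum,
        Finset.mul_sum, ← Finset.sum_sub_distrib]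
      exact Finset.sum_congr rfl fun l _ => by
        have := hκ l
        simp only [hcol, hL] at this
        linear_combination (x l) * this
  have := hlin (((g⁻¹ : GL (Fin n) F) : Matrix (Fin n) (Fin n) F) *ᵥ Pi.single a 1)
  rw [mulVec_inv_mulVec, hL] at this
  simp [hab.symm, hak.symm] at this

/-- The three transpositions used on a full column. -/
theorem exists_orthogonal_shift [DecidableEq F] (hn : n = 6) (hq : 3 ≤ q) (hM : ContainsMono q H) (u : Vs)
    (hu : ∀ l, u l ≠ 0) :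
    ∃ (m D : GL (Fin n) F) (a b : Fin n) (μ ν : F), m ∈ H ∧ D ∈ H ∧ a ≠ b ∧ μ ≠ ν ∧
      (∀ x l, ((D : Matrix (Fin n) (Fin n) F) *ᵥ x) l = (if l = a ∨ l = b then μ else ν) * x l) ∧
      h ((m : Matrix (Fin n) (Fin n) F) *ᵥ u) u = 0 ∧
      h (((D * m : GL (Fin n) F) : Matrix (Fin n) (Fin n) F) *ᵥ u) u = 0 := by
  classical
  subst hn
  set r : Fin 6 → F := fun l => u l * u l ^ q with hr
  have hrq : ∀ l, r l ^ q = r l := fun l => by rw [hr, mul_pow, pow_q_pow_q hF, mul_comm]
  have hr0 : ∀ l, r l ≠ 0 := fun l => mul_ne_zero (hu l) (pow_ne_zero _ (hu l))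
  obtain ⟨σ, s, hsq, hss⟩ : ∃ (σ : Equiv.Perm (Fin 6)) (s : F), s ^ q = s ∧ s * s = r (σ 0) * r (σ 1) := by
    obtain ⟨s, hs, e | e | e⟩ := exists_square_pair hF (hrq 0) (hrq 1) (hrq 2) (hr0 0) (hr0 1) (hr0 2)
    · exact ⟨1, s, hs, e⟩
    · exact ⟨Equiv.swap 1 2, s, hs, by
        rw [Equiv.swap_apply_left, Equiv.swap_apply_of_ne_of_ne (by decide) (by decide)]; exact e⟩
    · exact ⟨Equiv.swap 0 2, s, hs, by
        rw [Equiv.swap_apply_left, Equiv.swap_apply_of_ne_of_ne (by decide) (by decide), e, mul_comm]⟩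
  set U : Fin 6 → F := fun p => u (σ p) with hU
  set R : Fin 6 → F := fun p => r (σ p) with hR
  obtain ⟨x, v, v', hx0, hxq, hv, hv', hNv, hNv'⟩ := exists_common_trace_norm hF
    (k := R 2 * R 3) (k' := R 4 * R 5) (by rw [mul_pow, hrq, hrq]) (by rw [mul_pow, hrq, hrq])
    (mul_ne_zero (hr0 _) (hr0 _)) (mul_ne_zero (hr0 _) (hr0 _))
  obtain ⟨A, hA⟩ := exists_norm_eq (qPowHom_ne_id hF) (qPowHom_qPowHom hF) (c := x⁻¹)
    (by rw [qPowHom_apply, inv_pow, hxq])
  rw [qPowHom_apply] at hA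
  have hA0 : A ≠ 0 := fun e => inv_ne_zero hx0 (by rw [← hA, e, zero_mul])
  have hAx : x * (A * A ^ q) = 1 := by rw [hA, mul_inv_cancel₀ hx0]
  set z₀ := s / (x * A * A) with hz₀
  have hz₀N : z₀ * z₀ ^ q = R 0 * R 1 := by
    rw [hz₀, div_pow, div_mul_div_comm, hsq, mul_pow, mul_pow, hxq,
      show x * A * A * (x * A ^ q * A ^ q) = (x * (A * A ^ q)) * (x * (A * A ^ q)) by ring, hAx, one_mul, div_one]
    exact hss
  set z : Fin 6 → F := ![z₀, -z₀, v * A, v ^ q * A, -(v' * A), -(v' ^ q * A)] with hz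
  set π₀ : Equiv.Perm (Fin 6) := Equiv.swap 0 1 * Equiv.swap 2 3 * Equiv.swap 4 5 with hπ₀
  have e0 : π₀ 0 = 1 := by rw [hπ₀]; decide
  have e1 : π₀ 1 = 0 := by rw [hπ₀]; decide
  have e2 : π₀ 2 = 3 := by rw [hπ₀]; decide
  have e3 : π₀ 3 = 2 := by rw [hπ₀]; decide
  have e4 : π₀ 4 = 5 := by rw [hπ₀]; decide
  have e5 : π₀ 5 = 4 := by rw [hπ₀]; decide
  have hzN : ∀ p, z p * z p ^ q = R p * R (π₀ p) := by
    intro p
    fin_cases p <;> simp [hz, e0, e1, e2, e3, e4, e5, q_neg hF, mul_pow, pow_q_pow_q hF]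
    · exact hz₀N
    · linear_combination hz₀N
    · linear_combination (A * A ^ q) * hNv + (R 2 * R 3) * hAx
    · linear_combination (A * A ^ q) * hNv + (R 2 * R 3) * hAx
    · linear_combination (A * A ^ q) * hNv' + (R 4 * R 5) * hAx
    · linear_combination (A * A ^ q) * hNv' + (R 4 * R 5) * hAx
  set W : Fin 6 → F := fun p => U (π₀ p) * U p ^ q with hW
  have hW0 : ∀ p, W p ≠ 0 := fun p => mul_ne_zero (hu _) (pow_ne_zero _ (hu _))
  set t : Fin 6 → F := fun p => z p / W p with ht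
  have htn : ∀ p, t p * t p ^ q = 1 := fun p => by
    rw [ht, div_pow, div_mul_div_comm, hzN, div_eq_one_iff_eq (mul_ne_zero (hW0 p) (pow_ne_zero _ (hW0 p)))]
    simp only [hR, hr, hW, hU, mul_pow, pow_q_pow_q hF]
    ring
  have hwprod : ∏ p, W p = ∏ p, R p := by
    simp only [hW, Finset.prod_mul_distrib, hR, hr, hU]
    rw [Equiv.prod_comp π₀ (fun p => u (σ p))]
  have htp : ∏ p, t p = -1 := by
    rw [ht, Finset.prod_div_distrib, hwprod, div_eq_iff (Finset.prod_ne_zero_iff.mpr fun p _ => hr0 _),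
      Fin.prod_univ_six, Fin.prod_univ_six]
    have hz2 : z₀ * z₀ * (x * x) * (A * A * (A * A)) = R 0 * R 1 := by
      rw [show z₀ * z₀ * (x * x) * (A * A * (A * A)) = (z₀ * (x * A * A)) * (z₀ * (x * A * A)) by ring, hz₀,
        div_mul_cancel₀ _ (mul_ne_zero (mul_ne_zero hx0 hA0) hA0)]
      exact hss
    simp [hz]
    linear_combination (z₀ * z₀ * A * A * A * A * (v' * v' ^ q)) * hNv +
      (z₀ * z₀ * A * A * A * A * (R 2 * R 3) * x) * hNv' + (R 2 * R 3 * (R 4 * R 5)) * hz2
  obtain ⟨ζ, hζ, hζ3⟩ : ∃ ζ ∈ normOne q F, ζ ^ 3 ≠ 1 := by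
    by_contra hno
    push Not at hno
    have h1 := Finset.card_le_card (show normOne q F ⊆ (Polynomial.nthRoots 3 (1 : F)).toFinset from fun w hw => by
      rw [Multiset.mem_toFinset, Polynomial.mem_nthRoots (by norm_num)]; exact hno w hw)
    have h2 := Multiset.toFinset_card_le (Polynomial.nthRoots 3 (1 : F))
    have h3 := Polynomial.card_nthRoots 3 (1 : F)
    rw [card_normOne hF] at h1
    omega
  have hζ' := mem_normOne.mp hζ
  set η := ζ ^ q * ζ ^ q with hη
  have hηn : η * η ^ q = 1 := by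
    rw [hη, mul_pow, pow_q_pow_q hF]; linear_combination (ζ * ζ ^ q + 1) * hζ'
  have hηζ : η ≠ ζ := fun e => hζ3 (by
    rw [hη] at e; linear_combination -(ζ * ζ) * e + (ζ * ζ ^ q + 1) * hζ')
  set ev : Fin 6 → F := fun p => if p = 0 ∨ p = 1 then η else ζ with hev
  have hevn : ∀ p, ev p * ev p ^ q = 1 := fun p => by rw [hev]; dsimp only; split_ifs <;> assumption
  have hevp : ∏ p, ev p = 1 := by
    rw [Fin.prod_univ_six]
    simp [hev, hη]
    linear_combination (ζ * ζ ^ q + 1) * ((ζ * ζ ^ q) ^ 2 + 1) * hζ'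
  obtain ⟨m, hm, -, -, hmx⟩ := exists_monoElt hM (σ * π₀ * σ⁻¹) (fun l => t (σ.symm l)) (fun l => htn _) (by
    rw [Equiv.prod_comp σ.symm t, htp, map_mul, map_mul, map_inv, hπ₀, map_mul, map_mul,
      Equiv.Perm.sign_swap (by decide : (0 : Fin 6) ≠ 1), Equiv.Perm.sign_swap (by decide : (2 : Fin 6) ≠ 3),
      Equiv.Perm.sign_swap (by decide : (4 : Fin 6) ≠ 5)]
    rcases Int.units_eq_one_or (Equiv.Perm.sign σ) with e | e <;> rw [e] <;> simp)
  obtain ⟨D, hD, -, -, hDx⟩ := exists_diagElt hM (fun l => ev (σ.symm l)) (fun l => hevn _)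
    (by rw [Equiv.prod_comp σ.symm ev, hevp])
  refine ⟨m, D, σ 0, σ 1, η, ζ, hm, hD, σ.injective.ne (by decide), hηζ, fun y l => ?_, ?_, ?_⟩
  · rw [hDx]
    congr 1
    simp only [hev, Equiv.symm_apply_eq]
  all_goals rw [Cfsg.hermForm, ← Equiv.sum_comp σ]
  · calc _ = ∑ p, z p := Finset.sum_congr rfl fun p _ => by
          rw [hmx, Equiv.symm_apply_apply, Equiv.Perm.mul_apply, Equiv.Perm.mul_apply,
            show σ⁻¹ (σ p) = p from Equiv.symm_apply_apply σ p]
          have := div_mul_cancel₀ (z p) (hW0 p)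
          simp only [ht]
          rw [mul_assoc]
          exact this
      _ = 0 := by
          rw [Fin.sum_univ_six]; simp [hz]
          linear_combination A * hv - A * hv'
  · calc _ = ∑ p, ev p * z p := Finset.sum_congr rfl fun p _ => by
          rw [Units.val_mul, ← mulVec_mulVec, hDx, hmx, Equiv.symm_apply_apply, Equiv.Perm.mul_apply,
            Equiv.Perm.mul_apply, show σ⁻¹ (σ p) = p from Equiv.symm_apply_apply σ p]
          have := div_mul_cancel₀ (z p) (hW0 p)
          simp only [ht]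
          rw [mul_assoc, mul_assoc]
          exact congrArg _ this
      _ = 0 := by
          rw [Fin.sum_univ_six]; simp [hz, hev]
          linear_combination (ζ * A) * hv - (ζ * A) * hv'

/-- The monomial subgroup in dimension six. -/
theorem eq_suGL_of_six [DecidableEq F] (hn : n = 6) (hq : 3 ≤ q) (hH : H ≤ suGL n F q) (hM : ContainsMono q H)
    {g : GL (Fin n) F} (hg : g ∈ H) (hgm : ¬ IsMono g) : H = suGL n F q := by
  classical
  have hq0 := q_ne_zero hF
  by_cases hzero : ∃ i k, ((g : Matrix (Fin n) (Fin n) F) *ᵥ Pi.single i 1) k = 0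
  · obtain ⟨i, k, hik⟩ := hzero
    exact eq_suGL_of_entry_zero hF hn hq hH hM hg hgm hik
  push Not at hzero
  set j : Fin n := ⟨0, by omega⟩
  obtain ⟨m, D, a, b, μ, ν, hm, hD, hab, hμν, hDx, hmu, hDmu⟩ :=
    exists_orthogonal_shift hF hn hq hM ((g : Matrix (Fin n) (Fin n) F) *ᵥ Pi.single j 1) (hzero j)
  have hstep : ∀ y ∈ H, h ((y : Matrix (Fin n) (Fin n) F) *ᵥ ((g : Matrix (Fin n) (Fin n) F) *ᵥ Pi.single j 1))
      ((g : Matrix (Fin n) (Fin n) F) *ᵥ Pi.single j 1) = 0 → ¬ IsMono (g⁻¹ * y * g) → H = suGL n F q := by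
    intro y hy hyu hym
    refine eq_suGL_of_entry_zero hF hn hq hH hM (H.mul_mem (H.mul_mem (H.inv_mem hg) hy) hg) hym (i := j) (k := j) ?_
    rw [← mulVec_inv_mulVec g ((y : Matrix (Fin n) (Fin n) F) *ᵥ _), apply_K (hH hg), herm_single_right hq0,
      one_pow, mul_one] at hyu
    rw [Units.val_mul, Units.val_mul, ← mulVec_mulVec, ← mulVec_mulVec]
    exact hyu
  by_cases h1 : IsMono (g⁻¹ * m * g)
  · refine hstep _ (H.mul_mem hD hm) hDmu fun h2 => ?_
    refine not_isMono_pair_conj hF (by omega) (hH hg) hzero hab hμν hDx ?_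
    have := h2.mul h1.inv
    rwa [show g⁻¹ * (D * m) * g * (g⁻¹ * m * g)⁻¹ = g⁻¹ * D * g by group] at this
  · exact hstep m hm hmu h1

end Cfsg.Agent.Lib.UnitaryMax
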